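import Groth.Agent.Lib.Helper5.RDerShift
import Mathlib.Algebra.Homology.DerivedCategory.Ext.EnoughInjectives
import Mathlib.CategoryTheory.Preadditive.Yoneda.Limits
import Mathlib.Algebra.Homology.ShortComplex.Ab
import Mathlib.Algebra.Category.Grp.EpiMono
import Mathlib.GroupTheory.QuotientGroup.Basic

/-!
# `Ext^n(X, Y)` is the `n`-th right derived functor of `Hom(X, -)` (helper33)

In an abelian category with injective resolutions and `Ext`-groups in the universe of morphisms,
`((preadditiveCoyoneda.obj (op X)).rightDerived n).obj Y ≅ AddCommGrpCat.of (Ext X Y n)`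
(object-wise isomorphisms, by dimension shifting).
-/

set_option autoImplicit false

universe v u

open CategoryTheory CategoryTheory.Limits Opposite Abelian

namespace Groth.Agent.Lib.Helper33.ExtRD

open Groth.Agent.Lib.Helper83 Groth.Agent.Lib.Helper5

variable {C : Type u} [Category.{v} C] [Abelian C]

/-- two surjective homomorphisms with the same kernel have isomorphic targets -/
noncomputable def addEquivOfSurjectiveOfKerEq {G H₁ H₂ : Type*} [AddCommGroup G] [AddCommGroup H₁]
    [AddCommGroup H₂] (φ₁ : G →+ H₁) (φ₂ : G →+ H₂) (h₁ : Function.Surjective φ₁)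
    (h₂ : Function.Surjective φ₂) (hk : φ₁.ker = φ₂.ker) : H₁ ≃+ H₂ :=
  (QuotientAddGroup.quotientKerEquivOfSurjective φ₁ h₁).symm.trans
    ((QuotientAddGroup.quotientAddEquivOfEq hk).trans
      (QuotientAddGroup.quotientKerEquivOfSurjective φ₂ h₂))

section

variable [HasExt.{v} C] (X : C) {S : ShortComplex C} (hS : S.ShortExact)

/-- the connecting homomorphism `Ext^n(X, S.X₃) ⟶ Ext^{n+1}(X, S.X₁)` -/
noncomputable def extδ (n : ℕ) : Ext.{v} X S.X₃ n →+ Ext.{v} X S.X₁ (n + 1) where
  toFun x := x.comp hS.extClass rfl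
  map_zero' := Ext.zero_comp _ _ _ _ _
  map_add' _ _ := Ext.add_comp _ _ _ _

lemma extδ_apply (n : ℕ) (x : Ext.{v} X S.X₃ n) : extδ X hS n x = x.comp hS.extClass rfl := rfl

lemma extδ_surjective [Injective S.X₂] (n : ℕ) : Function.Surjective (extδ X hS n) := by
  intro x₁
  exact Ext.covariant_sequence_exact₁ X hS x₁ (Ext.eq_zero_of_injective _) rfl

lemma extδ_injective [Injective S.X₂] (n : ℕ) : Function.Injective (extδ X hS (n + 1)) := by
  rw [injective_iff_map_eq_zero]
  intro x hx
  obtain ⟨x₂, rfl⟩ := Ext.covariant_sequence_exact₃ X hS x rfl hx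
  rw [Ext.eq_zero_of_injective x₂, Ext.zero_comp]

/-- the homomorphism `Hom(X, S.X₃) ⟶ Ext^1(X, S.X₁)` -/
noncomputable def homδ : (X ⟶ S.X₃) →+ Ext.{v} X S.X₁ 1 :=
  (extδ X hS 0).comp (Ext.addEquiv₀ (X := X) (Y := S.X₃)).symm.toAddMonoidHom

lemma homδ_apply (h : X ⟶ S.X₃) : homδ X hS h = (Ext.mk₀ h).comp hS.extClass (zero_add 1) := rfl

lemma homδ_surjective [Injective S.X₂] : Function.Surjective (homδ X hS) :=
  (extδ_surjective X hS 0).comp (Ext.addEquiv₀ (X := X) (Y := S.X₃)).symm.surjective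

lemma homδ_eq_zero_iff (h : X ⟶ S.X₃) : homδ X hS h = 0 ↔ ∃ k : X ⟶ S.X₂, k ≫ S.g = h := by
  rw [homδ_apply]
  constructor
  · intro hx
    obtain ⟨x₂, hx₂⟩ := Ext.covariant_sequence_exact₃ X hS (Ext.mk₀ h) (zero_add 1) hx
    refine ⟨Ext.addEquiv₀ x₂, ?_⟩
    apply (Ext.mk₀_bijective _ _).1
    rw [← Ext.mk₀_comp_mk₀, Ext.mk₀_addEquiv₀_apply]
    exact hx₂
  · rintro ⟨k, rfl⟩
    rw [← Ext.mk₀_comp_mk₀, Ext.comp_assoc_of_second_deg_zero, hS.comp_extClass, Ext.comp_zero]

end

variable [HasInjectiveResolutions C] [HasExt.{v} C] (X : C)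

/-- the functor `Hom(X, -)` with values in abelian groups -/
abbrev homF : C ⥤ AddCommGrpCat.{v} := preadditiveCoyoneda.obj (op X)

/-- degree `0` -/
lemma iso_zero (Y : C) :
    Nonempty (((homF X).rightDerived 0).obj Y ≅ AddCommGrpCat.of (Ext.{v} X Y 0)) :=
  ⟨(homF X).rightDerivedZeroIsoSelf.app Y ≪≫
    (Ext.addEquiv₀ (X := X) (Y := Y)).symm.toAddCommGrpIso⟩

/-- degree `1` -/
lemma iso_one {S : ShortComplex C} (hS : S.ShortExact) [Injective S.X₂] :
    Nonempty (((homF X).rightDerived 1).obj S.X₁ ≅ AddCommGrpCat.of (Ext.{v} X S.X₁ 1)) := by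
  obtain ⟨π, w, hex, hπ⟩ := exact_and_epi_toRightDerivedOne (homF X) hS
  let π' : (X ⟶ S.X₃) →+ (((homF X).rightDerived 1).obj S.X₁ : Type v) := π.hom
  have hπs : Function.Surjective π' := (AddCommGrpCat.epi_iff_surjective π).1 hπ
  rw [ShortComplex.ab_exact_iff] at hex
  have hk : π'.ker = (homδ X hS).ker := by
    ext h
    rw [AddMonoidHom.mem_ker, AddMonoidHom.mem_ker, homδ_eq_zero_iff]
    constructor
    · intro hh
      obtain ⟨k, hk⟩ := hex h hh
      exact ⟨k, hk⟩
    · rintro ⟨k, rfl⟩
      exact ConcreteCategory.congr_hom w k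
  exact ⟨(addEquivOfSurjectiveOfKerEq π' (homδ X hS) hπs (homδ_surjective X hS)
    hk).toAddCommGrpIso⟩

/-- dimension shifting in degrees `≥ 1` -/
lemma iso_succ_succ {S : ShortComplex C} (hS : S.ShortExact) [Injective S.X₂] (n : ℕ)
    (h : Nonempty (((homF X).rightDerived (n + 1)).obj S.X₃ ≅
      AddCommGrpCat.of (Ext.{v} X S.X₃ (n + 1)))) :
    Nonempty (((homF X).rightDerived (n + 2)).obj S.X₁ ≅
      AddCommGrpCat.of (Ext.{v} X S.X₁ (n + 2))) := by
  obtain ⟨e⟩ := h
  have := isIso_δ_of_injective (homF X) hS n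
  exact ⟨(asIso ((derivedLES (homF X)).δ S hS (n + 1) (n + 2) rfl)).symm ≪≫ e ≪≫
    (AddEquiv.ofBijective (extδ X hS (n + 1))
      ⟨extδ_injective X hS n, extδ_surjective X hS (n + 1)⟩).toAddCommGrpIso⟩

set_option backward.isDefEq.respectTransparency false in
omit [HasExt.{v} C] in
lemma enoughInjectives : EnoughInjectives C :=
  ⟨fun X => ⟨{ J := (injectiveResolution X).cocomplex.X 0
               injective := (injectiveResolution X).injective 0
               f := (injectiveResolution X).ι.f 0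
               mono := inferInstance }⟩⟩

/-- the standard short exact sequence `0 ⟶ Y ⟶ I ⟶ Q ⟶ 0` with `I` injective -/
noncomputable abbrev sesInj [EnoughInjectives C] (Y : C) : ShortComplex C :=
  ShortComplex.mk (Injective.ι Y) (cokernel.π (Injective.ι Y)) (cokernel.condition _)

omit [HasInjectiveResolutions C] [HasExt.{v} C] in
lemma sesInj_shortExact [EnoughInjectives C] (Y : C) : (sesInj Y).ShortExact where
  exact := ShortComplex.exact_of_g_is_cokernel _ (cokernelIsCokernel _)
  mono_f := inferInstanceAs (Mono (Injective.ι Y))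
  epi_g := inferInstanceAs (Epi (cokernel.π (Injective.ι Y)))

/-- **`Ext^n(X, -)` is the `n`-th right derived functor of `Hom(X, -)`** (object-wise). -/
theorem ext_iso_rightDerived (Y : C) (n : ℕ) :
    Nonempty (((homF X).rightDerived n).obj Y ≅ AddCommGrpCat.of (Ext.{v} X Y n)) := by
  have : EnoughInjectives C := enoughInjectives
  have key : ∀ (n : ℕ) (Y : C), Nonempty (((homF X).rightDerived (n + 1)).obj Y ≅
      AddCommGrpCat.of (Ext.{v} X Y (n + 1))) := by
    intro n
    induction n with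
    | zero =>
      intro Y
      have : Injective (sesInj Y).X₂ := inferInstanceAs (Injective (Injective.under Y))
      exact iso_one X (sesInj_shortExact Y)
    | succ n ih =>
      intro Y
      have : Injective (sesInj Y).X₂ := inferInstanceAs (Injective (Injective.under Y))
      exact iso_succ_succ X (sesInj_shortExact Y) n (ih _)
  cases n with
  | zero => exact iso_zero X Y
  | succ n => exact key n Y

/-- variant: `R^n F Y ≅ Ext^n(X, Y)` for any functor `F` isomorphic to `Hom(X, -)` -/
theorem ext_iso_rightDerived_of_iso (F : C ⥤ AddCommGrpCat.{v}) [F.Additive]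
    (e : F ≅ homF X) (Y : C) (n : ℕ) :
    Nonempty ((F.rightDerived n).obj Y ≅ AddCommGrpCat.of (Ext.{v} X Y n)) := by
  obtain ⟨e'⟩ := ext_iso_rightDerived X Y n
  refine ⟨?_ ≪≫ e'⟩
  exact { hom := (NatTrans.rightDerived e.hom n).app Y
          inv := (NatTrans.rightDerived e.inv n).app Y
          hom_inv_id := by
            rw [← NatTrans.comp_app, ← NatTrans.rightDerived_comp, e.hom_inv_id,
              NatTrans.rightDerived_id]
            rfl
          inv_hom_id := by
            rw [← NatTrans.comp_app, ← NatTrans.rightDerived_comp, e.inv_hom_id,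
              NatTrans.rightDerived_id]
            rfl }

end Groth.Agent.Lib.Helper33.ExtRD
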