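import Groth.Agent.Lib.Helper33.ExtDelta
import Groth.Agent.S14349
import Mathlib.Algebra.Homology.ShortComplex.ExactFunctor
import Mathlib.CategoryTheory.Preadditive.Injective.Preserves

/-!
# Precomposition of a delta-functor with an exact functor; right derived functors and
precomposition with an exact functor preserving injectives, as an isomorphism of functors
(helper33)
-/

set_option autoImplicit false

universe v v' v'' u u' u''

open CategoryTheory CategoryTheory.Limits DeltaF

namespace Groth.Agent.Lib.Helper33.ExtDelta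

variable {A : Type u} [Category.{v} A] [Abelian A] {B : Type u'} [Category.{v'} B] [Abelian B]
  {D : Type u''} [Category.{v''} D] [Abelian D]
  (E : A ⥤ B) [E.Additive] [PreservesFiniteLimits E] [PreservesFiniteColimits E]

/-- precomposition of a delta-functor with an exact functor -/
noncomputable def precompDelta (T : CohDeltaFunctor B D ℕ) : CohDeltaFunctor A D ℕ where
  F n := E ⋙ T.F n
  additive n := inferInstance
  δ S hS n₀ n₁ h := T.δ (S.map E) (hS.map_of_exact E) n₀ n₁ h
  δ_natural {S S'} hS hS' φ n₀ n₁ h :=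
    T.δ_natural (hS.map_of_exact E) (hS'.map_of_exact E) (E.mapShortComplex.map φ) n₀ n₁ h
  exact₂ S hS n := T.exact₂ (S.map E) (hS.map_of_exact E) n
  comp_δ S hS n₀ n₁ h := T.comp_δ (S.map E) (hS.map_of_exact E) n₀ n₁ h
  exact₃ S hS n₀ n₁ h := T.exact₃ (S.map E) (hS.map_of_exact E) n₀ n₁ h
  δ_comp S hS n₀ n₁ h := T.δ_comp (S.map E) (hS.map_of_exact E) n₀ n₁ h
  exact₁ S hS n₀ n₁ h := T.exact₁ (S.map E) (hS.map_of_exact E) n₀ n₁ h

open Groth.Agent.Lib.Helper83 in
/-- **`R^n(E ⋙ Ψ) ≅ E ⋙ R^nΨ` as functors**, for `E` exact preserving injectives and `Ψ` left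
exact. -/
theorem nonempty_rightDerived_exact_comp_iso [HasInjectiveResolutions A]
    [HasInjectiveResolutions B] [E.PreservesInjectiveObjects]
    (Ψ : B ⥤ D) [Ψ.Additive] [PreservesFiniteLimits Ψ] (n : ℕ) :
    Nonempty ((E ⋙ Ψ).rightDerived n ≅ E ⋙ Ψ.rightDerived n) := by
  have : EnoughInjectives A := ExtRD.enoughInjectives
  have hT' : (precompDelta E (derivedLES Ψ).toCohDeltaFunctor).IsUniversal := by
    apply Groth.Agent.S6773.result
    rw [Groth.Agent.S14349.result]
    intro n I hI
    have : Injective (E.obj I) := E.injective_obj I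
    exact Ψ.isZero_rightDerived_obj_injective_succ n (E.obj I)
  exact nonempty_iso_of_isUniversal (derivedLES (E ⋙ Ψ)).toCohDeltaFunctor
    (precompDelta E (derivedLES Ψ).toCohDeltaFunctor) (Groth.Agent.S16465.result _ _) hT'
    ((E ⋙ Ψ).rightDerivedZeroIsoSelf ≪≫
      (Functor.isoWhiskerLeft E Ψ.rightDerivedZeroIsoSelf).symm) n

end Groth.Agent.Lib.Helper33.ExtDelta
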