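import Groth.Agent.Lib.Helper33.GrothSS
import Groth.Agent.Lib.Helper33.ExtRightDerived
import Mathlib.Algebra.Category.Grp.Zero

/-!
# The Grothendieck spectral sequence with values in abelian groups (helper33)

`grothendieck_ss_ab`: the Grothendieck spectral sequence for `T : C ⥤ C'`, `S : C' ⥤ Ab`, in the
shape used by the statements (zero objects written `AddCommGrpCat.of PUnit`).

`grothendieck_ss_ext`: the special case `S = Hom(Z, -)`, `T ⋙ S ≅ Hom(W, -)`:
`E_2^{p,q} = Ext^p(Z, R^qT A) ⇒ Ext^{p+q}(W, A)`.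
-/

set_option autoImplicit false

universe w v v' u u'

open CategoryTheory CategoryTheory.Limits Opposite

namespace Groth.Agent.Lib.Helper33.GrothSS

open Groth.Agent.Lib.Helper33.EC
open scoped ZeroObject

section

variable {C : Type u} {C' : Type u'} [Category.{v} C] [Category.{v'} C'] [Abelian C] [Abelian C']
  [HasInjectiveResolutions C] [HasInjectiveResolutions C']
  (T : C ⥤ C') (S : C' ⥤ AddCommGrpCat.{w}) [T.Additive] [S.Additive] [PreservesFiniteLimits S]

/-- the Grothendieck spectral sequence with values in abelian groups, with the zero objects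
written as `AddCommGrpCat.of PUnit`. -/
theorem grothendieck_ss_ab
    (hT : ∀ Q : C, Injective Q → ∀ q : ℕ, 0 < q → IsZero ((S.rightDerived q).obj (T.obj Q)))
    (A : C) (H : ℕ → AddCommGrpCat.{w})
    (eH : ∀ n, Nonempty (((T ⋙ S).rightDerived n).obj A ≅ H n))
    (E₂ : ℕ → ℕ → AddCommGrpCat.{w})
    (eE : ∀ p q, Nonempty ((S.rightDerived p).obj ((T.rightDerived q).obj A) ≅ E₂ p q)) :
    ∃ (E : E₂CohomologicalSpectralSequence AddCommGrpCat.{w})
      (a : SpSeq.Abutment E (fun n : ℤ =>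
        if 0 ≤ n then H n.toNat else AddCommGrpCat.of PUnit.{w + 1})),
      (∀ n, a.IsFinite n) ∧ SpSeq.IsBounded E ∧
      ∀ p q : ℤ, Nonempty ((E.page 2 le_rfl).X (p, q) ≅
        (if 0 ≤ p ∧ 0 ≤ q then E₂ p.toNat q.toNat else AddCommGrpCat.of PUnit.{w + 1})) := by
  obtain ⟨E, a, hfin, hbd, hpage⟩ := grothendieck_ss T S hT A H eH E₂ eE
  have hz : IsZero (AddCommGrpCat.of PUnit.{w + 1}) := AddCommGrpCat.isZero_of_subsingleton _
  let e : ∀ n : ℤ, (if 0 ≤ n then H n.toNat else (0 : AddCommGrpCat.{w})) ≅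
      (if 0 ≤ n then H n.toNat else AddCommGrpCat.of PUnit.{w + 1}) := fun n => by
    by_cases h : 0 ≤ n
    · exact eqToIso (by rw [if_pos h, if_pos h])
    · exact eqToIso (if_neg h) ≪≫ (isZero_zero _).iso hz ≪≫ eqToIso (if_neg h).symm
  refine ⟨E, abutmentTransport a e, fun n => abutmentTransport_isFinite a e n (hfin n), hbd,
    fun p q => ?_⟩
  obtain ⟨e₁⟩ := hpage p q
  by_cases h : 0 ≤ p ∧ 0 ≤ q
  · rw [if_pos h] at e₁ ⊢
    exact ⟨e₁⟩
  · rw [if_neg h] at e₁ ⊢
    exact ⟨e₁ ≪≫ (isZero_zero _).iso hz⟩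

end

section

variable {C : Type u} {C' : Type u'} [Category.{v} C] [Category.{v} C'] [Abelian C] [Abelian C']
  [HasInjectiveResolutions C] [HasInjectiveResolutions C'] [HasExt.{v} C] [HasExt.{v} C']

open Abelian ExtRD

/-- `E_2^{p,q} = Ext^p(Z, R^qT A) ⇒ Ext^{p+q}(W, A)` when `Hom(Z, T -) ≅ Hom(W, -)` and `T` sends
injective objects to objects `G` with `Ext^q(Z, G) = 0` for `q > 0`. -/
theorem grothendieck_ss_ext (T : C ⥤ C') [T.Additive] (Z : C') (W : C)
    (e : T ⋙ preadditiveCoyoneda.obj (op Z) ≅ preadditiveCoyoneda.obj (op W))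
    (hT : ∀ Q : C, Injective Q → ∀ q : ℕ, 0 < q → Subsingleton (Ext.{v} Z (T.obj Q) q))
    (A : C) :
    ∃ (E : E₂CohomologicalSpectralSequence AddCommGrpCat.{v})
      (a : SpSeq.Abutment E (fun n : ℤ =>
        if 0 ≤ n then AddCommGrpCat.of (Ext.{v} W A n.toNat)
          else AddCommGrpCat.of PUnit.{v + 1})),
      (∀ n, a.IsFinite n) ∧ SpSeq.IsBounded E ∧
      ∀ p q : ℤ, Nonempty ((E.page 2 le_rfl).X (p, q) ≅
        (if 0 ≤ p ∧ 0 ≤ q then
          AddCommGrpCat.of (Ext.{v} Z ((T.rightDerived q.toNat).obj A) p.toNat)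
          else AddCommGrpCat.of PUnit.{v + 1})) := by
  have : (T ⋙ preadditiveCoyoneda.obj (op Z)).Additive := inferInstance
  refine grothendieck_ss_ab T (preadditiveCoyoneda.obj (op Z)) ?_ A
    (fun n => AddCommGrpCat.of (Ext.{v} W A n)) (fun n => ?_)
    (fun p q => AddCommGrpCat.of (Ext.{v} Z ((T.rightDerived q).obj A) p)) (fun p q => ?_)
  · intro Q hQ q hq
    obtain ⟨e'⟩ := ext_iso_rightDerived Z (T.obj Q) q
    have := hT Q hQ q hq
    exact IsZero.of_iso (AddCommGrpCat.isZero_of_subsingleton _) e'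
  · exact ext_iso_rightDerived_of_iso W _ e A n
  · exact ext_iso_rightDerived Z _ p

end

end Groth.Agent.Lib.Helper33.GrothSS
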