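import Mathlib.CategoryTheory.Abelian.RightDerived
import Mathlib.Algebra.Homology.HomologySequence
import Mathlib.Algebra.Homology.HomologySequenceLemmas
import Mathlib.Algebra.Homology.HomologicalComplexAbelian

/-!
# The long exact sequence of right derived functors attached to a sequence of functors
`G₁ ⟶ G₂ ⟶ G₃` which is short exact on injective objects (helper33)

Given additive functors `G₁ G₂ G₃ : C ⥤ D` and natural transformations `α : G₁ ⟶ G₂`,
`β : G₂ ⟶ G₃` with `α ≫ β = 0` such that `0 ⟶ G₁ I ⟶ G₂ I ⟶ G₃ I ⟶ 0` is short exact for every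
injective object `I`, we construct natural connecting morphisms
`δ n : G₃.rightDerived n ⟶ G₁.rightDerived (n + 1)` and prove the exactness of
`⋯ ⟶ RⁿG₁ ⟶ RⁿG₂ ⟶ RⁿG₃ ⟶ Rⁿ⁺¹G₁ ⟶ Rⁿ⁺¹G₂ ⟶ ⋯` (objectwise).
-/

set_option autoImplicit false

universe v v' u u'

open CategoryTheory CategoryTheory.Limits

namespace Groth.Agent.Lib.Helper33.FunctorLES

variable {C : Type u} [Category.{v} C] [Abelian C] [HasInjectiveResolutions C]
  {D : Type u'} [Category.{v'} D] [Abelian D]
  {G₁ G₂ G₃ : C ⥤ D} [G₁.Additive] [G₂.Additive] [G₃.Additive]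
  (α : G₁ ⟶ G₂) (β : G₂ ⟶ G₃) (w : α ≫ β = 0)

/-- the hypothesis: the sequence is short exact on injective objects -/
def ExactOnInjectives : Prop :=
  ∀ (I : C), Injective I → (ShortComplex.mk (α.app I) (β.app I)
    (by rw [← NatTrans.comp_app, w]; rfl)).ShortExact

/-- the short complex of cochain complexes `G₁ K ⟶ G₂ K ⟶ G₃ K` -/
noncomputable abbrev sc (K : CochainComplex C ℕ) : ShortComplex (CochainComplex D ℕ) :=
  ShortComplex.mk ((NatTrans.mapHomologicalComplex α (ComplexShape.up ℕ)).app K)
    ((NatTrans.mapHomologicalComplex β (ComplexShape.up ℕ)).app K) (by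
      ext n
      exact congrArg (fun γ => γ.app (K.X n)) w)

variable {α β w}

lemma sc_shortExact (h : ExactOnInjectives α β w) (K : CochainComplex C ℕ)
    (hK : ∀ n, Injective (K.X n)) : (sc α β w K).ShortExact :=
  HomologicalComplex.shortExact_of_degreewise_shortExact _ (fun n => h (K.X n) (hK n))

variable (α β w)

/-- functoriality of `sc` -/
noncomputable def scMap {K L : CochainComplex C ℕ} (φ : K ⟶ L) : sc α β w K ⟶ sc α β w L where
  τ₁ := (G₁.mapHomologicalComplex _).map φ
  τ₂ := (G₂.mapHomologicalComplex _).map φ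
  τ₃ := (G₃.mapHomologicalComplex _).map φ
  comm₁₂ := (NatTrans.mapHomologicalComplex α (ComplexShape.up ℕ)).naturality φ
  comm₂₃ := (NatTrans.mapHomologicalComplex β (ComplexShape.up ℕ)).naturality φ

variable {α β w} (h : ExactOnInjectives α β w)

omit [HasInjectiveResolutions C] in
lemma rel (n : ℕ) : (ComplexShape.up ℕ).Rel n (n + 1) := rfl

/-- the connecting morphism computed by an injective resolution -/
noncomputable def δAux {X : C} (I : InjectiveResolution X) (n : ℕ) :
    (G₃.rightDerived n).obj X ⟶ (G₁.rightDerived (n + 1)).obj X :=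
  (I.isoRightDerivedObj G₃ n).hom ≫
    (sc_shortExact h I.cocomplex I.injective).δ n (n + 1) (rel n) ≫
      (I.isoRightDerivedObj G₁ (n + 1)).inv

lemma δAux_naturality {X Y : C} (f : X ⟶ Y) (I : InjectiveResolution X)
    (J : InjectiveResolution Y) (n : ℕ) :
    (G₃.rightDerived n).map f ≫ δAux h J n = δAux h I n ≫ (G₁.rightDerived (n + 1)).map f := by
  let φ : I.cocomplex ⟶ J.cocomplex := InjectiveResolution.desc f J I
  have comm : I.ι.f 0 ≫ φ.f 0 = f ≫ J.ι.f 0 := InjectiveResolution.desc_commutes_zero f J I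
  have h3 := InjectiveResolution.isoRightDerivedObj_hom_naturality f I J φ comm G₃ n
  have h1 := InjectiveResolution.isoRightDerivedObj_inv_naturality f I J φ comm G₁ (n + 1)
  have hδ := HomologicalComplex.HomologySequence.δ_naturality (scMap α β w φ)
    (sc_shortExact h I.cocomplex I.injective) (sc_shortExact h J.cocomplex J.injective)
    n (n + 1) (rel n)
  have hδ' : (G₃.mapHomologicalComplex (ComplexShape.up ℕ) ⋙
      HomologicalComplex.homologyFunctor D (ComplexShape.up ℕ) n).map φ ≫
      (sc_shortExact h J.cocomplex J.injective).δ n (n + 1) (rel n) =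
      (sc_shortExact h I.cocomplex I.injective).δ n (n + 1) (rel n) ≫
      (G₁.mapHomologicalComplex (ComplexShape.up ℕ) ⋙
        HomologicalComplex.homologyFunctor D (ComplexShape.up ℕ) (n + 1)).map φ := hδ.symm
  calc (G₃.rightDerived n).map f ≫ δAux h J n
      = ((G₃.rightDerived n).map f ≫ (J.isoRightDerivedObj G₃ n).hom) ≫
          (sc_shortExact h J.cocomplex J.injective).δ n (n + 1) (rel n) ≫
            (J.isoRightDerivedObj G₁ (n + 1)).inv := (Category.assoc _ _ _).symm
    _ = ((I.isoRightDerivedObj G₃ n).hom ≫ (G₃.mapHomologicalComplex (ComplexShape.up ℕ) ⋙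
          HomologicalComplex.homologyFunctor D (ComplexShape.up ℕ) n).map φ) ≫
          (sc_shortExact h J.cocomplex J.injective).δ n (n + 1) (rel n) ≫
            (J.isoRightDerivedObj G₁ (n + 1)).inv := eq_whisker h3 _
    _ = (I.isoRightDerivedObj G₃ n).hom ≫ ((G₃.mapHomologicalComplex (ComplexShape.up ℕ) ⋙
          HomologicalComplex.homologyFunctor D (ComplexShape.up ℕ) n).map φ ≫
          (sc_shortExact h J.cocomplex J.injective).δ n (n + 1) (rel n)) ≫
            (J.isoRightDerivedObj G₁ (n + 1)).inv :=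
        (Category.assoc _ _ _).trans (whisker_eq _ (Category.assoc _ _ _).symm)
    _ = (I.isoRightDerivedObj G₃ n).hom ≫
          ((sc_shortExact h I.cocomplex I.injective).δ n (n + 1) (rel n) ≫
          (G₁.mapHomologicalComplex (ComplexShape.up ℕ) ⋙
            HomologicalComplex.homologyFunctor D (ComplexShape.up ℕ) (n + 1)).map φ) ≫
            (J.isoRightDerivedObj G₁ (n + 1)).inv := whisker_eq _ (eq_whisker hδ' _)
    _ = (I.isoRightDerivedObj G₃ n).hom ≫
          (sc_shortExact h I.cocomplex I.injective).δ n (n + 1) (rel n) ≫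
          ((G₁.mapHomologicalComplex (ComplexShape.up ℕ) ⋙
            HomologicalComplex.homologyFunctor D (ComplexShape.up ℕ) (n + 1)).map φ ≫
            (J.isoRightDerivedObj G₁ (n + 1)).inv) := whisker_eq _ (Category.assoc _ _ _)
    _ = (I.isoRightDerivedObj G₃ n).hom ≫
          (sc_shortExact h I.cocomplex I.injective).δ n (n + 1) (rel n) ≫
          ((I.isoRightDerivedObj G₁ (n + 1)).inv ≫ (G₁.rightDerived (n + 1)).map f) :=
        whisker_eq _ (whisker_eq _ h1.symm)
    _ = δAux h I n ≫ (G₁.rightDerived (n + 1)).map f := by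
        simp only [δAux, Category.assoc]

/-- the connecting natural transformation `RⁿG₃ ⟶ Rⁿ⁺¹G₁` -/
noncomputable def δ (n : ℕ) : G₃.rightDerived n ⟶ G₁.rightDerived (n + 1) where
  app X := δAux h (injectiveResolution X) n
  naturality _ _ f := δAux_naturality h f _ _ n

section Transport

omit [HasInjectiveResolutions C] [Abelian C] in
lemma aux_comp_inv_hom {A B B' E : D} (a : A ⟶ B) (d : B ⟶ B') (b : E ≅ B') :
    (a ≫ d ≫ b.inv) ≫ b.hom = a ≫ d := by simp

variable {A₁ A₂ A₃ B₁ B₂ B₃ : D} (f : A₁ ⟶ A₂) (g : A₂ ⟶ A₃) (f' : B₁ ⟶ B₂) (g' : B₂ ⟶ B₃)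
  (e₁ : A₁ ≅ B₁) (e₂ : A₂ ≅ B₂) (e₃ : A₃ ≅ B₃) (c₁ : f ≫ e₂.hom = e₁.hom ≫ f')
  (c₂ : g ≫ e₃.hom = e₂.hom ≫ g') (w' : f' ≫ g' = 0)

include c₁ c₂ w' in
omit [HasInjectiveResolutions C] [Abelian C] in
lemma zero_transport : f ≫ g = 0 := by
  rw [← cancel_mono e₃.hom, zero_comp, Category.assoc, c₂, ← Category.assoc, c₁, Category.assoc,
    w', comp_zero]

omit [HasInjectiveResolutions C] [Abelian C] in
lemma exact_transport (hex : (ShortComplex.mk f' g' w').Exact) :
    (ShortComplex.mk f g (zero_transport f g f' g' e₁ e₂ e₃ c₁ c₂ w')).Exact :=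
  ShortComplex.exact_of_iso (ShortComplex.isoMk e₁ e₂ e₃ c₁.symm c₂.symm).symm hex

end Transport

section Exactness

variable (X : C)

omit [HasInjectiveResolutions C] in
lemma rightDerived_app_comp_iso_hom [HasInjectiveResolutions C] {F G : C ⥤ D} [F.Additive]
    [G.Additive] (γ : F ⟶ G) (I : InjectiveResolution X) (n : ℕ) :
    (NatTrans.rightDerived γ n).app X ≫ (I.isoRightDerivedObj G n).hom =
      (I.isoRightDerivedObj F n).hom ≫ HomologicalComplex.homologyMap
        ((NatTrans.mapHomologicalComplex γ (ComplexShape.up ℕ)).app I.cocomplex) n := by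
  rw [InjectiveResolution.rightDerived_app_eq γ I n, Category.assoc, Category.assoc,
    Iso.inv_hom_id, Category.comp_id]
  rfl

lemma δ_app_comp_iso_hom (n : ℕ) :
    (δ h n).app X ≫ ((injectiveResolution X).isoRightDerivedObj G₁ (n + 1)).hom =
      ((injectiveResolution X).isoRightDerivedObj G₃ n).hom ≫
        (sc_shortExact h (injectiveResolution X).cocomplex
          (injectiveResolution X).injective).δ n (n + 1) (rel n) :=
  aux_comp_inv_hom _ _ _

lemma comp_δ (n : ℕ) : (NatTrans.rightDerived β n).app X ≫ (δ h n).app X = 0 :=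
  zero_transport _ _ _ _ ((injectiveResolution X).isoRightDerivedObj G₂ n)
    ((injectiveResolution X).isoRightDerivedObj G₃ n)
    ((injectiveResolution X).isoRightDerivedObj G₁ (n + 1))
    (rightDerived_app_comp_iso_hom X β _ n) (δ_app_comp_iso_hom h X n)
    ((sc_shortExact h (injectiveResolution X).cocomplex
      (injectiveResolution X).injective).comp_δ n (n + 1) (rel n))

lemma δ_comp (n : ℕ) : (δ h n).app X ≫ (NatTrans.rightDerived α (n + 1)).app X = 0 :=
  zero_transport _ _ _ _ ((injectiveResolution X).isoRightDerivedObj G₃ n)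
    ((injectiveResolution X).isoRightDerivedObj G₁ (n + 1))
    ((injectiveResolution X).isoRightDerivedObj G₂ (n + 1))
    (δ_app_comp_iso_hom h X n) (rightDerived_app_comp_iso_hom X α _ (n + 1))
    ((sc_shortExact h (injectiveResolution X).cocomplex
      (injectiveResolution X).injective).δ_comp n (n + 1) (rel n))

lemma exact₃ (n : ℕ) : (ShortComplex.mk _ _ (comp_δ h X n)).Exact :=
  exact_transport _ _ _ _ ((injectiveResolution X).isoRightDerivedObj G₂ n)
    ((injectiveResolution X).isoRightDerivedObj G₃ n)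
    ((injectiveResolution X).isoRightDerivedObj G₁ (n + 1))
    (rightDerived_app_comp_iso_hom X β _ n) (δ_app_comp_iso_hom h X n) _
    ((sc_shortExact h (injectiveResolution X).cocomplex
      (injectiveResolution X).injective).homology_exact₃ n (n + 1) (rel n))

lemma exact₁ (n : ℕ) : (ShortComplex.mk _ _ (δ_comp h X n)).Exact :=
  exact_transport _ _ _ _ ((injectiveResolution X).isoRightDerivedObj G₃ n)
    ((injectiveResolution X).isoRightDerivedObj G₁ (n + 1))
    ((injectiveResolution X).isoRightDerivedObj G₂ (n + 1))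
    (δ_app_comp_iso_hom h X n) (rightDerived_app_comp_iso_hom X α _ (n + 1)) _
    ((sc_shortExact h (injectiveResolution X).cocomplex
      (injectiveResolution X).injective).homology_exact₁ n (n + 1) (rel n))

/-- the connecting morphism is an isomorphism between vanishing terms -/
lemma isIso_δ_app (n : ℕ) (h₀ : IsZero ((G₂.rightDerived n).obj X))
    (h₁ : IsZero ((G₂.rightDerived (n + 1)).obj X)) : IsIso ((δ h n).app X) := by
  have : Mono ((δ h n).app X) := (exact₃ h X n).mono_g (h₀.eq_of_src _ _)
  have : Epi ((δ h n).app X) := (exact₁ h X n).epi_f (h₁.eq_of_tgt _ _)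
  exact isIso_of_mono_of_epi _

end Exactness

end Groth.Agent.Lib.Helper33.FunctorLES
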