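import Groth.Agent.Lib.Helper33.RestrPull
import Groth.Agent.Lib.Helper33.FunctorLES
import Groth.Agent.Lib.Helper33.DeltaPrecomp
import Groth.Prelude.Def_RDer

/-!
# The long exact sequence `⋯ → ℋ^n_Z(F) → ℋ^n(F) → R^n j_*(F|_U) → ℋ^{n+1}_Z(F) → ⋯` of functors
on a topological space (helper33)
-/

set_option autoImplicit false

universe v v' u u'

open CategoryTheory CategoryTheory.Limits TopologicalSpace Opposite

namespace Groth.Agent.Lib.Helper33.FunctorLES

open HomologicalComplex in
set_option backward.isDefEq.respectTransparency false in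
/-- `F ⟶ R⁰F` is natural in the functor `F` -/
theorem toRightDerivedZero_naturality {A : Type u} [Category.{v} A] [Abelian A]
    [HasInjectiveResolutions A] {B : Type u'} [Category.{v'} B] [Abelian B]
    {Φ Φ' : A ⥤ B} [Φ.Additive] [Φ'.Additive] (α : Φ ⟶ Φ') (X : A) :
    Φ.toRightDerivedZero.app X ≫ (NatTrans.rightDerived α 0).app X =
      α.app X ≫ Φ'.toRightDerivedZero.app X := by
  rw [(injectiveResolution X).toRightDerivedZero_eq Φ, (injectiveResolution X).toRightDerivedZero_eq Φ',
    InjectiveResolution.rightDerived_app_eq α (injectiveResolution X) 0]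
  simp only [Category.assoc, Iso.inv_hom_id_assoc]
  simp only [← Category.assoc]
  rw [cancel_mono]
  simp only [Category.assoc, homologyFunctor_map, RDer.isoHomologyπ₀_hom_eq, homologyπ_naturality]
  rw [RDer.toRightDerivedZero'_cyclesMap_assoc]

/-- the higher right derived functors of the identity functor vanish -/
lemma isZero_rightDerived_id_succ {A : Type u} [Category.{v} A] [Abelian A]
    [HasInjectiveResolutions A] (n : ℕ) (X : A) :
    IsZero (((𝟭 A).rightDerived (n + 1)).obj X) := by
  refine IsZero.of_iso ?_ ((injectiveResolution X).isoRightDerivedObj (𝟭 A) (n + 1))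
  have h := (injectiveResolution X).cocomplex_exactAt_succ n
  rw [HomologicalComplex.exactAt_iff_isZero_homology] at h
  exact h

section Consequences

variable {C : Type u} [Category.{v} C] [Abelian C] [HasInjectiveResolutions C]
  {D : Type u'} [Category.{v'} D] [Abelian D]
  {G₁ G₂ G₃ : C ⥤ D} [G₁.Additive] [G₂.Additive] [G₃.Additive]
  {α : G₁ ⟶ G₂} {β : G₂ ⟶ G₃} {w : α ≫ β = 0}

/-- the connecting morphisms `RⁿG₃ ⟶ Rⁿ⁺¹G₁` are isomorphisms of functors when the derived
functors of `G₂` vanish in degrees `n` and `n + 1` -/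
theorem nonempty_iso_of_isZero (h : ExactOnInjectives α β w) (n : ℕ)
    (h₀ : ∀ X, IsZero ((G₂.rightDerived n).obj X))
    (h₁ : ∀ X, IsZero ((G₂.rightDerived (n + 1)).obj X)) :
    Nonempty (G₃.rightDerived n ≅ G₁.rightDerived (n + 1)) := by
  have : ∀ X, IsIso ((δ h n).app X) := fun X => isIso_δ_app h X n (h₀ X) (h₁ X)
  have : IsIso (δ h n) := NatIso.isIso_of_isIso_app _
  exact ⟨asIso (δ h n)⟩

/-- the morphism `G₃ ⟶ R¹G₁` -/
noncomputable def ρ (h : ExactOnInjectives α β w) : G₃ ⟶ G₁.rightDerived 1 :=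
  G₃.toRightDerivedZero ≫ δ h 0

lemma ρ_app (h : ExactOnInjectives α β w) (X : C) :
    (ρ h).app X = G₃.toRightDerivedZero.app X ≫ (δ h 0).app X := rfl

lemma β_ρ (h : ExactOnInjectives α β w) : β ≫ ρ h = 0 := by
  ext X
  change β.app X ≫ G₃.toRightDerivedZero.app X ≫ (δ h 0).app X = 0
  rw [← Category.assoc, ← toRightDerivedZero_naturality β X, Category.assoc, comp_δ h X 0,
    comp_zero]

lemma epi_ρ_app [PreservesFiniteLimits G₃] (h : ExactOnInjectives α β w) (X : C)
    (h₁ : IsZero ((G₂.rightDerived 1).obj X)) : Epi ((ρ h).app X) := by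
  have : Epi ((δ h 0).app X) := (exact₁ h X 0).epi_f (h₁.eq_of_tgt _ _)
  rw [ρ_app]
  infer_instance

lemma exact_β_ρ_app [PreservesFiniteLimits G₂] [PreservesFiniteLimits G₃]
    (h : ExactOnInjectives α β w) (X : C) :
    (ShortComplex.mk (β.app X) ((ρ h).app X)
      (by rw [← NatTrans.comp_app, β_ρ]; rfl)).Exact :=
  exact_transport (β.app X) ((ρ h).app X) ((NatTrans.rightDerived β 0).app X) ((δ h 0).app X)
    (asIso (G₂.toRightDerivedZero.app X)) (asIso (G₃.toRightDerivedZero.app X)) (Iso.refl _)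
    (toRightDerivedZero_naturality β X).symm
    (by rw [ρ_app]; exact Category.comp_id _) (comp_δ h X 0) (exact₃ h X 0)

/-- `R¹G₁ ≅ coker (G₂ ⟶ G₃)` as functors, when `R¹G₂ = 0` and `G₂`, `G₃` are left exact -/
theorem nonempty_rightDerived_one_iso_cokernel [PreservesFiniteLimits G₂]
    [PreservesFiniteLimits G₃] (h : ExactOnInjectives α β w)
    (h₁ : ∀ X, IsZero ((G₂.rightDerived 1).obj X)) :
    Nonempty (G₁.rightDerived 1 ≅ cokernel β) := by
  have hcolim : IsColimit (CokernelCofork.ofπ (ρ h) (β_ρ h)) := by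
    apply evaluationJointlyReflectsColimits
    intro X
    refine (CokernelCofork.isColimitMapCoconeEquiv _ _).symm ?_
    have := epi_ρ_app h X (h₁ X)
    exact (exact_β_ρ_app h X).gIsCokernel
  exact ⟨(IsColimit.coconePointUniqueUpToIso (cokernelIsCokernel β) hcolim).symm⟩

end Consequences

end Groth.Agent.Lib.Helper33.FunctorLES
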