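import Groth.Agent.Lib.Helper33.SectSuppExact
import Groth.Agent.Lib.Helper5.ExtByZero
import Mathlib.CategoryTheory.Adjunction.Unique

/-!
# Restriction to an open subspace is the inverse image along the inclusion (helper33)
-/

set_option autoImplicit false

universe u

open CategoryTheory CategoryTheory.Limits TopologicalSpace Opposite

namespace Groth.Agent.Lib.Helper33.LocCohSS

open LocCohZ Groth.Agent.Lib.Helper96 Groth.Agent.S19245

variable {X : TopCat.{u}} (U : Opens X)

lemma isOpenEmbedding_incl : Topology.IsOpenEmbedding (TopCat.Hom.hom (CohCx.incl U)) :=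
  U.isOpenEmbedding

instance : (isOpenEmbedding_incl U).isOpenMap.functor.IsContinuous
    (Opens.grothendieckTopology (TopCat.of U)) (Opens.grothendieckTopology X) :=
  (isOpenEmbedding_incl U).functor_isContinuous

lemma isContinuous_opens_map {Y : TopCat.{u}} (f : Y ⟶ X) :
    (Opens.map f).IsContinuous (Opens.grothendieckTopology X) (Opens.grothendieckTopology Y) :=
  inferInstance

/-- restriction to `U` is left adjoint to the direct image along `U ⟶ X` -/
noncomputable def restrPushAdj : CohTop.restrFunctor U ⊣ CohTop.push (CohCx.incl U) :=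
  haveI := isContinuous_opens_map (CohCx.incl U)
  Adjunction.sheafPushforwardContinuous (E := AddCommGrpCat.{u})
    (isOpenEmbedding_incl U).isOpenMap.adjunction
    (Opens.grothendieckTopology (TopCat.of U)) (Opens.grothendieckTopology X)

/-- `j⁻¹ ≅ (-)|_U` -/
noncomputable def pullIsoRestr : CohTop.pull (CohCx.incl U) ≅ CohTop.restrFunctor U :=
  (TopCat.Sheaf.pullbackPushforwardAdjunction AddCommGrpCat.{u} (CohCx.incl U)).leftAdjointUniq
    (restrPushAdj U)

end Groth.Agent.Lib.Helper33.LocCohSS
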