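import Groth.Agent.Lib.Helper33.FunctorLESBiprod
import Groth.Agent.Lib.Helper33.RestrPull
import Groth.Agent.Lib.Helper28.ShCoh
import Groth.Agent.Lib.Helper96.TowerLim
import Groth.Agent.S19245

/-!
# The relative Mayer–Vietoris sequence (helper33)

For `f : X ⟶ Y` and opens `U V` of `X` with `U ⊔ V = ⊤`, the sequence of functors
`f_* ⟶ (f|_U)_* (-)|_U ⊞ (f|_V)_* (-)|_V ⟶ (f|_{U ⊓ V})_* (-)|_{U ⊓ V}` is short exact on
injective (flasque) sheaves.
-/

set_option autoImplicit false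

universe u

open CategoryTheory CategoryTheory.Limits TopologicalSpace Opposite

namespace Groth.Agent.Lib.Helper33.RelMV

open Groth.Agent.Lib.Helper96 Groth.Agent.S19245 Groth.Agent.Lib.Helper33.LocCohSS
  Groth.Agent.Lib.Helper33.FunctorLES

section General

variable {Y : TopCat.{u}}

lemma Γ_comp_apply {F G H : CohTop.Ab Y} (φ : F ⟶ G) (ψ : G ⟶ H) (W : Opens Y)
    (x : (TowerLim.Γ W).obj F) :
    (TowerLim.Γ W).map (φ ≫ ψ) x = (TowerLim.Γ W).map ψ ((TowerLim.Γ W).map φ x) := by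
  rw [Functor.map_comp]
  rfl

lemma Γ_id_apply {F : CohTop.Ab Y} (W : Opens Y) (x : (TowerLim.Γ W).obj F) :
    (TowerLim.Γ W).map (𝟙 F) x = x := by
  rw [CategoryTheory.Functor.map_id]
  rfl

lemma Γ_add_apply {F G : CohTop.Ab Y} (φ ψ : F ⟶ G) (W : Opens Y) (x : (TowerLim.Γ W).obj F) :
    (TowerLim.Γ W).map (φ + ψ) x = (TowerLim.Γ W).map φ x + (TowerLim.Γ W).map ψ x := rfl

lemma Γ_neg_apply {F G : CohTop.Ab Y} (φ : F ⟶ G) (W : Opens Y) (x : (TowerLim.Γ W).obj F) :
    (TowerLim.Γ W).map (-φ) x = -(TowerLim.Γ W).map φ x := rfl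

lemma Γ_zero_apply {F G : CohTop.Ab Y} (W : Opens Y) (x : (TowerLim.Γ W).obj F) :
    (TowerLim.Γ W).map (0 : F ⟶ G) x = 0 := rfl

lemma Γ_biprod_decomp {A B : CohTop.Ab Y} (W : Opens Y) (y : (TowerLim.Γ W).obj (A ⊞ B)) :
    y = (TowerLim.Γ W).map biprod.inl ((TowerLim.Γ W).map biprod.fst y) +
      (TowerLim.Γ W).map biprod.inr ((TowerLim.Γ W).map biprod.snd y) := by
  rw [← Γ_comp_apply, ← Γ_comp_apply, ← Γ_add_apply, biprod.total, Γ_id_apply]

lemma Γ_biprod_ext {A B : CohTop.Ab Y} (W : Opens Y) (y y' : (TowerLim.Γ W).obj (A ⊞ B))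
    (h1 : (TowerLim.Γ W).map biprod.fst y = (TowerLim.Γ W).map biprod.fst y')
    (h2 : (TowerLim.Γ W).map biprod.snd y = (TowerLim.Γ W).map biprod.snd y') : y = y' := by
  rw [Γ_biprod_decomp W y, Γ_biprod_decomp W y', h1, h2]

/-- a morphism of abelian sheaves which is injective on all sections is a monomorphism -/
theorem mono_of_injective_sections {F G : CohTop.Ab Y} (φ : F ⟶ G)
    (h : ∀ W : Opens Y, Function.Injective ((TowerLim.Γ W).map φ)) : Mono φ := by
  have : ∀ W : (Opens Y)ᵒᵖ, Mono (φ.hom.app W) := fun W =>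
    (AddCommGrpCat.mono_iff_injective _).mpr (h W.unop)
  have : Mono φ.hom := NatTrans.mono_of_mono_app _
  exact Sheaf.Hom.mono_of_presheaf_mono _ _ φ

/-- sectionwise criterion for short exactness of abelian sheaves -/
theorem shortExact_of_sections (S : ShortComplex (CohTop.Ab Y))
    (h1 : ∀ W : Opens Y, Function.Injective ((TowerLim.Γ W).map S.f))
    (h2 : ∀ (W : Opens Y) (y : (TowerLim.Γ W).obj S.X₂), (TowerLim.Γ W).map S.g y = 0 →
      ∃ x : (TowerLim.Γ W).obj S.X₁, (TowerLim.Γ W).map S.f x = y)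
    (h3 : ∀ W : Opens Y, Function.Surjective ((TowerLim.Γ W).map S.g)) : S.ShortExact := by
  have hmono : Mono S.f := mono_of_injective_sections _ h1
  have hepi : Epi S.g := TowerLim.epi_of_surjective_sections _ h3
  refine { exact := ?_, mono_f := hmono, epi_g := hepi }
  rw [ShortComplex.exact_iff_epi_kernel_lift]
  refine TowerLim.epi_of_surjective_sections _ (fun W κ => ?_)
  obtain ⟨x, hx⟩ := h2 W ((TowerLim.Γ W).map (kernel.ι S.g) κ) (by
    rw [← Γ_comp_apply, kernel.condition]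
    rfl)
  refine ⟨x, Γ_map_injective_of_mono (kernel.ι S.g) W ?_⟩
  rw [← Γ_comp_apply, kernel.lift_ι]
  exact hx

variable {X : TopCat.{u}}

/-- gluing two sections -/
theorem glue2 (A : CohTop.Ab X) (P Q : Opens X) (s : (TowerLim.Γ P).obj A)
    (t : (TowerLim.Γ Q).obj A)
    (h : TowerLim.res A (inf_le_left : P ⊓ Q ≤ P) s = TowerLim.res A (inf_le_right : P ⊓ Q ≤ Q) t) :
    ∃ g : (TowerLim.Γ (P ⊔ Q)).obj A, TowerLim.res A le_sup_left g = s ∧
      TowerLim.res A le_sup_right g = t := by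
  let f : Fin 2 → Opens X := ![P, Q]
  let sf : (i : Fin 2) → A.obj.obj (op (f i))
    | 0 => s
    | 1 => t
  have hcompat : TopCat.Presheaf.IsCompatible A.obj f sf := by
    have h01 : A.obj.map (Opens.infLELeft (f 0) (f 1)).op (sf 0) =
        A.obj.map (Opens.infLERight (f 0) (f 1)).op (sf 1) := h
    simp only [TopCat.Presheaf.IsCompatible, Fin.forall_fin_two]
    refine ⟨⟨rfl, h01⟩, ?_, rfl⟩
    have hle : Q ⊓ P ≤ P ⊓ Q := le_of_eq (inf_comm _ _)
    have e1 : A.obj.map (Opens.infLELeft (f 1) (f 0)).op (sf 1) =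
        TowerLim.res A hle (TowerLim.res A (inf_le_right : P ⊓ Q ≤ Q) t) := by
      rw [res_res]
      rfl
    have e2 : A.obj.map (Opens.infLERight (f 1) (f 0)).op (sf 0) =
        TowerLim.res A hle (TowerLim.res A (inf_le_left : P ⊓ Q ≤ P) s) := by
      rw [res_res]
      rfl
    rw [e1, e2, h]
  obtain ⟨gl, hgl, -⟩ := TopCat.Sheaf.existsUnique_gluing A f sf hcompat
  have hle : P ⊔ Q ≤ iSup f := sup_le (le_iSup f 0) (le_iSup f 1)
  refine ⟨TowerLim.res A hle gl, ?_, ?_⟩
  · rw [res_res]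
    exact hgl 0
  · rw [res_res]
    exact hgl 1

/-- a section vanishing on two opens covering `T` vanishes -/
theorem eq_zero_of_res2 (A : CohTop.Ab X) {P Q T : Opens X} (hP : P ≤ T) (hQ : Q ≤ T)
    (hT : T ≤ P ⊔ Q) (x : (TowerLim.Γ T).obj A) (h1 : TowerLim.res A hP x = 0)
    (h2 : TowerLim.res A hQ x = 0) : x = 0 := by
  refine TopCat.Sheaf.eq_of_locally_eq₂ A (homOfLE hP) (homOfLE hQ) hT x 0 ?_ ?_
  · rw [map_zero]
    exact h1
  · rw [map_zero]
    exact h2

end General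

section MV

variable {X Y : TopCat.{u}} (f : X ⟶ Y)

/-- the functor `F ↦ (f|_U)_* (F|_U)` -/
noncomputable abbrev G (U : Opens X) : CohTop.Ab X ⥤ CohTop.Ab Y :=
  CohTop.restrFunctor U ⋙ CohTop.push (CohCx.incl U ≫ f)

/-- the open `U ∩ f⁻¹ W` -/
noncomputable abbrev img (U : Opens X) (W : Opens Y) : Opens X :=
  (isOpenEmbedding_incl U).isOpenMap.functor.obj ((Opens.map (CohCx.incl U ≫ f)).obj W)

lemma mem_img (U : Opens X) (W : Opens Y) (x : X) : x ∈ img f U W ↔ x ∈ U ∧ f x ∈ W := by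
  constructor
  · rintro ⟨u, hu, rfl⟩
    exact ⟨u.2, hu⟩
  · rintro ⟨hx, hW⟩
    exact ⟨⟨x, hx⟩, hW, rfl⟩

lemma img_le (U : Opens X) (W : Opens Y) : img f U W ≤ (Opens.map f).obj W := fun x hx =>
  ((mem_img f U W x).mp hx).2

lemma img_mono {U V : Opens X} (h : V ≤ U) (W : Opens Y) : img f V W ≤ img f U W := fun x hx =>
  (mem_img f U W x).mpr ⟨h ((mem_img f V W x).mp hx).1, ((mem_img f V W x).mp hx).2⟩

lemma le_img_sup {U V : Opens X} (hUV : U ⊔ V = ⊤) (W : Opens Y) :
    (Opens.map f).obj W ≤ img f U W ⊔ img f V W := by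
  intro x hx
  have hx' : x ∈ U ⊔ V := by
    rw [hUV]
    trivial
  rcases hx' with h | h
  · exact Or.inl ((mem_img f U W x).mpr ⟨h, hx⟩)
  · exact Or.inr ((mem_img f V W x).mpr ⟨h, hx⟩)

lemma img_inf_le (U V : Opens X) (W : Opens Y) : img f U W ⊓ img f V W ≤ img f (U ⊓ V) W := by
  rintro x ⟨h1, h2⟩
  exact (mem_img f (U ⊓ V) W x).mpr
    ⟨⟨((mem_img f U W x).mp h1).1, ((mem_img f V W x).mp h2).1⟩, ((mem_img f U W x).mp h1).2⟩

lemma Γ_pushToRestrPush (U : Opens X) (F : CohTop.Ab X) (W : Opens Y)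
    (x : (TowerLim.Γ ((Opens.map f).obj W)).obj F) :
    (TowerLim.Γ W).map ((CohCx.pushToRestrPush f U).app F) x =
      TowerLim.res F (img_le f U W) x := rfl

lemma Γ_restrPushToRestrPush {U V : Opens X} (h : V ≤ U) (F : CohTop.Ab X) (W : Opens Y)
    (x : (TowerLim.Γ (img f U W)).obj F) :
    (TowerLim.Γ W).map ((CohCx.restrPushToRestrPush f h).app F) x =
      TowerLim.res F (img_mono f h W) x := rfl

lemma comm {U V : Opens X} (h : V ≤ U) :
    CohCx.pushToRestrPush f U ≫ CohCx.restrPushToRestrPush f h = CohCx.pushToRestrPush f V := by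
  apply NatTrans.ext
  funext F
  ext : 2
  funext W
  change F.obj.map _ ≫ F.obj.map _ = F.obj.map _
  rw [← F.obj.map_comp]
  rfl

variable (U V : Opens X)

lemma w : CohCx.pushToRestrPush f U ≫ CohCx.restrPushToRestrPush f (inf_le_left : U ⊓ V ≤ U) =
    CohCx.pushToRestrPush f V ≫ CohCx.restrPushToRestrPush f (inf_le_right : U ⊓ V ≤ V) := by
  rw [comm, comm]

theorem exactOnInjectives (hUV : U ⊔ V = ⊤) :
    ExactOnInjectives
      (liftNat (CohCx.pushToRestrPush f U) (CohCx.pushToRestrPush f V))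
      (descNat (CohCx.restrPushToRestrPush f (inf_le_left : U ⊓ V ≤ U))
        (-(CohCx.restrPushToRestrPush f (inf_le_right : U ⊓ V ≤ V))))
      (liftNat_descNat_neg _ _ _ _ (w f U V)) := by
  intro I hI
  have : TopCat.Sheaf.IsFlasque I := Groth.Agent.Lib.Helper28.ShCoh.isFlasque_of_injective I
  refine shortExact_of_sections _ (fun W => ?_) (fun W y hy => ?_) (fun W z => ?_)
  · refine (injective_iff_map_eq_zero ((TowerLim.Γ W).map _).hom).mpr (fun x hx => ?_)
    change (TowerLim.Γ W).map (biprod.lift ((CohCx.pushToRestrPush f U).app I)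
      ((CohCx.pushToRestrPush f V).app I)) x = 0 at hx
    have h1 : TowerLim.res I (img_le f U W) x = 0 := by
      have h := congrArg ((TowerLim.Γ W).map biprod.fst) hx
      rw [← Γ_comp_apply, biprod.lift_fst, map_zero] at h
      exact h
    have h2 : TowerLim.res I (img_le f V W) x = 0 := by
      have h := congrArg ((TowerLim.Γ W).map biprod.snd) hx
      rw [← Γ_comp_apply, biprod.lift_snd, map_zero] at h
      exact h
    exact eq_zero_of_res2 I (img_le f U W) (img_le f V W) (le_img_sup f hUV W) x h1 h2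
  · change (TowerLim.Γ W).obj ((G f U).obj I ⊞ (G f V).obj I) at y
    change (TowerLim.Γ W).map (biprod.desc
      ((CohCx.restrPushToRestrPush f (inf_le_left : U ⊓ V ≤ U)).app I)
      (-((CohCx.restrPushToRestrPush f (inf_le_right : U ⊓ V ≤ V)).app I))) y = 0 at hy
    obtain ⟨s, hs⟩ : ∃ s : (TowerLim.Γ (img f U W)).obj I,
      s = (TowerLim.Γ W).map biprod.fst y := ⟨_, rfl⟩
    obtain ⟨t, ht⟩ : ∃ t : (TowerLim.Γ (img f V W)).obj I,
      t = (TowerLim.Γ W).map biprod.snd y := ⟨_, rfl⟩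
    have hdec : y = (TowerLim.Γ W).map
        (biprod.inl : (G f U).obj I ⟶ (G f U).obj I ⊞ (G f V).obj I) s +
        (TowerLim.Γ W).map
          (biprod.inr : (G f V).obj I ⟶ (G f U).obj I ⊞ (G f V).obj I) t := by
      rw [hs, ht]
      exact Γ_biprod_decomp W y
    have hy' : TowerLim.res I (img_mono f (inf_le_left : U ⊓ V ≤ U) W) s =
        TowerLim.res I (img_mono f (inf_le_right : U ⊓ V ≤ V) W) t := by
      rw [hdec, map_add, ← Γ_comp_apply, ← Γ_comp_apply, biprod.inl_desc,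
        biprod.inr_desc, Γ_neg_apply] at hy
      exact add_neg_eq_zero.mp hy
    obtain ⟨g', hg1, hg2⟩ := glue2 I (img f U W) (img f V W) s t (by
        have e1 : TowerLim.res I (inf_le_left : img f U W ⊓ img f V W ≤ img f U W) s =
            TowerLim.res I (img_inf_le f U V W)
              (TowerLim.res I (img_mono f (inf_le_left : U ⊓ V ≤ U) W) s) := by
          rw [res_res]
        have e2 : TowerLim.res I (inf_le_right : img f U W ⊓ img f V W ≤ img f V W) t =
            TowerLim.res I (img_inf_le f U V W)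
              (TowerLim.res I (img_mono f (inf_le_right : U ⊓ V ≤ V) W) t) := by
          rw [res_res]
        rw [e1, e2, hy'])
    refine ⟨TowerLim.res I (le_img_sup f hUV W) g', Γ_biprod_ext W _ _ ?_ ?_⟩
    · change (TowerLim.Γ W).map biprod.fst ((TowerLim.Γ W).map (biprod.lift
        ((CohCx.pushToRestrPush f U).app I) ((CohCx.pushToRestrPush f V).app I)) _) = _
      rw [← Γ_comp_apply, biprod.lift_fst, Γ_pushToRestrPush, res_res, ← hs]
      exact hg1
    · change (TowerLim.Γ W).map biprod.snd ((TowerLim.Γ W).map (biprod.lift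
        ((CohCx.pushToRestrPush f U).app I) ((CohCx.pushToRestrPush f V).app I)) _) = _
      rw [← Γ_comp_apply, biprod.lift_snd, Γ_pushToRestrPush, res_res, ← ht]
      exact hg2
  · change (TowerLim.Γ (img f (U ⊓ V) W)).obj I at z
    obtain ⟨s, hs⟩ := (AddCommGrpCat.epi_iff_surjective _).mp
      (TopCat.Presheaf.IsFlasque.epi (F := I.obj)
        (homOfLE (img_mono f (inf_le_left : U ⊓ V ≤ U) W)).op) z
    refine ⟨(TowerLim.Γ W).map (biprod.inl : (G f U).obj I ⟶ (G f U).obj I ⊞ (G f V).obj I) s, ?_⟩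
    change (TowerLim.Γ W).map (biprod.desc
      ((CohCx.restrPushToRestrPush f (inf_le_left : U ⊓ V ≤ U)).app I)
      (-((CohCx.restrPushToRestrPush f (inf_le_right : U ⊓ V ≤ V)).app I))) _ = z
    rw [← Γ_comp_apply, biprod.inl_desc]
    exact hs

end MV

end Groth.Agent.Lib.Helper33.RelMV
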