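import Groth.Agent.Lib.Helper33.SheafHomExact
import Groth.Agent.Lib.Helper33.RelMV
import Groth.Agent.Lib.Helper83.ModCoh
import Groth.Prelude.Def_Coh

/-!
# The sequence `f_* ℋom(F'', -) ⟶ f_* ℋom(F, -) ⟶ f_* ℋom(F', -)` is short exact on injective
`O_X`-modules (helper33)
-/

set_option autoImplicit false

universe u

open CategoryTheory CategoryTheory.Limits Opposite AlgebraicGeometry TopologicalSpace

namespace Groth.Agent.Lib.Helper33.RelExtLES

open Groth.Agent.Lib.Helper96 Groth.Agent.Lib.Helper33.FunctorLES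

section General

variable {C : Type u} [SmallCategory C] {J : GrothendieckTopology C} (R : Sheaf J RingCat.{u})

/-- the forgetful functor to abelian sheaves reflects short exact sequences -/
lemma shortExact_of_map_toSheaf (S : ShortComplex (SheafOfModules.{u} R))
    (h : (S.map (SheafOfModules.toSheaf.{u} R)).ShortExact) : S.ShortExact where
  exact := (ShortComplex.exact_map_iff_of_faithful S (SheafOfModules.toSheaf.{u} R)).mp h.exact
  mono_f := (SheafOfModules.toSheaf.{u} R).mono_of_mono_map h.mono_f
  epi_g := (SheafOfModules.toSheaf.{u} R).epi_of_epi_map h.epi_g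

end General

variable {X Y : Scheme.{u}} (f : X ⟶ Y)

/-- sectionwise criterion for short exactness of `O_Y`-modules -/
theorem shortExact_of_sections (S : ShortComplex Y.Modules)
    (h1 : ∀ W : Y.Opens, Function.Injective (S.f.val.app (op W)))
    (h2 : ∀ (W : Y.Opens) (y : S.X₂.val.obj (op W)), S.g.val.app (op W) y = 0 →
      ∃ x : S.X₁.val.obj (op W), S.f.val.app (op W) x = y)
    (h3 : ∀ W : Y.Opens, Function.Surjective (S.g.val.app (op W))) : S.ShortExact := by
  apply shortExact_of_map_toSheaf
  exact RelMV.shortExact_of_sections (Y := Y.toTopCat) _ h1 h2 h3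


section Main

open Groth.Agent.Lib.Helper33.SheafHomExact Groth.Agent.Lib.Helper30.ModTensorAdj

variable (S : ShortComplex X.Modules)
  [ModSite.HasSheafHom (O := X.sheaf) S.X₁] [ModSite.HasSheafHom (O := X.sheaf) S.X₂]
  [ModSite.HasSheafHom (O := X.sheaf) S.X₃]

lemma conjugateEquiv_zero {A B : Type*} [Category A] [Category B] [Preadditive A] [Preadditive B]
    {L L' : A ⥤ B} {R R' : B ⥤ A} [R'.PreservesZeroMorphisms] (adj : L ⊣ R) (adj' : L' ⊣ R') :
    conjugateEquiv adj adj' (0 : L' ⟶ L) = 0 := by
  ext N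
  rw [conjugateEquiv_apply_app]
  simp

lemma sheafHomMap_comp_eq_zero :
    ExtSupp.sheafHomMap (O := X.sheaf) S.g ≫ ExtSupp.sheafHomMap (O := X.sheaf) S.f = 0 := by
  have h0 : (ModSite.tensorBi X.sheaf).flip.map S.f ≫ (ModSite.tensorBi X.sheaf).flip.map S.g =
      0 := by
    refine ((ModSite.tensorBi X.sheaf).flip.map_comp _ _).symm.trans
      ((congrArg (fun φ => (ModSite.tensorBi X.sheaf).flip.map φ) S.zero).trans ?_)
    apply NatTrans.ext
    funext T
    exact ((ModSite.tensorBi X.sheaf).obj T).map_zero _ _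
  unfold ExtSupp.sheafHomMap
  rw [conjugateEquiv_comp, h0]
  exact conjugateEquiv_zero _ _

lemma w : Functor.whiskerRight (ExtSupp.sheafHomMap (O := X.sheaf) S.g)
      (Scheme.Modules.pushforward f) ≫
    Functor.whiskerRight (ExtSupp.sheafHomMap (O := X.sheaf) S.f)
      (Scheme.Modules.pushforward f) = 0 := by
  rw [← Functor.whiskerRight_comp, sheafHomMap_comp_eq_zero]
  apply NatTrans.ext
  funext N
  exact (Scheme.Modules.pushforward f).map_zero _ _

theorem exactOnInjectives (hS : S.ShortExact) :
    ExactOnInjectives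
      (Functor.whiskerRight (ExtSupp.sheafHomMap (O := X.sheaf) S.g)
        (Scheme.Modules.pushforward f))
      (Functor.whiskerRight (ExtSupp.sheafHomMap (O := X.sheaf) S.f)
        (Scheme.Modules.pushforward f)) (w f S) := by
  intro I hI
  refine shortExact_of_sections _ (fun W => ?_) (fun W y hy => ?_) (fun W => ?_)
  · exact sheafHomMap_g_injective (O := X.sheaf) S hS I (f ⁻¹ᵁ W)
  · exact sheafHomMap_exact (O := X.sheaf) S hS I (f ⁻¹ᵁ W) y hy
  · exact sheafHomMap_f_surjective (O := X.sheaf) S hS I (f ⁻¹ᵁ W)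

end Main

end Groth.Agent.Lib.Helper33.RelExtLES
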