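import Groth.Agent.Lib.Helper33.FunctorLES

/-!
# Mayer–Vietoris type long exact sequences of right derived functors (helper33)

* additivity of `NatTrans.rightDerived` in the natural transformation;
* the objectwise biproduct `biprodFunctor A B` of two functors and
  `Rⁿ(A ⊞ B) X ≅ RⁿA X ⊞ RⁿB X`;
* exactness at the middle term of the long exact sequence of `FunctorLES`;
* the Mayer–Vietoris sequence attached to `G₁ ⟶ A ⊞ B ⟶ G₃` short exact on injectives.
-/

set_option autoImplicit false

universe v v' u u'

open CategoryTheory CategoryTheory.Limits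

namespace Groth.Agent.Lib.Helper33.FunctorLES

variable {C : Type u} [Category.{v} C] [Abelian C] [HasInjectiveResolutions C]
  {D : Type u'} [Category.{v'} D] [Abelian D]

section Additivity

variable {F G : C ⥤ D} [F.Additive] [G.Additive]

lemma rightDerived_add (α β : F ⟶ G) (n : ℕ) :
    NatTrans.rightDerived (α + β) n = NatTrans.rightDerived α n + NatTrans.rightDerived β n := by
  apply NatTrans.ext
  funext X
  rw [NatTrans.app_add, InjectiveResolution.rightDerived_app_eq (α + β) (injectiveResolution X) n,
    InjectiveResolution.rightDerived_app_eq α (injectiveResolution X) n,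
    InjectiveResolution.rightDerived_app_eq β (injectiveResolution X) n]
  have h : (NatTrans.mapHomologicalComplex (α + β) (ComplexShape.up ℕ)).app
      (injectiveResolution X).cocomplex =
      (NatTrans.mapHomologicalComplex α (ComplexShape.up ℕ)).app (injectiveResolution X).cocomplex +
      (NatTrans.mapHomologicalComplex β (ComplexShape.up ℕ)).app
        (injectiveResolution X).cocomplex := by
    ext i
    rfl
  rw [h, Functor.map_add, Preadditive.add_comp, Preadditive.comp_add]

lemma rightDerived_zero (n : ℕ) : NatTrans.rightDerived (0 : F ⟶ G) n = 0 := by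
  have h := rightDerived_add (0 : F ⟶ G) 0 n
  rw [add_zero] at h
  exact left_eq_add.mp h

lemma rightDerived_neg (α : F ⟶ G) (n : ℕ) :
    NatTrans.rightDerived (-α) n = -NatTrans.rightDerived α n := by
  have h := rightDerived_add (-α) α n
  rw [neg_add_cancel, rightDerived_zero] at h
  exact eq_neg_of_add_eq_zero_left h.symm

end Additivity

section Biprod

variable (A B : C ⥤ D)

/-- the objectwise biproduct of two functors -/
@[simps, reducible]
noncomputable def biprodFunctor : C ⥤ D where
  obj X := A.obj X ⊞ B.obj X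
  map f := biprod.map (A.map f) (B.map f)
  map_id X := by ext <;> simp
  map_comp f g := by ext <;> simp

instance [A.Additive] [B.Additive] : (biprodFunctor A B).Additive where
  map_add {X Y f g} := by
    change biprod.map _ _ = biprod.map _ _ + biprod.map _ _
    ext <;> simp [Preadditive.add_comp, Preadditive.comp_add, Functor.map_add]

/-- first projection -/
@[simps]
noncomputable def fstNat : biprodFunctor A B ⟶ A where
  app _ := biprod.fst
  naturality _ _ _ := biprod.map_fst _ _

/-- second projection -/
@[simps]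
noncomputable def sndNat : biprodFunctor A B ⟶ B where
  app _ := biprod.snd
  naturality _ _ _ := biprod.map_snd _ _

/-- first inclusion -/
@[simps]
noncomputable def inlNat : A ⟶ biprodFunctor A B where
  app _ := biprod.inl
  naturality _ _ _ := (biprod.inl_map _ _).symm

/-- second inclusion -/
@[simps]
noncomputable def inrNat : B ⟶ biprodFunctor A B where
  app _ := biprod.inr
  naturality _ _ _ := (biprod.inr_map _ _).symm

variable {A B}

/-- the morphism into the biproduct functor -/
@[simps]
noncomputable def liftNat {G : C ⥤ D} (a : G ⟶ A) (b : G ⟶ B) : G ⟶ biprodFunctor A B where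
  app X := biprod.lift (a.app X) (b.app X)
  naturality X Y f := by
    dsimp
    ext <;> simp

/-- the morphism from the biproduct functor -/
@[simps]
noncomputable def descNat {G : C ⥤ D} (r : A ⟶ G) (s : B ⟶ G) : biprodFunctor A B ⟶ G where
  app X := biprod.desc (r.app X) (s.app X)
  naturality X Y f := by
    dsimp
    ext <;> simp

@[reassoc (attr := simp)]
lemma liftNat_fst {G : C ⥤ D} (a : G ⟶ A) (b : G ⟶ B) : liftNat a b ≫ fstNat A B = a := by
  ext X
  simp

@[reassoc (attr := simp)]
lemma liftNat_snd {G : C ⥤ D} (a : G ⟶ A) (b : G ⟶ B) : liftNat a b ≫ sndNat A B = b := by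
  ext X
  simp

@[reassoc (attr := simp)]
lemma inlNat_desc {G : C ⥤ D} (r : A ⟶ G) (s : B ⟶ G) : inlNat A B ≫ descNat r s = r := by
  ext X
  simp

@[reassoc (attr := simp)]
lemma inrNat_desc {G : C ⥤ D} (r : A ⟶ G) (s : B ⟶ G) : inrNat A B ≫ descNat r s = s := by
  ext X
  simp

variable (A B)

lemma inl_fst : inlNat A B ≫ fstNat A B = 𝟙 A := by
  ext X
  simp

lemma inr_snd : inrNat A B ≫ sndNat A B = 𝟙 B := by
  ext X
  simp

lemma inl_snd : inlNat A B ≫ sndNat A B = 0 := by
  ext X
  simp

lemma inr_fst : inrNat A B ≫ fstNat A B = 0 := by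
  ext X
  simp

lemma total : fstNat A B ≫ inlNat A B + sndNat A B ≫ inrNat A B = 𝟙 (biprodFunctor A B) := by
  apply NatTrans.ext
  funext X
  exact biprod.total

variable [A.Additive] [B.Additive]

/-- `Rⁿ(A ⊞ B) X ≅ RⁿA X ⊞ RⁿB X` -/
noncomputable def rdBiprodIso (n : ℕ) (X : C) :
    ((biprodFunctor A B).rightDerived n).obj X ≅
      (A.rightDerived n).obj X ⊞ (B.rightDerived n).obj X where
  hom := biprod.lift ((NatTrans.rightDerived (fstNat A B) n).app X)
    ((NatTrans.rightDerived (sndNat A B) n).app X)
  inv := biprod.desc ((NatTrans.rightDerived (inlNat A B) n).app X)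
    ((NatTrans.rightDerived (inrNat A B) n).app X)
  hom_inv_id := by
    rw [biprod.lift_desc, ← NatTrans.comp_app, ← NatTrans.comp_app, ← NatTrans.rightDerived_comp,
      ← NatTrans.rightDerived_comp, ← NatTrans.app_add, ← rightDerived_add, total,
      NatTrans.rightDerived_id]
    rfl
  inv_hom_id := by
    ext
    · rw [biprod.inl_desc_assoc, Category.assoc, biprod.lift_fst, ← NatTrans.comp_app,
        ← NatTrans.rightDerived_comp, inl_fst, NatTrans.rightDerived_id]
      simp
    · rw [biprod.inl_desc_assoc, Category.assoc, biprod.lift_snd, ← NatTrans.comp_app,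
        ← NatTrans.rightDerived_comp, inl_snd, rightDerived_zero]
      simp
    · rw [biprod.inr_desc_assoc, Category.assoc, biprod.lift_fst, ← NatTrans.comp_app,
        ← NatTrans.rightDerived_comp, inr_fst, rightDerived_zero]
      simp
    · rw [biprod.inr_desc_assoc, Category.assoc, biprod.lift_snd, ← NatTrans.comp_app,
        ← NatTrans.rightDerived_comp, inr_snd, NatTrans.rightDerived_id]
      simp

variable {A B}

lemma rightDerived_liftNat_comp_iso {G : C ⥤ D} [G.Additive] (a : G ⟶ A) (b : G ⟶ B) (n : ℕ)
    (X : C) :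
    (NatTrans.rightDerived (liftNat a b) n).app X ≫ (rdBiprodIso A B n X).hom =
      biprod.lift ((NatTrans.rightDerived a n).app X) ((NatTrans.rightDerived b n).app X) := by
  dsimp [rdBiprodIso]
  ext
  · rw [Category.assoc, biprod.lift_fst, biprod.lift_fst, ← NatTrans.comp_app,
      ← NatTrans.rightDerived_comp, liftNat_fst]
  · rw [Category.assoc, biprod.lift_snd, biprod.lift_snd, ← NatTrans.comp_app,
      ← NatTrans.rightDerived_comp, liftNat_snd]

lemma iso_hom_comp_desc {G : C ⥤ D} [G.Additive] (r : A ⟶ G) (s : B ⟶ G) (n : ℕ) (X : C) :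
    (rdBiprodIso A B n X).hom ≫
      biprod.desc ((NatTrans.rightDerived r n).app X) ((NatTrans.rightDerived s n).app X) =
      (NatTrans.rightDerived (descNat r s) n).app X := by
  rw [← cancel_epi (rdBiprodIso A B n X).inv, Iso.inv_hom_id_assoc]
  dsimp [rdBiprodIso]
  ext
  · rw [biprod.inl_desc, biprod.inl_desc_assoc, ← NatTrans.comp_app,
      ← NatTrans.rightDerived_comp, inlNat_desc]
  · rw [biprod.inr_desc, biprod.inr_desc_assoc, ← NatTrans.comp_app,
      ← NatTrans.rightDerived_comp, inrNat_desc]

end Biprod

section Exact₂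

variable {G₁ G₂ G₃ : C ⥤ D} [G₁.Additive] [G₂.Additive] [G₃.Additive]
  {α : G₁ ⟶ G₂} {β : G₂ ⟶ G₃} {w : α ≫ β = 0} (h : ExactOnInjectives α β w) (X : C)

include w in
lemma rightDerived_comp_eq_zero (n : ℕ) :
    (NatTrans.rightDerived α n).app X ≫ (NatTrans.rightDerived β n).app X = 0 := by
  rw [← NatTrans.comp_app, ← NatTrans.rightDerived_comp, w, rightDerived_zero]
  rfl

include h in
lemma exact₂ (n : ℕ) : (ShortComplex.mk _ _ (rightDerived_comp_eq_zero (w := w) X n)).Exact :=
  exact_transport _ _ _ _ ((injectiveResolution X).isoRightDerivedObj G₁ n)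
    ((injectiveResolution X).isoRightDerivedObj G₂ n)
    ((injectiveResolution X).isoRightDerivedObj G₃ n)
    (rightDerived_app_comp_iso_hom X α _ n) (rightDerived_app_comp_iso_hom X β _ n) _
    ((sc_shortExact h (injectiveResolution X).cocomplex
      (injectiveResolution X).injective).homology_exact₂ n)

include h in
lemma mono_rightDerived_zero : Mono ((NatTrans.rightDerived α 0).app X) := by
  have hS := sc_shortExact h (injectiveResolution X).cocomplex (injectiveResolution X).injective
  have : Mono (sc α β w (injectiveResolution X).cocomplex).f := hS.mono_f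
  have hm : Mono (((NatTrans.mapHomologicalComplex α (ComplexShape.up ℕ)).app
        (injectiveResolution X).cocomplex).f 0) :=
    inferInstanceAs (Mono ((sc α β w (injectiveResolution X).cocomplex).f.f 0))
  have h1 := rightDerived_app_comp_iso_hom X α (injectiveResolution X) 0
  have h2 : Mono ((NatTrans.rightDerived α 0).app X ≫
      ((injectiveResolution X).isoRightDerivedObj G₂ 0).hom) := by
    rw [h1]
    have h0 := HomologicalComplex.mono_homologyMap_of_mono_of_not_rel
      ((NatTrans.mapHomologicalComplex α (ComplexShape.up ℕ)).app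
        (injectiveResolution X).cocomplex) 0 (fun i hi => by simp at hi)
    exact mono_comp' inferInstance h0
  exact mono_of_mono _ ((injectiveResolution X).isoRightDerivedObj G₂ 0).hom

omit [HasInjectiveResolutions C] [Abelian C] in
lemma exact_mk₂_transport {A₁ A₂ A₃ B₁ B₂ B₃ : D} (f : A₁ ⟶ A₂) (g : A₂ ⟶ A₃) (f' : B₁ ⟶ B₂)
    (g' : B₂ ⟶ B₃) (e₁ : A₁ ≅ B₁) (e₂ : A₂ ≅ B₂) (e₃ : A₃ ≅ B₃)
    (c₁ : f ≫ e₂.hom = e₁.hom ≫ f') (c₂ : g ≫ e₃.hom = e₂.hom ≫ g') (w₀ : f ≫ g = 0)
    (hex : (ShortComplex.mk f g w₀).Exact) : (ComposableArrows.mk₂ f' g').Exact := by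
  have w' : f' ≫ g' = 0 := by
    rw [← cancel_epi e₁.hom, comp_zero, ← Category.assoc, ← c₁, Category.assoc, ← c₂,
      ← Category.assoc, w₀, zero_comp]
  have : (ShortComplex.mk f' g' w').Exact :=
    ShortComplex.exact_of_iso (ShortComplex.isoMk e₁ e₂ e₃ c₁.symm c₂.symm) hex
  exact this.exact_toComposableArrows

end Exact₂

section MayerVietoris

variable {G₁ A B G₃ : C ⥤ D} [G₁.Additive] [A.Additive] [B.Additive] [G₃.Additive]
  (a : G₁ ⟶ A) (b : G₁ ⟶ B) (r : A ⟶ G₃) (s : B ⟶ G₃)

lemma liftNat_descNat_neg (w : a ≫ r = b ≫ s) : liftNat a b ≫ descNat r (-s) = 0 := by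
  ext X
  simp only [NatTrans.comp_app, liftNat_app, descNat_app, NatTrans.app_neg, biprod.lift_desc,
    Preadditive.comp_neg, NatTrans.app_zero]
  rw [← NatTrans.comp_app, ← NatTrans.comp_app, w]
  exact add_neg_cancel _

/-- The Mayer–Vietoris long exact sequence attached to `G₁ ⟶ A ⊞ B ⟶ G₃` short exact on
injectives. -/
theorem mayerVietoris (w : a ≫ r = b ≫ s)
    (h : ExactOnInjectives (liftNat a b) (descNat r (-s)) (liftNat_descNat_neg a b r s w))
    (X : C) :
    ∃ δ : ∀ n : ℕ, (G₃.rightDerived n).obj X ⟶ (G₁.rightDerived (n + 1)).obj X,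
      Mono (biprod.lift ((NatTrans.rightDerived a 0).app X)
        ((NatTrans.rightDerived b 0).app X)) ∧
      ∀ n : ℕ,
        (ComposableArrows.mk₂
          (biprod.lift ((NatTrans.rightDerived a n).app X) ((NatTrans.rightDerived b n).app X))
          (biprod.desc ((NatTrans.rightDerived r n).app X)
            (-((NatTrans.rightDerived s n).app X)))).Exact ∧
        (ComposableArrows.mk₂
          (biprod.desc ((NatTrans.rightDerived r n).app X)
            (-((NatTrans.rightDerived s n).app X)))
          (δ n)).Exact ∧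
        (ComposableArrows.mk₂ (δ n)
          (biprod.lift ((NatTrans.rightDerived a (n + 1)).app X)
            ((NatTrans.rightDerived b (n + 1)).app X))).Exact := by
  have hneg : ∀ n : ℕ, -((NatTrans.rightDerived s n).app X) =
      (NatTrans.rightDerived (-s) n).app X := fun n => by
    rw [rightDerived_neg]
    rfl
  refine ⟨fun n => (δ h n).app X, ?_, fun n => ⟨?_, ?_, ?_⟩⟩
  · rw [← rightDerived_liftNat_comp_iso]
    have := mono_rightDerived_zero h X
    infer_instance
  · rw [hneg]
    exact exact_mk₂_transport _ _ _ _ (Iso.refl _) (rdBiprodIso A B n X) (Iso.refl _)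
      ((rightDerived_liftNat_comp_iso a b n X).trans (Category.id_comp _).symm)
      ((Category.comp_id _).trans (iso_hom_comp_desc r (-s) n X).symm) _ (exact₂ h X n)
  · rw [hneg]
    exact exact_mk₂_transport _ _ _ _ (rdBiprodIso A B n X) (Iso.refl _) (Iso.refl _)
      ((Category.comp_id _).trans (iso_hom_comp_desc r (-s) n X).symm)
      ((Category.comp_id _).trans (Category.id_comp _).symm) _ (exact₃ h X n)
  · exact exact_mk₂_transport _ _ _ _ (Iso.refl _) (Iso.refl _) (rdBiprodIso A B (n + 1) X)
      ((Category.comp_id _).trans (Category.id_comp _).symm)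
      ((rightDerived_liftNat_comp_iso a b (n + 1) X).trans (Category.id_comp _).symm) _
      (exact₁ h X n)

end MayerVietoris

end Groth.Agent.Lib.Helper33.FunctorLES
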