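import Groth.Agent.Lib.Helper33.LocCohLES
import Groth.Agent.Lib.Helper33.FunctorLESBiprod

/-!
# Acyclic resolutions in a contravariant variable compute derived functors (helper33)

Let `T : A₀ᵒᵖ ⥤ (A ⥤ B)` be a family of left exact additive functors `T M : A ⥤ B`, contravariant
in `M`, such that for every short exact sequence `0 ⟶ M' ⟶ M ⟶ M'' ⟶ 0` of `A₀` the sequence
`T M'' ⟶ T M ⟶ T M'` is short exact on injective objects of `A`.  If `L_• ⟶ F` is a resolution
with `Rᵖ(T L_j) G = 0` for all `p ≥ 1`, then `Hⁱ((T L_•) G) ≅ Rⁱ(T F) G`.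
-/

set_option autoImplicit false

universe v₀ v v' u₀ u u'

open CategoryTheory CategoryTheory.Limits Opposite

namespace Groth.Agent.Lib.Helper33.FunctorLES

section LeftExact

variable {C : Type u} [Category.{v} C] [Abelian C] [HasInjectiveResolutions C]
  {D : Type u'} [Category.{v'} D] [Abelian D]
  {G₁ G₂ G₃ : C ⥤ D} [G₁.Additive] [G₂.Additive] [G₃.Additive]
  {α : G₁ ⟶ G₂} {β : G₂ ⟶ G₃} {w : α ≫ β = 0}

lemma mono_app [PreservesFiniteLimits G₁] (h : ExactOnInjectives α β w) (X : C) :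
    Mono (α.app X) := by
  have h1 := toRightDerivedZero_naturality α X
  have : Mono ((NatTrans.rightDerived α 0).app X) := mono_rightDerived_zero h X
  have : Mono (α.app X ≫ G₂.toRightDerivedZero.app X) := by
    rw [← h1]
    infer_instance
  exact mono_of_mono _ (G₂.toRightDerivedZero.app X)

include w in
omit [HasInjectiveResolutions C] [G₁.Additive] [G₂.Additive] [G₃.Additive] [Abelian C] in
lemma app_comp_app (X : C) : α.app X ≫ β.app X = 0 := by
  rw [← NatTrans.comp_app, w]
  rfl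

lemma exact_app [PreservesFiniteLimits G₁] [PreservesFiniteLimits G₂] [PreservesFiniteLimits G₃]
    (h : ExactOnInjectives α β w) (X : C) :
    (ShortComplex.mk (α.app X) (β.app X) (app_comp_app (w := w) X)).Exact :=
  exact_transport (α.app X) (β.app X) ((NatTrans.rightDerived α 0).app X)
    ((NatTrans.rightDerived β 0).app X)
    (asIso (G₁.toRightDerivedZero.app X)) (asIso (G₂.toRightDerivedZero.app X))
    (asIso (G₃.toRightDerivedZero.app X))
    (toRightDerivedZero_naturality α X).symm (toRightDerivedZero_naturality β X).symm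
    (rightDerived_comp_eq_zero (w := w) X 0) (exact₂ h X 0)

/-- `G₁ X` is the kernel of `G₂ X ⟶ G₃ X` -/
noncomputable def isKernelApp [PreservesFiniteLimits G₁] [PreservesFiniteLimits G₂]
    [PreservesFiniteLimits G₃] (h : ExactOnInjectives α β w) (X : C) :
    IsLimit (KernelFork.ofι (α.app X) (app_comp_app (w := w) X)) :=
  haveI := mono_app h X
  (exact_app h X).fIsKernel

lemma app_ρ (h : ExactOnInjectives α β w) (X : C) : β.app X ≫ (ρ h).app X = 0 := by
  rw [← NatTrans.comp_app, β_ρ]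
  rfl

/-- `R¹G₁ X` is the cokernel of `G₂ X ⟶ G₃ X` when `R¹G₂ X = 0` -/
noncomputable def isCokernelρ [PreservesFiniteLimits G₂] [PreservesFiniteLimits G₃]
    (h : ExactOnInjectives α β w) (X : C) (h₁ : IsZero ((G₂.rightDerived 1).obj X)) :
    IsColimit (CokernelCofork.ofπ ((ρ h).app X) (app_ρ h X)) :=
  haveI := epi_ρ_app h X h₁
  (exact_β_ρ_app h X).gIsCokernel

end LeftExact

end Groth.Agent.Lib.Helper33.FunctorLES

namespace Groth.Agent.Lib.Helper33.ContraRes

open Groth.Agent.Lib.Helper33.FunctorLES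

section Transport

variable {B : Type u'} [Category.{v'} B] [Abelian B]

/-- transport of a kernel along an isomorphism of the source and a monomorphism out of the
target -/
noncomputable def isKernelTransport {K X X' Y Y' : B} {i : K ⟶ X} {g : X ⟶ Y} {w : i ≫ g = 0}
    (hK : IsLimit (KernelFork.ofι i w)) (e : X' ≅ X) (μ : Y ⟶ Y') (_ : Mono μ) (g' : X' ⟶ Y')
    (hg' : g' = e.hom ≫ g ≫ μ) (w' : (i ≫ e.inv) ≫ g' = 0) :
    IsLimit (KernelFork.ofι (i ≫ e.inv) w') :=
  KernelFork.IsLimit.ofι _ _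
    (fun {W'} s hs => (KernelFork.IsLimit.lift' hK (s ≫ e.hom) (by
      rw [← cancel_mono μ, zero_comp, Category.assoc, Category.assoc, ← hg', hs])).1)
    (fun {W'} s hs => by
      have := (KernelFork.IsLimit.lift' hK (s ≫ e.hom) (by
        rw [← cancel_mono μ, zero_comp, Category.assoc, Category.assoc, ← hg', hs])).2
      dsimp at this
      rw [← Category.assoc, this, Category.assoc, Iso.hom_inv_id, Category.comp_id])
    (fun {W'} s hs m hm => by
      apply Fork.IsLimit.hom_ext hK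
      have := (KernelFork.IsLimit.lift' hK (s ≫ e.hom) (by
        rw [← cancel_mono μ, zero_comp, Category.assoc, Category.assoc, ← hg', hs])).2
      dsimp at this ⊢
      rw [this, ← hm, Category.assoc, Category.assoc, Iso.inv_hom_id, Category.comp_id])

/-- transport of a cokernel along an isomorphism of the target and an epimorphism onto the
source -/
noncomputable def isCokernelTransport {X X' Z Z' H : B} {a : X ⟶ Z} {π : Z ⟶ H} {w : a ≫ π = 0}
    (hH : IsColimit (CokernelCofork.ofπ π w)) (ψ : Z' ≅ Z) (ε : X' ⟶ X) (_ : Epi ε) (a' : X' ⟶ Z')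
    (ha' : a' ≫ ψ.hom = ε ≫ a) (w' : a' ≫ ψ.hom ≫ π = 0) :
    IsColimit (CokernelCofork.ofπ (ψ.hom ≫ π) w') :=
  CokernelCofork.IsColimit.ofπ _ _
    (fun {W'} s hs => (CokernelCofork.IsColimit.desc' hH (ψ.inv ≫ s) (by
      rw [← cancel_epi ε, comp_zero, ← Category.assoc, ← ha', Category.assoc, Iso.hom_inv_id_assoc,
        hs])).1)
    (fun {W'} s hs => by
      have := (CokernelCofork.IsColimit.desc' hH (ψ.inv ≫ s) (by
        rw [← cancel_epi ε, comp_zero, ← Category.assoc, ← ha', Category.assoc,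
          Iso.hom_inv_id_assoc, hs])).2
      dsimp at this
      rw [Category.assoc, this, Iso.hom_inv_id_assoc])
    (fun {W'} s hs m hm => by
      apply Cofork.IsColimit.hom_ext hH
      have := (CokernelCofork.IsColimit.desc' hH (ψ.inv ≫ s) (by
        rw [← cancel_epi ε, comp_zero, ← Category.assoc, ← ha', Category.assoc,
          Iso.hom_inv_id_assoc, hs])).2
      dsimp at this ⊢
      rw [this, ← hm, Category.assoc, Iso.inv_hom_id_assoc])

end Transport

section Resolution

variable {A₀ : Type u₀} [Category.{v₀} A₀] [Abelian A₀]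
  (L : ChainComplex A₀ ℕ) (F : A₀) (π : L.X 0 ⟶ F)

/-- the syzygies: `syz 0 = F`, `syz (j + 1) = im (L_{j+1} ⟶ L_j)` -/
noncomputable def syz : ℕ → A₀
  | 0 => F
  | j + 1 => Abelian.image (L.d (j + 1) j)

variable {F}

/-- `L_j ⟶ syz j` -/
noncomputable def syzπ : ∀ j, L.X j ⟶ syz L F j
  | 0 => π
  | j + 1 => Abelian.factorThruImage (L.d (j + 1) j)

variable (F)

/-- `syz (j + 1) ⟶ L_j` -/
noncomputable def syzι (j : ℕ) : syz L F (j + 1) ⟶ L.X j := Abelian.image.ι (L.d (j + 1) j)

instance (j : ℕ) : Mono (syzι L F j) := inferInstanceAs (Mono (Abelian.image.ι _))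

variable {F}

lemma syzπ_ι (j : ℕ) : syzπ L π (j + 1) ≫ syzι L F j = L.d (j + 1) j := Abelian.image.fac _

lemma syzι_π (hπ : L.d 1 0 ≫ π = 0) (j : ℕ) : syzι L F j ≫ syzπ L π j = 0 := by
  cases j with
  | zero =>
    have h : Abelian.factorThruImage (L.d 1 0) ≫ (Abelian.image.ι (L.d 1 0) ≫ π) =
        Abelian.factorThruImage (L.d 1 0) ≫ 0 := by
      rw [← Category.assoc, Abelian.image.fac, hπ, comp_zero]
    have h' : Abelian.image.ι (L.d 1 0) ≫ π = 0 :=
      (cancel_epi (Abelian.factorThruImage (L.d 1 0))).mp h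
    exact h'
  | succ j =>
    have h : Abelian.factorThruImage (L.d (j + 2) (j + 1)) ≫
        ((Abelian.image.ι (L.d (j + 2) (j + 1)) ≫ Abelian.factorThruImage (L.d (j + 1) j)) ≫
          Abelian.image.ι (L.d (j + 1) j)) =
        Abelian.factorThruImage (L.d (j + 2) (j + 1)) ≫ (0 ≫ Abelian.image.ι (L.d (j + 1) j)) := by
      rw [Category.assoc, Abelian.image.fac, ← Category.assoc, Abelian.image.fac, L.d_comp_d,
        zero_comp, comp_zero]
    have h' : Abelian.image.ι (L.d (j + 2) (j + 1)) ≫ Abelian.factorThruImage (L.d (j + 1) j) =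
        0 :=
      (cancel_mono (Abelian.image.ι (L.d (j + 1) j))).mp
        ((cancel_epi (Abelian.factorThruImage (L.d (j + 2) (j + 1)))).mp h)
    exact h'

/-- the short complex `0 ⟶ syz (j + 1) ⟶ L_j ⟶ syz j ⟶ 0` -/
noncomputable def syzSc (hπ : L.d 1 0 ≫ π = 0) (j : ℕ) : ShortComplex A₀ :=
  ShortComplex.mk (syzι L F j) (syzπ L π j) (syzι_π L π hπ j)

lemma syzSc_shortExact [Epi π] (hπ : L.d 1 0 ≫ π = 0)
    (hex0 : (ShortComplex.mk (L.d 1 0) π hπ).Exact) (hex : ∀ j : ℕ, L.ExactAt (j + 1)) (j : ℕ) :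
    (syzSc L π hπ j).ShortExact := by
  have hm : Mono (syzSc L π hπ j).f := inferInstanceAs (Mono (syzι L F j))
  cases j with
  | zero =>
    have he : Epi (syzSc L π hπ 0).g := inferInstanceAs (Epi π)
    have hex' : (syzSc L π hπ 0).Exact := by
      let φ : ShortComplex.mk (L.d 1 0) π hπ ⟶ syzSc L π hπ 0 :=
        { τ₁ := Abelian.factorThruImage (L.d 1 0)
          τ₂ := 𝟙 _
          τ₃ := 𝟙 _
          comm₁₂ := by
            change Abelian.factorThruImage (L.d 1 0) ≫ Abelian.image.ι (L.d 1 0) = L.d 1 0 ≫ 𝟙 _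
            rw [Abelian.image.fac, Category.comp_id]
          comm₂₃ := by
            change 𝟙 _ ≫ π = π ≫ 𝟙 _
            rw [Category.id_comp, Category.comp_id] }
      have : Epi φ.τ₁ := inferInstanceAs (Epi (Abelian.factorThruImage (L.d 1 0)))
      have : IsIso φ.τ₂ := inferInstanceAs (IsIso (𝟙 (L.X 0)))
      have : Mono φ.τ₃ := inferInstanceAs (Mono (𝟙 F))
      exact (ShortComplex.exact_iff_of_epi_of_isIso_of_mono φ).1 hex0
    exact { exact := hex' }
  | succ j =>
    have he : Epi (syzSc L π hπ (j + 1)).g :=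
      inferInstanceAs (Epi (Abelian.factorThruImage (L.d (j + 1) j)))
    have hexj : (ShortComplex.mk _ _ (L.d_comp_d (j + 2) (j + 1) j)).Exact :=
      ((HomologicalComplex.exactAt_iff' _ (j + 2) (j + 1) j)
        (by simp only [ChainComplex.prev]; rfl) (by simp)).1 (hex j)
    let S1 : ShortComplex A₀ := ShortComplex.mk (Abelian.image.ι (L.d (j + 2) (j + 1)))
      (L.d (j + 1) j) (by
        rw [← cancel_epi (Abelian.factorThruImage (L.d (j + 2) (j + 1))), ← Category.assoc,
          Abelian.image.fac, L.d_comp_d, comp_zero])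
    have hex1 : S1.Exact := by
      let φ : ShortComplex.mk _ _ (L.d_comp_d (j + 2) (j + 1) j) ⟶ S1 :=
        { τ₁ := Abelian.factorThruImage (L.d (j + 2) (j + 1))
          τ₂ := 𝟙 _
          τ₃ := 𝟙 _
          comm₁₂ := by simp [S1]
          comm₂₃ := by simp [S1] }
      have : Epi φ.τ₁ := inferInstanceAs (Epi (Abelian.factorThruImage (L.d (j + 2) (j + 1))))
      have : IsIso φ.τ₂ := inferInstanceAs (IsIso (𝟙 (L.X (j + 1))))
      have : Mono φ.τ₃ := inferInstanceAs (Mono (𝟙 (L.X j)))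
      exact (ShortComplex.exact_iff_of_epi_of_isIso_of_mono φ).1 hexj
    have hex' : (syzSc L π hπ (j + 1)).Exact := by
      let φ : syzSc L π hπ (j + 1) ⟶ S1 :=
        { τ₁ := 𝟙 _
          τ₂ := 𝟙 _
          τ₃ := Abelian.image.ι (L.d (j + 1) j)
          comm₁₂ := by
            change 𝟙 _ ≫ Abelian.image.ι (L.d (j + 2) (j + 1)) =
              Abelian.image.ι (L.d (j + 2) (j + 1)) ≫ 𝟙 _
            rw [Category.id_comp, Category.comp_id]
          comm₂₃ := by
            change 𝟙 _ ≫ L.d (j + 1) j =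
              Abelian.factorThruImage (L.d (j + 1) j) ≫ Abelian.image.ι (L.d (j + 1) j)
            rw [Category.id_comp, Abelian.image.fac] }
      have : Epi φ.τ₁ := inferInstanceAs (Epi (𝟙 (Abelian.image (L.d (j + 2) (j + 1)))))
      have : IsIso φ.τ₂ := inferInstanceAs (IsIso (𝟙 (L.X (j + 1))))
      have : Mono φ.τ₃ := inferInstanceAs (Mono (Abelian.image.ι (L.d (j + 1) j)))
      exact (ShortComplex.exact_iff_of_epi_of_isIso_of_mono φ).2 hex1
    exact { exact := hex' }

end Resolution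

section Main

variable {A₀ : Type u₀} [Category.{v₀} A₀] [Abelian A₀]
  {A : Type u} [Category.{v} A] [Abelian A] [HasInjectiveResolutions A]
  {B : Type u'} [Category.{v'} B] [Abelian B]
  (T : A₀ᵒᵖ ⥤ (A ⥤ B)) [∀ M, (T.obj M).Additive] [∀ M, PreservesFiniteLimits (T.obj M)]

/-- the hypothesis: short exact sequences of `A₀` give sequences of functors which are short
exact on injective objects -/
def IsExactFamily : Prop :=
  ∀ (S : ShortComplex A₀), S.ShortExact →
    ∃ w : T.map S.g.op ≫ T.map S.f.op = 0, ExactOnInjectives (T.map S.g.op) (T.map S.f.op) w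

variable {T} (hT : IsExactFamily T)
  (L : ChainComplex A₀ ℕ) {F : A₀} (π : L.X 0 ⟶ F) [Epi π] (hπ : L.d 1 0 ≫ π = 0)
  (hex0 : (ShortComplex.mk (L.d 1 0) π hπ).Exact) (hex : ∀ j : ℕ, L.ExactAt (j + 1))
  (G : A)

include hT hπ hex0 hex in
lemma nonempty_shift
    (hL : ∀ j p : ℕ, 1 ≤ p → IsZero (((T.obj (op (L.X j))).rightDerived p).obj G)) :
    ∀ (m q n : ℕ), 1 ≤ q → n = q + m →
      Nonempty (((T.obj (op F)).rightDerived n).obj G ≅
        ((T.obj (op (syz L F m))).rightDerived q).obj G) := by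
  intro m
  induction m with
  | zero =>
    intro q n _ hn
    subst hn
    exact ⟨Iso.refl _⟩
  | succ m ih =>
    intro q n hq hn
    obtain ⟨e1⟩ := ih (q + 1) n (by omega) (by omega)
    obtain ⟨w, h⟩ := hT (syzSc L π hπ m) (syzSc_shortExact L π hπ hex0 hex m)
    have := isIso_δ_app h G q (hL m q hq) (hL m (q + 1) (by omega))
    exact ⟨e1 ≪≫ (asIso ((δ h q).app G)).symm⟩

variable (C : CochainComplex B ℕ) (e : ∀ j : ℕ, C.X j ≅ (T.obj (op (L.X j))).obj G)
  (hC : ∀ j : ℕ, C.d j (j + 1) ≫ (e (j + 1)).hom =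
    (e j).hom ≫ (T.map (L.d (j + 1) j).op).app G)

omit [HasInjectiveResolutions A] [∀ M, (T.obj M).Additive]
  [∀ M, PreservesFiniteLimits (T.obj M)] [Epi π] in
lemma map_d_app (m : ℕ) : (T.map (L.d (m + 1) m).op).app G =
    (T.map (syzι L F m).op).app G ≫ (T.map (syzπ L π (m + 1)).op).app G := by
  rw [← NatTrans.comp_app, ← T.map_comp, ← op_comp, syzπ_ι]

include hC in
omit [HasInjectiveResolutions A] [∀ M, (T.obj M).Additive]
  [∀ M, PreservesFiniteLimits (T.obj M)] [Epi π] in
lemma d_eq (m : ℕ) : C.d m (m + 1) = (e m).hom ≫ (T.map (syzι L F m).op).app G ≫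
    ((T.map (syzπ L π (m + 1)).op).app G ≫ (e (m + 1)).inv) := by
  rw [← Category.assoc ((T.map (syzι L F m).op).app G), ← map_d_app, ← Category.assoc, ← hC,
    Category.assoc, Iso.hom_inv_id, Category.comp_id]

include hT hπ hex0 hex in
lemma mono_syzπ_app (m : ℕ) : Mono ((T.map (syzπ L π m).op).app G) := by
  obtain ⟨w, h⟩ := hT (syzSc L π hπ m) (syzSc_shortExact L π hπ hex0 hex m)
  exact mono_app h G

include hT hπ hex0 hex hC in
lemma exists_isKernel (m : ℕ) :
    ∃ w' : ((T.map (syzπ L π m).op).app G ≫ (e m).inv) ≫ C.d m (m + 1) = 0,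
      Nonempty (IsLimit (KernelFork.ofι ((T.map (syzπ L π m).op).app G ≫ (e m).inv) w')) := by
  obtain ⟨w, h⟩ := hT (syzSc L π hπ m) (syzSc_shortExact L π hπ hex0 hex m)
  have hm := mono_syzπ_app hT L π hπ hex0 hex G (m + 1)
  have hm' : Mono ((T.map (syzπ L π (m + 1)).op).app G ≫ (e (m + 1)).inv) := mono_comp _ _
  have w' : ((T.map (syzπ L π m).op).app G ≫ (e m).inv) ≫ C.d m (m + 1) = 0 := by
    rw [d_eq L π G C e hC m, Category.assoc, Iso.inv_hom_id_assoc, ← Category.assoc]
    have : (T.map (syzπ L π m).op).app G ≫ (T.map (syzι L F m).op).app G = 0 :=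
      app_comp_app (w := w) G
    rw [this, zero_comp]
  exact ⟨w', ⟨isKernelTransport (isKernelApp h G) (e m)
    ((T.map (syzπ L π (m + 1)).op).app G ≫ (e (m + 1)).inv) hm' (C.d m (m + 1))
    (d_eq L π G C e hC m) w'⟩⟩

include hT hπ hex0 hex hC in
/-- acyclic resolutions in the contravariant variable compute the derived functors -/
theorem nonempty_homology_iso
    (hL : ∀ j p : ℕ, 1 ≤ p → IsZero (((T.obj (op (L.X j))).rightDerived p).obj G)) (i : ℕ) :
    Nonempty (C.homology i ≅ ((T.obj (op F)).rightDerived i).obj G) := by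
  cases i with
  | zero =>
    obtain ⟨w', ⟨hK⟩⟩ := exists_isKernel hT L π hπ hex0 hex G C e hC 0
    have e1 : C.cycles 0 ≅ (T.obj (op F)).obj G :=
      IsLimit.conePointUniqueUpToIso (C.cyclesIsKernel 0 1 (by simp)) hK
    have : IsIso ((T.obj (op F)).toRightDerivedZero.app G) := inferInstance
    exact ⟨(CochainComplex.isoHomologyπ₀ C).symm ≪≫ e1 ≪≫
      asIso ((T.obj (op F)).toRightDerivedZero.app G)⟩
  | succ m =>
    obtain ⟨w', ⟨hK⟩⟩ := exists_isKernel hT L π hπ hex0 hex G C e hC (m + 1)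
    obtain ⟨w, h⟩ := hT (syzSc L π hπ m) (syzSc_shortExact L π hπ hex0 hex m)
    let ψ : C.cycles (m + 1) ≅ (T.obj (op (syz L F (m + 1)))).obj G :=
      IsLimit.conePointUniqueUpToIso (C.cyclesIsKernel (m + 1) (m + 2) (by simp)) hK
    have hψ : ψ.hom ≫ ((T.map (syzπ L π (m + 1)).op).app G ≫ (e (m + 1)).inv) =
        C.iCycles (m + 1) :=
      IsLimit.conePointUniqueUpToIso_hom_comp _ _ WalkingParallelPair.zero
    have hm := mono_syzπ_app hT L π hπ hex0 hex G (m + 1)
    have hm' : Mono ((T.map (syzπ L π (m + 1)).op).app G ≫ (e (m + 1)).inv) := mono_comp _ _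
    have ha' : C.toCycles m (m + 1) ≫ ψ.hom = (e m).hom ≫ (T.map (syzι L F m).op).app G := by
      rw [← cancel_mono ((T.map (syzπ L π (m + 1)).op).app G ≫ (e (m + 1)).inv), Category.assoc,
        hψ, C.toCycles_i, Category.assoc]
      exact d_eq L π G C e hC m
    have hcok := isCokernelρ h G (hL m 1 le_rfl)
    have w'' : C.toCycles m (m + 1) ≫ ψ.hom ≫ (ρ h).app G = 0 := by
      rw [← Category.assoc, ha', Category.assoc]
      have : (T.map (syzι L F m).op).app G ≫ (ρ h).app G = 0 := app_ρ h G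
      rw [this, comp_zero]
    have hcok' := isCokernelTransport hcok ψ (e m).hom inferInstance (C.toCycles m (m + 1)) ha' w''
    have e1 : C.homology (m + 1) ≅ ((T.obj (op (syz L F m))).rightDerived 1).obj G :=
      IsColimit.coconePointUniqueUpToIso (C.homologyIsCokernel m (m + 1) (by simp)) hcok'
    obtain ⟨e2⟩ := nonempty_shift hT L π hπ hex0 hex G hL m 1 (m + 1) le_rfl (by omega)
    exact ⟨e1 ≪≫ e2.symm⟩

end Main

end Groth.Agent.Lib.Helper33.ContraRes
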