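import Groth.Agent.Lib.Helper33.RelExtLES
import Groth.Agent.Lib.Helper33.ContraRes

/-!
# Relative Ext sheaves via acyclic resolutions of the first variable (helper33)
-/

set_option autoImplicit false

universe u

open CategoryTheory CategoryTheory.Limits Opposite AlgebraicGeometry

namespace Groth.Agent.Lib.Helper33.RelExtLES

open Groth.Agent.Lib.Helper33.FunctorLES Groth.Agent.Lib.Helper33.ContraRes
  Groth.Agent.Lib.Helper30.ModTensorAdj

variable {X Y : Scheme.{u}} (f : X ⟶ Y)

lemma sheafHomMap_id (M : X.Modules) :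
    ExtSupp.sheafHomMap (O := X.sheaf) (𝟙 M) = 𝟙 _ := by
  have h : (ModSite.tensorBi X.sheaf).flip.map (𝟙 M) = 𝟙 _ :=
    (ModSite.tensorBi X.sheaf).flip.map_id M
  exact (congrArg (conjugateEquiv (ModSite.sheafHomAdj (O := X.sheaf) M)
    (ModSite.sheafHomAdj (O := X.sheaf) M)) h).trans (conjugateEquiv_id _)

lemma sheafHomMap_comp {M M' M'' : X.Modules} (g' : M'' ⟶ M') (g : M' ⟶ M) :
    ExtSupp.sheafHomMap (O := X.sheaf) (g' ≫ g) =
      ExtSupp.sheafHomMap (O := X.sheaf) g ≫ ExtSupp.sheafHomMap (O := X.sheaf) g' := by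
  unfold ExtSupp.sheafHomMap
  rw [conjugateEquiv_comp, Functor.map_comp]

/-- the family of functors `M ↦ f_* ℋom(M, -)` -/
noncomputable def relHomFunctor : X.Modulesᵒᵖ ⥤ (X.Modules ⥤ Y.Modules) where
  obj M := ModSite.sheafHom (O := X.sheaf) M.unop ⋙ Scheme.Modules.pushforward f
  map g := Functor.whiskerRight (ExtSupp.sheafHomMap (O := X.sheaf) g.unop)
    (Scheme.Modules.pushforward f)
  map_id M := by
    change Functor.whiskerRight (ExtSupp.sheafHomMap (O := X.sheaf) (𝟙 M.unop)) _ = _
    rw [sheafHomMap_id]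
    rfl
  map_comp g g' := by
    change Functor.whiskerRight (ExtSupp.sheafHomMap (O := X.sheaf) (g'.unop ≫ g.unop)) _ = _
    rw [sheafHomMap_comp, Functor.whiskerRight_comp]
    rfl

instance (M : X.Modulesᵒᵖ) : PreservesFiniteLimits ((relHomFunctor f).obj M) := by
  have h1 : PreservesFiniteLimits (ModSite.sheafHom (O := X.sheaf) M.unop) := inferInstance
  have h2 : PreservesFiniteLimits (Scheme.Modules.pushforward f) := by
    have : PreservesLimitsOfSize.{0, 0} (Scheme.Modules.pushforward f) :=
      (Scheme.Modules.pullbackPushforwardAdjunction f).rightAdjoint_preservesLimits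
    exact PreservesLimitsOfSize.preservesFiniteLimits _
  exact @comp_preservesFiniteLimits _ _ _ _ _ _ (ModSite.sheafHom (O := X.sheaf) M.unop)
    (Scheme.Modules.pushforward f) h1 h2

instance (M : X.Modulesᵒᵖ) : ((relHomFunctor f).obj M).Additive := by
  have h1 : (ModSite.sheafHom (O := X.sheaf) M.unop).Additive := inferInstance
  have h2 : (Scheme.Modules.pushforward f).Additive := inferInstance
  exact { map_add := fun {P Q} a b => by
            exact (congrArg (fun φ => (Scheme.Modules.pushforward f).map φ)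
              ((ModSite.sheafHom (O := X.sheaf) M.unop).map_add (f := a) (g := b))).trans
              ((Scheme.Modules.pushforward f).map_add) }

lemma isExactFamily : IsExactFamily (relHomFunctor f) := fun S hS =>
  ⟨w f S, exactOnInjectives f S hS⟩

end Groth.Agent.Lib.Helper33.RelExtLES
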