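import Groth.Agent.Lib.Helper33.AcyclicSS
import Groth.Agent.S16463
import Mathlib.Algebra.Homology.Embedding.ExtendHomology
import Mathlib.Algebra.Homology.Embedding.Basic

/-!
# The Grothendieck spectral sequence (helper33)

* `mapExtendIso`: `F.mapHomologicalComplex` commutes with `HomologicalComplex.extend`.
* `acyclicNat_ss`: for an `ℕ`-indexed cochain complex `K` of `S`-acyclic objects,
  `E_2^{p,q} = R^pS(H^q K) ⇒ H^{p+q}(S K)`.
* `grothendieck_ss`: `E_2^{p,q} = R^pS(R^qT A) ⇒ R^{p+q}(T ⋙ S) A`.
-/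

set_option autoImplicit false

universe v v' v'' u u' u''

open CategoryTheory CategoryTheory.Limits

namespace Groth.Agent.Lib.Helper33.GrothSS

/-! ### `mapHomologicalComplex` commutes with `extend` -/

section MapExtend

variable {C : Type u} {D : Type u'} [Category.{v} C] [Category.{v'} D] [HasZeroMorphisms C]
  [HasZeroObject C] [HasZeroMorphisms D] [HasZeroObject D] (F : C ⥤ D) [F.PreservesZeroMorphisms]
  {ι ι' : Type*} {c : ComplexShape ι} {c' : ComplexShape ι'} (K : HomologicalComplex C c)
  (e : c.Embedding c')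

/-- auxiliary isomorphism for `mapExtendIso` -/
noncomputable def mapExtendXIso : ∀ (o : Option ι),
    F.obj (HomologicalComplex.extend.X K o) ≅
      HomologicalComplex.extend.X ((F.mapHomologicalComplex c).obj K) o
  | some _ => Iso.refl _
  | none => (F.map_isZero (isZero_zero _)).iso (isZero_zero _)

lemma mapExtend_d : ∀ (o o' : Option ι),
    F.map (HomologicalComplex.extend.d K o o') ≫ (mapExtendXIso F K o').hom =
      (mapExtendXIso F K o).hom ≫
        HomologicalComplex.extend.d ((F.mapHomologicalComplex c).obj K) o o'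
  | none, _ => (F.map_isZero (isZero_zero _)).eq_of_src _ _
  | some i, some j => by
      change F.map (K.d i j) ≫ 𝟙 _ = 𝟙 _ ≫ F.map (K.d i j)
      rw [Category.comp_id, Category.id_comp]
  | some _, none => (isZero_zero _).eq_of_tgt _ _

/-- `F.mapHomologicalComplex` commutes with the extension of complexes along an embedding of
complex shapes -/
noncomputable def mapExtendIso :
    (F.mapHomologicalComplex c').obj (K.extend e) ≅ ((F.mapHomologicalComplex c).obj K).extend e :=
  HomologicalComplex.Hom.isoOfComponents (fun i' => mapExtendXIso F K (e.r i'))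
    (fun i' j' _ => (mapExtend_d F K (e.r i') (e.r j')).symm)

end MapExtend

open scoped ZeroObject

section Nat

variable {C' : Type u'} {C'' : Type u''} [Category.{v'} C'] [Category.{v''} C''] [Abelian C']
  [Abelian C''] [HasInjectiveResolutions C'] (S : C' ⥤ C'') [S.Additive] [PreservesFiniteLimits S]

set_option backward.isDefEq.respectTransparency false in
omit [HasInjectiveResolutions C'] in
lemma enoughInjectives_of_hasInjectiveResolutions [HasInjectiveResolutions C'] :
    EnoughInjectives C' :=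
  ⟨fun X => ⟨{ J := (injectiveResolution X).cocomplex.X 0
               injective := (injectiveResolution X).injective 0
               f := (injectiveResolution X).ι.f 0
               mono := inferInstance }⟩⟩

/-- **The spectral sequence of an `ℕ`-indexed cochain complex of `S`-acyclic objects**:
`E_2^{p,q} = R^pS(H^q K) ⇒ H^{p+q}(S K)`. -/
theorem acyclicNat_ss (K : CochainComplex C' ℕ)
    (hac : ∀ (q k : ℕ), 0 < k → IsZero ((S.rightDerived k).obj (K.X q)))
    (H : ℕ → C'')
    (eH : ∀ n, Nonempty (((S.mapHomologicalComplex (ComplexShape.up ℕ)).obj K).homology n ≅ H n))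
    (E₂ : ℕ → ℕ → C'')
    (eE : ∀ p q, Nonempty ((S.rightDerived p).obj (K.homology q) ≅ E₂ p q)) :
    ∃ (E : E₂CohomologicalSpectralSequence C'')
      (a : SpSeq.Abutment E (fun n : ℤ => if 0 ≤ n then H n.toNat else 0)),
      (∀ n, a.IsFinite n) ∧ SpSeq.IsBounded E ∧
      ∀ p q : ℤ, Nonempty ((E.page 2 le_rfl).X (p, q) ≅
        (if 0 ≤ p ∧ 0 ≤ q then E₂ p.toNat q.toNat else 0)) := by
  have : EnoughInjectives C' := enoughInjectives_of_hasInjectiveResolutions
  obtain ⟨L⟩ := Groth.Agent.S16463.result S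
  have hf : ∀ j : ℕ, ComplexShape.embeddingUpNat.f j = (j : ℤ) := fun _ => rfl
  have hK' : ∀ q : ℤ, q < 0 → IsZero ((K.extend ComplexShape.embeddingUpNat).X q) := by
    intro q hq
    refine K.isZero_extend_X _ q (fun j hj => ?_)
    rw [hf] at hj
    omega
  have hac' : ∀ (q : ℤ) (k : ℕ), 0 < k →
      IsZero ((S.rightDerived k).obj ((K.extend ComplexShape.embeddingUpNat).X q)) := by
    intro q k hk
    by_cases hq : 0 ≤ q
    · obtain ⟨j, rfl⟩ := Int.eq_ofNat_of_zero_le hq
      exact IsZero.of_iso (hac j k hk)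
        ((S.rightDerived k).mapIso (K.extendXIso ComplexShape.embeddingUpNat (hf j)))
    · exact (S.rightDerived k).map_isZero (hK' q (not_le.1 hq))
  have eH' : ∀ n : ℤ, Nonempty (((S.mapHomologicalComplex (ComplexShape.up ℤ)).obj
      (K.extend ComplexShape.embeddingUpNat)).homology n ≅ (if 0 ≤ n then H n.toNat else 0)) := by
    intro n
    by_cases hn : 0 ≤ n
    · obtain ⟨j, rfl⟩ := Int.eq_ofNat_of_zero_le hn
      obtain ⟨e₀⟩ := eH j
      rw [if_pos hn, Int.toNat_natCast]
      exact ⟨(HomologicalComplex.homologyFunctor C'' _ (j : ℤ)).mapIso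
          (mapExtendIso S K ComplexShape.embeddingUpNat) ≪≫
        ((S.mapHomologicalComplex (ComplexShape.up ℕ)).obj K).extendHomologyIso
          ComplexShape.embeddingUpNat (hf j) ≪≫ e₀⟩
    · rw [if_neg hn]
      exact ⟨(ShortComplex.isZero_homology_of_isZero_X₂ _
        (S.map_isZero (hK' n (not_le.1 hn)))).iso (isZero_zero _)⟩
  have eE' : ∀ (p : ℕ) (q : ℤ), Nonempty ((S.rightDerived p).obj
      ((K.extend ComplexShape.embeddingUpNat).homology q) ≅
      (if 0 ≤ (p : ℤ) ∧ 0 ≤ q then E₂ (p : ℤ).toNat q.toNat else 0)) := by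
    intro p q
    by_cases hq : 0 ≤ q
    · obtain ⟨j, rfl⟩ := Int.eq_ofNat_of_zero_le hq
      obtain ⟨e₀⟩ := eE p j
      rw [if_pos ⟨Int.natCast_nonneg p, hq⟩, Int.toNat_natCast, Int.toNat_natCast]
      exact ⟨(S.rightDerived p).mapIso
        (K.extendHomologyIso ComplexShape.embeddingUpNat (hf j)) ≪≫ e₀⟩
    · rw [if_neg (fun h => hq h.2)]
      exact ⟨((S.rightDerived p).map_isZero (ShortComplex.isZero_homology_of_isZero_X₂ _
        (hK' q (not_le.1 hq)))).iso (isZero_zero _)⟩
  obtain ⟨E, a, h1, h2, h3⟩ := AcyclicSS.exists_ss (K.extend ComplexShape.embeddingUpNat) S L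
    hac' hK' (fun n : ℤ => if 0 ≤ n then H n.toNat else 0) eH'
    (fun pq : ℤ × ℤ => if 0 ≤ pq.1 ∧ 0 ≤ pq.2 then E₂ pq.1.toNat pq.2.toNat else 0)
    eE' (fun pq hpq => by
      rw [if_neg (fun h => absurd h.1 (not_le.2 hpq))]
      exact isZero_zero _)
  exact ⟨E, a, h1, h2, fun p q => h3 (p, q)⟩

end Nat

section Groth

variable {C : Type u} {C' : Type u'} {C'' : Type u''} [Category.{v} C] [Category.{v'} C']
  [Category.{v''} C''] [Abelian C] [Abelian C'] [Abelian C''] [HasInjectiveResolutions C]
  [HasInjectiveResolutions C'] (T : C ⥤ C') [T.Additive] (S : C' ⥤ C'') [S.Additive]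
  [PreservesFiniteLimits S]

/-- **The Grothendieck spectral sequence** `E_2^{p,q} = R^pS(R^qT A) ⇒ R^{p+q}(T ⋙ S) A`, when `T`
carries injective objects to `S`-acyclic objects.  `H` and `E₂` are any families isomorphic to the
abutment and to the `E₂`-terms. -/
theorem grothendieck_ss
    (hT : ∀ Q : C, Injective Q → ∀ q : ℕ, 0 < q → IsZero ((S.rightDerived q).obj (T.obj Q)))
    (A : C) (H : ℕ → C'') (eH : ∀ n, Nonempty (((T ⋙ S).rightDerived n).obj A ≅ H n))
    (E₂ : ℕ → ℕ → C'')
    (eE : ∀ p q, Nonempty ((S.rightDerived p).obj ((T.rightDerived q).obj A) ≅ E₂ p q)) :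
    ∃ (E : E₂CohomologicalSpectralSequence C'')
      (a : SpSeq.Abutment E (fun n : ℤ => if 0 ≤ n then H n.toNat else 0)),
      (∀ n, a.IsFinite n) ∧ SpSeq.IsBounded E ∧
      ∀ p q : ℤ, Nonempty ((E.page 2 le_rfl).X (p, q) ≅
        (if 0 ≤ p ∧ 0 ≤ q then E₂ p.toNat q.toNat else 0)) := by
  refine acyclicNat_ss S ((T.mapHomologicalComplex _).obj (injectiveResolution A).cocomplex)
    (fun q k hk => hT _ ((injectiveResolution A).injective q) k hk) H (fun n => ?_) E₂
    (fun p q => ?_)
  · obtain ⟨e₀⟩ := eH n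
    let φ : (S.mapHomologicalComplex (ComplexShape.up ℕ)).obj
        ((T.mapHomologicalComplex _).obj (injectiveResolution A).cocomplex) ≅
        ((T ⋙ S).mapHomologicalComplex _).obj (injectiveResolution A).cocomplex :=
      HomologicalComplex.Hom.isoOfComponents (fun i => Iso.refl _) (by
        intro i j _
        exact (Category.id_comp _).trans (Category.comp_id _).symm)
    exact ⟨(HomologicalComplex.homologyFunctor C'' _ n).mapIso φ ≪≫
      ((injectiveResolution A).isoRightDerivedObj (T ⋙ S) n).symm ≪≫ e₀⟩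
  · obtain ⟨e₀⟩ := eE p q
    exact ⟨(S.rightDerived p).mapIso ((injectiveResolution A).isoRightDerivedObj T q).symm ≪≫ e₀⟩

end Groth

end Groth.Agent.Lib.Helper33.GrothSS
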