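import Groth.Agent.Lib.Helper33.GrothSS
import Groth.Agent.S6150
import Groth.Agent.S3090
import Groth.Agent.S0865
import Groth.Agent.S11319

/-!
# Acyclicity of `f_* ℋom(F, Q)` for the higher direct images (helper33)

For an injective `O_X`-module `Q`, the module `f_* ℋom(F, Q)` is acyclic for `g_*`.
-/

set_option autoImplicit false

universe u

open CategoryTheory CategoryTheory.Limits Opposite AlgebraicGeometry TopologicalSpace

namespace Groth.Agent.Lib.Helper33.RelExtSS

variable {X Y Z : Scheme.{u}} (f : X ⟶ Y) (g : Y ⟶ Z)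

/-- `toAb` reflects zero objects -/
lemma isZero_of_isZero_toAb (M : Y.Modules) (h : IsZero (Coh.toAb M)) : IsZero M := by
  rw [IsZero.iff_id_eq_zero]
  apply (SheafOfModules.toSheaf Y.ringCatSheaf).map_injective
  have h1 : (SheafOfModules.toSheaf Y.ringCatSheaf).map (𝟙 M) = 𝟙 _ :=
    (SheafOfModules.toSheaf Y.ringCatSheaf).map_id M
  have h2 : (SheafOfModules.toSheaf Y.ringCatSheaf).map (0 : M ⟶ M) = 0 :=
    (SheafOfModules.toSheaf Y.ringCatSheaf).map_zero M M
  exact h1.trans (((IsZero.iff_id_eq_zero _).1 h).trans h2.symm)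

/-- the underlying abelian sheaf of `f_* ℋom(F, Q)` is totally acyclic when `Q` is injective -/
theorem isTotallyAcyclic_push_sheafHom (F Q : X.Modules) [ModSite.HasSheafHom (O := X.sheaf) F]
    (hQ : Injective Q) :
    CohCx.IsTotallyAcyclic (Coh.toAb ((Scheme.Modules.pushforward f).obj
      ((ModSite.sheafHom (O := X.sheaf) F).obj Q))) := by
  have hQ' : Injective (C := ModSite.Mod X.sheaf) Q := hQ
  have h1 : CohCx.IsTotallyAcyclic
      (ModSite.toAb ((ModSite.sheafHom (O := X.sheaf) F).obj Q)) :=
    Groth.Agent.S6150.result X.sheaf F Q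
  have : PreservesFiniteLimits (Opens.map f.base) := preservesFiniteLimits_of_flat _
  exact Groth.Agent.S3090.result (Opens.grothendieckTopology X) (Opens.grothendieckTopology Y)
    (Opens.map f.base) (coverPreserving_opens_map f.base) _ h1

/-- `f_* ℋom(F, Q)` is acyclic for `g_*` when `Q` is injective -/
theorem isZero_Rpush_push_sheafHom (F Q : X.Modules) [ModSite.HasSheafHom (O := X.sheaf) F]
    [HasInjectiveResolutions Y.Modules] (hQ : Injective Q) (q : ℕ) :
    IsZero ((Coh.Rpush g (q + 1)).obj ((Scheme.Modules.pushforward f).obj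
      ((ModSite.sheafHom (O := X.sheaf) F).obj Q))) := by
  apply isZero_of_isZero_toAb
  obtain ⟨e⟩ := Groth.Agent.S11319.result g ((Scheme.Modules.pushforward f).obj
    ((ModSite.sheafHom (O := X.sheaf) F).obj Q)) (q + 1)
  refine IsZero.of_iso ?_ e
  exact Groth.Agent.S0865.result _ _ (Opens.map g.base) _
    (isTotallyAcyclic_push_sheafHom f F Q hQ) q

end Groth.Agent.Lib.Helper33.RelExtSS
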