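import Mathlib.AlgebraicTopology.SimplicialObject.Basic
import Mathlib.CategoryTheory.Functor.KanExtension.Pointwise
import Mathlib.CategoryTheory.Limits.Shapes.FiniteLimits
import Mathlib.CategoryTheory.FinCategory.Basic
import Mathlib.Data.Finite.Sigma

/-!
# Finiteness of the comma categories of the truncated simplex category

The (co)structured arrow categories of the inclusion `Δ_{≤ m} ⥤ Δ` (and of its opposite)
are finite categories; hence (co)limits indexed by them exist in any category with finite
(co)limits, and the pointwise Kan extensions along the inclusion exist.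
-/

set_option autoImplicit false
universe v u

open CategoryTheory CategoryTheory.Limits Opposite

namespace Groth.Agent.Lib.Helper33

/-- The truncated simplex category has finitely many objects. -/
instance finite_truncated (m : ℕ) : Finite (SimplexCategory.Truncated m) := by
  refine Finite.of_injective
    (fun X : SimplexCategory.Truncated m => (⟨X.obj.len, Nat.lt_succ_of_le X.property⟩ : Fin (m + 1)))
    ?_
  intro X Y h
  have h' : X.obj.len = Y.obj.len := congrArg Fin.val h
  obtain ⟨X, hX⟩ := X
  obtain ⟨Y, hY⟩ := Y
  have : X = Y := SimplexCategory.ext h'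
  subst this
  rfl

instance finite_truncated_hom (m : ℕ) (X Y : SimplexCategory.Truncated m) : Finite (X ⟶ Y) :=
  Finite.of_injective (fun f : X ⟶ Y => f.hom) (fun _ _ h => ObjectProperty.hom_ext _ h)

instance finite_op_hom {C : Type*} [Category C] (X Y : Cᵒᵖ) [Finite (Y.unop ⟶ X.unop)] :
    Finite (X ⟶ Y) :=
  Finite.of_injective (fun f : X ⟶ Y => f.unop) (fun _ _ h => Quiver.Hom.unop_inj h)

theorem finite_structuredArrow {C D : Type*} [Category C] [Category D] (S : D) (T : C ⥤ D)
    [Finite C] [∀ X, Finite (S ⟶ T.obj X)] : Finite (StructuredArrow S T) := by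
  refine Finite.of_injective
    (fun f : StructuredArrow S T => (⟨f.right, f.hom⟩ : Σ X : C, S ⟶ T.obj X)) ?_
  rintro ⟨⟨⟨⟩⟩, X, f⟩ ⟨⟨⟨⟩⟩, Y, g⟩ h
  simp only [Sigma.mk.injEq] at h
  obtain ⟨rfl, h⟩ := h
  simp only [heq_eq_eq] at h
  subst h
  rfl

theorem finite_structuredArrow_hom {C D : Type*} [Category C] [Category D] (S : D) (T : C ⥤ D)
    (f g : StructuredArrow S T) [Finite (f.right ⟶ g.right)] : Finite (f ⟶ g) :=
  Finite.of_injective (fun φ : f ⟶ g => φ.right) (fun _ _ h => StructuredArrow.ext _ _ h)

theorem finite_costructuredArrow {C D : Type*} [Category C] [Category D] (S : C ⥤ D) (T : D)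
    [Finite C] [∀ X, Finite (S.obj X ⟶ T)] : Finite (CostructuredArrow S T) := by
  refine Finite.of_injective
    (fun f : CostructuredArrow S T => (⟨f.left, f.hom⟩ : Σ X : C, S.obj X ⟶ T)) ?_
  rintro ⟨X, ⟨⟨⟩⟩, f⟩ ⟨Y, ⟨⟨⟩⟩, g⟩ h
  simp only [Sigma.mk.injEq] at h
  obtain ⟨rfl, h⟩ := h
  simp only [heq_eq_eq] at h
  subst h
  rfl

theorem finite_costructuredArrow_hom {C D : Type*} [Category C] [Category D] (S : C ⥤ D) (T : D)
    (f g : CostructuredArrow S T) [Finite (f.left ⟶ g.left)] : Finite (f ⟶ g) :=
  Finite.of_injective (fun φ : f ⟶ g => φ.left) (fun _ _ h => CostructuredArrow.ext _ _ h)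

/-- A small category with finitely many objects and finite hom-sets is a `FinCategory`. -/
@[instance_reducible]
noncomputable def finCategoryOfFinite (J : Type) [SmallCategory J] [Finite J]
    [∀ a b : J, Finite (a ⟶ b)] : FinCategory J where
  fintypeObj := Fintype.ofFinite _
  fintypeHom := fun _ _ => Fintype.ofFinite _

/-- The structured arrow categories of the opposite of the inclusion `Δ_{≤ m} ⥤ Δ` are finite. -/
@[instance_reducible]
noncomputable def finCategoryStructuredArrowInclusionOp (m : ℕ) (Y : SimplexCategoryᵒᵖ) :
    FinCategory (StructuredArrow Y (SimplexCategory.Truncated.inclusion m).op) := by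
  haveI : Finite (SimplexCategory.Truncated m)ᵒᵖ := Finite.of_equiv _ (equivToOpposite)
  haveI : ∀ X : (SimplexCategory.Truncated m)ᵒᵖ,
      Finite (Y ⟶ (SimplexCategory.Truncated.inclusion m).op.obj X) := fun X => by
    dsimp
    infer_instance
  haveI := finite_structuredArrow Y (SimplexCategory.Truncated.inclusion m).op
  haveI : ∀ f g : StructuredArrow Y (SimplexCategory.Truncated.inclusion m).op, Finite (f ⟶ g) :=
    fun f g => finite_structuredArrow_hom _ _ f g
  exact finCategoryOfFinite _

/-- The costructured arrow categories of the opposite of the inclusion `Δ_{≤ m} ⥤ Δ` are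
finite. -/
@[instance_reducible]
noncomputable def finCategoryCostructuredArrowInclusionOp (m : ℕ) (Y : SimplexCategoryᵒᵖ) :
    FinCategory (CostructuredArrow (SimplexCategory.Truncated.inclusion m).op Y) := by
  haveI : Finite (SimplexCategory.Truncated m)ᵒᵖ := Finite.of_equiv _ (equivToOpposite)
  haveI : ∀ X : (SimplexCategory.Truncated m)ᵒᵖ,
      Finite ((SimplexCategory.Truncated.inclusion m).op.obj X ⟶ Y) := fun X => by
    dsimp
    infer_instance
  haveI := finite_costructuredArrow (SimplexCategory.Truncated.inclusion m).op Y
  haveI : ∀ f g : CostructuredArrow (SimplexCategory.Truncated.inclusion m).op Y, Finite (f ⟶ g) :=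
    fun f g => finite_costructuredArrow_hom _ _ f g
  exact finCategoryOfFinite _

/-- In a category with finite limits, truncated simplicial objects have pointwise right Kan
extensions along the inclusion of the truncated simplex category. -/
theorem hasPointwiseRightKanExtension_inclusion_op {C : Type u} [Category.{v} C]
    [HasFiniteLimits C] (m : ℕ) (U : (SimplexCategory.Truncated m)ᵒᵖ ⥤ C) :
    (SimplexCategory.Truncated.inclusion m).op.HasPointwiseRightKanExtension U := by
  intro Y
  let _ := finCategoryStructuredArrowInclusionOp m Y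
  show HasLimit _
  infer_instance

/-- In a category with finite colimits, truncated simplicial objects have pointwise left Kan
extensions along the inclusion of the truncated simplex category. -/
theorem hasPointwiseLeftKanExtension_inclusion_op {C : Type u} [Category.{v} C]
    [HasFiniteColimits C] (m : ℕ) (U : (SimplexCategory.Truncated m)ᵒᵖ ⥤ C) :
    (SimplexCategory.Truncated.inclusion m).op.HasPointwiseLeftKanExtension U := by
  intro Y
  let _ := finCategoryCostructuredArrowInclusionOp m Y
  show HasColimit _
  infer_instance

end Groth.Agent.Lib.Helper33
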