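import Mathlib
import Groth.Agent.Lib.Helper33.TruncFinite

/-!
# General lemmas for the acyclicity of special morphisms (helper33)
-/

set_option autoImplicit false
universe w v v' u u'
open CategoryTheory CategoryTheory.Limits Opposite Simplicial SimplexCategory

namespace Groth.Agent.Lib.Helper33.AcycGen

section Sieve

variable {C : Type u} [Category.{v} C]

/-- the intersection of a family of sieves -/
def interSieve {ι : Type w} {U : C} (S : ι → Sieve U) : Sieve U where
  arrows V g := ∀ i, S i g
  downward_closed := fun h g' i => (S i).downward_closed (h i) g'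

lemma interSieve_mem (J : GrothendieckTopology C) {ι : Type w} [Finite ι] {U : C} :
    ∀ (S : ι → Sieve U), (∀ i, S i ∈ J U) → interSieve S ∈ J U := by
  induction ι using Finite.induction_empty_option with
  | of_equiv e ih =>
    intro S hS
    refine J.superset_covering ?_ (ih (fun a => S (e a)) (fun a => hS _))
    intro V g hg b
    have := hg (e.symm b)
    simpa using this
  | h_empty =>
    intro S _
    refine J.superset_covering ?_ (J.top_mem U)
    intro V g _ i
    exact i.elim
  | h_option ih =>
    intro S hS
    refine J.superset_covering ?_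
      (J.intersection_covering (hS none) (ih (fun a => S (some a)) (fun a => hS _)))
    intro V g hg i
    cases i with
    | none => exact hg.1
    | some a => exact hg.2 a

end Sieve

section Eval

variable {D : Type u} [Category.{v} D] {A : Type u'} [Category.{v'} A] [Abelian A]

lemma shortComplex_quasiIso_of_evaluation {S₁ S₂ : ShortComplex (D ⥤ A)} (φ : S₁ ⟶ S₂)
    (h : ∀ X : D, ShortComplex.QuasiIso (((evaluation D A).obj X).mapShortComplex.map φ)) :
    ShortComplex.QuasiIso φ := by
  rw [ShortComplex.quasiIso_iff]
  have : ∀ X : D, IsIso ((ShortComplex.homologyMap φ).app X) := by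
    intro X
    have h1 := (ShortComplex.quasiIso_iff _).1 (h X)
    have h2 := ShortComplex.mapHomologyIso_hom_naturality φ ((evaluation D A).obj X)
    have e : IsIso ((S₁.mapHomologyIso ((evaluation D A).obj X)).hom ≫
        ((evaluation D A).obj X).map (ShortComplex.homologyMap φ)) := by
      rw [← h2]
      exact IsIso.comp_isIso' h1 inferInstance
    exact @IsIso.of_isIso_comp_left _ _ _ _ _ (S₁.mapHomologyIso ((evaluation D A).obj X)).hom
      (((evaluation D A).obj X).map (ShortComplex.homologyMap φ)) inferInstance e
  exact NatIso.isIso_of_isIso_app _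

lemma quasiIso_of_evaluation {ι : Type*} {c : ComplexShape ι}
    {K L : HomologicalComplex (D ⥤ A) c} (φ : K ⟶ L)
    (h : ∀ X : D, QuasiIso ((((evaluation D A).obj X).mapHomologicalComplex c).map φ)) :
    QuasiIso φ := by
  rw [quasiIso_iff]
  intro i
  rw [quasiIsoAt_iff]
  apply shortComplex_quasiIso_of_evaluation
  intro X
  have := (quasiIso_iff _).1 (h X) i
  rw [quasiIsoAt_iff] at this
  exact this

end Eval

section AFMC

variable {C' : Type u} [Category.{v} C'] [Preadditive C'] {D : Type u'} [Category.{v'} D]
  [Preadditive D] [CategoryWithHomology D]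
  (F : C' ⥤ D) [F.Additive]

/-- equal functors give isomorphic arrows -/
def arrowIsoOfEq {A : Type*} {B : Type*} [Category A] [Category B] {F₁ F₂ : A ⥤ B}
    (h : F₁ = F₂) {X Y : A} (g : X ⟶ Y) : Arrow.mk (F₁.map g) ≅ Arrow.mk (F₂.map g) := by
  subst h
  exact Iso.refl _

lemma quasiIso_map_AFMC_iff {X Y : SimplicialObject C'} (g : X ⟶ Y) :
    QuasiIso ((F.mapHomologicalComplex _).map
      ((AlgebraicTopology.alternatingFaceMapComplex C').map g)) ↔
    QuasiIso ((AlgebraicTopology.alternatingFaceMapComplex D).map (Functor.whiskerRight g F)) := by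
  exact quasiIso_iff_of_arrow_mk_iso _ _
    (arrowIsoOfEq (AlgebraicTopology.map_alternatingFaceMapComplex F) g)

end AFMC

section RKE

variable {E : Type u} [Category.{v} E] {E' : Type u'} [Category.{v'} E']

open Functor in
/-- a limit preserving functor preserves "being the coskeleton of one's truncation" -/
noncomputable def isPointwiseRKEComp (n : ℕ) (X : SimplicialObject E)
    (hX : (RightExtension.mk X
      (𝟙 ((Truncated.inclusion n).op ⋙ X))).IsPointwiseRightKanExtension)
    (G : E ⥤ E') [PreservesLimitsOfSize.{0, 0} G] :
    (RightExtension.mk (X ⋙ G)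
      (𝟙 ((Truncated.inclusion n).op ⋙ X ⋙ G))).IsPointwiseRightKanExtension := by
  have h1 := hX.postcompose G
  refine (RightExtension.isPointwiseRightKanExtensionEquivOfIso ?_) h1
  refine RightExtension.postcompose₂ObjMkIso _ _ ≪≫ CostructuredArrow.isoMk (Iso.refl _) ?_
  ext j
  simp
  erw [Category.comp_id]
  rfl

open Functor SimplicialObject in
/-- if the unit `X ⟶ cosk_n X` is an isomorphism, `X` is the pointwise right Kan extension of its
truncation -/
theorem isPointwiseRKE_of_isIso_unit [HasFiniteLimits E] (n : ℕ)
    [∀ (F : (SimplexCategory.Truncated n)ᵒᵖ ⥤ E),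
      (SimplexCategory.Truncated.inclusion n).op.HasRightKanExtension F]
    (X : SimplicialObject E) (h : IsIso ((coskAdj n).unit.app X)) :
    Nonempty (RightExtension.mk X
      (𝟙 ((Truncated.inclusion n).op ⋙ X))).IsPointwiseRightKanExtension := by
  let εY := (coskAdj n).counit.app ((truncation n).obj X)
  have hKan : Functor.IsRightKanExtension ((SimplicialObject.cosk n).obj X) εY :=
    inferInstanceAs (Functor.IsRightKanExtension ((SimplicialObject.cosk n).obj X)
      ((coskAdj n).counit.app ((truncation n).obj X)))
  have hpt : (SimplexCategory.Truncated.inclusion n).op.HasPointwiseRightKanExtension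
      ((𝟭 (SimplicialObject.Truncated E n)).obj ((truncation n).obj X)) :=
    hasPointwiseRightKanExtension_inclusion_op n _
  have hY : (Functor.RightExtension.mk ((SimplicialObject.cosk n).obj X)
      εY).IsPointwiseRightKanExtension :=
    @Functor.isPointwiseRightKanExtensionOfIsRightKanExtension _ _ _ _ _ _ _ _ hpt _ εY hKan
  refine ⟨(RightExtension.isPointwiseRightKanExtensionEquivOfIso ?_) hY⟩
  refine (CostructuredArrow.isoMk (@asIso _ _ _ _ ((coskAdj n).unit.app X) h) ?_).symm
  exact (coskAdj n).left_triangle_components X

end RKE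

end Groth.Agent.Lib.Helper33.AcycGen
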