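import Groth.Agent.Lib.Helper33.ExactCoupleHalf
import Groth.Prelude.Def_RDerDelta
import Mathlib.CategoryTheory.Abelian.RightDerived
import Mathlib.CategoryTheory.Abelian.Exact

/-!
# The spectral sequence `R^pS(H^q K) ⇒ H^{p+q}(S K)` of a complex of `S`-acyclic objects (helper33)

`S : C' ⥤ C''` is an additive functor between abelian categories, `L : RDer.DerivedLES S` its long
exact sequences, `K : CochainComplex C' ℤ` a complex with `R^k S (K^q) = 0` for `k > 0`.  From the
short exact sequences `0 → B^q → Z^q → H^q → 0` and `0 → Z^q → K^q → B^{q+1} → 0` we build the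
half-plane exact couple `D^{k,q} = coker (R^kS(K^{q-1}) → R^kS(Z^q))`, `E^{k,q} = R^kS(H^q)`.
-/

set_option autoImplicit false

universe v v' u u'

open CategoryTheory CategoryTheory.Limits

namespace Groth.Agent.Lib.Helper33.AcyclicSS

/-! ### General lemmas -/

section General

variable {A : Type u} [Category.{v} A] [Abelian A]

lemma exact_comp_mono {X Y Z W : A} {f : X ⟶ Y} {g : Y ⟶ Z} (m : Z ⟶ W) [Mono m] (w : f ≫ g = 0)
    (h : (ShortComplex.mk f g w).Exact) :
    (ShortComplex.mk f (g ≫ m) (by rw [reassoc_of% w, zero_comp])).Exact := by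
  rw [ShortComplex.exact_iff_exact_up_to_refinements] at h ⊢
  intro T x hx
  refine h x ?_
  rw [← cancel_mono m, Category.assoc, zero_comp]
  exact hx

end General

variable {C' : Type u} {C'' : Type u'} [Category.{v} C'] [Category.{v'} C''] [Abelian C']
  [Abelian C''] (K : CochainComplex C' ℤ)

/-! ### The two short exact sequences -/

/-- the boundaries `B^q`, as the kernel of `Z^q ⟶ H^q` -/
noncomputable abbrev Bc (q : ℤ) : C' := kernel (K.homologyπ q)

/-- the inclusion `B^q ⟶ Z^q` -/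
noncomputable abbrev ιB (q : ℤ) : Bc K q ⟶ K.cycles q := kernel.ι _

/-- the short exact sequence `0 → B^q → Z^q → H^q → 0` -/
noncomputable abbrev sesI (q : ℤ) : ShortComplex C' :=
  ShortComplex.mk (ιB K q) (K.homologyπ q) (kernel.condition _)

lemma sesI_shortExact (q : ℤ) : (sesI K q).ShortExact where
  exact := ShortComplex.exact_of_f_is_kernel _ (kernelIsKernel _)
  mono_f := inferInstanceAs (Mono (kernel.ι _))
  epi_g := inferInstanceAs (Epi (K.homologyπ q))

/-- the map `K^q ⟶ B^{q+1}` -/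
noncomputable def toB (q : ℤ) : K.X q ⟶ Bc K (q + 1) :=
  kernel.lift _ (K.toCycles q (q + 1)) (K.toCycles_comp_homologyπ q (q + 1))

@[reassoc (attr := simp)]
lemma toB_ι (q : ℤ) : toB K q ≫ ιB K (q + 1) = K.toCycles q (q + 1) := kernel.lift_ι _ _ _

@[reassoc (attr := simp)]
lemma iCycles_toB (q : ℤ) : K.iCycles q ≫ toB K q = 0 := by
  rw [← cancel_mono (ιB K (q + 1)), Category.assoc, toB_ι, zero_comp,
    ← cancel_mono (K.iCycles (q + 1)), Category.assoc, K.toCycles_i, K.iCycles_d, zero_comp]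

/-- the short exact sequence `0 → Z^q → K^q → B^{q+1} → 0` -/
noncomputable abbrev sesII (q : ℤ) : ShortComplex C' :=
  ShortComplex.mk (K.iCycles q) (toB K q) (iCycles_toB K q)

lemma sesII_shortExact (q : ℤ) : (sesII K q).ShortExact where
  exact := by
    refine ShortComplex.exact_of_f_is_kernel _ (KernelFork.IsLimit.ofι' _ _ (fun {T} k hk => ?_))
    have hk' : k ≫ K.d q (q + 1) = 0 := by
      have : k ≫ toB K q = 0 := hk
      rw [← K.toCycles_i q (q + 1), ← toB_ι, ← Category.assoc, ← Category.assoc, this, zero_comp,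
        zero_comp]
    exact ⟨K.liftCycles k (q + 1) (by simp) hk', K.liftCycles_i _ _ _ _⟩
  mono_f := inferInstanceAs (Mono (K.iCycles q))
  epi_g := by
    have h : (ShortComplex.mk (K.toCycles q (q + 1)) (K.homologyπ (q + 1))
        (K.toCycles_comp_homologyπ q (q + 1))).Exact :=
      ShortComplex.exact_of_g_is_cokernel _ (K.homologyIsCokernel q (q + 1) (by simp))
    exact h.epi_kernelLift

/-! ### The derived functors and the connecting maps -/

variable [HasInjectiveResolutions C'] (S : C' ⥤ C'') [S.Additive] (L : RDer.DerivedLES S)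

/-- `D^{k,n} = coker (R^kS(K^{n-1}) ⟶ R^kS(Z^n))` -/
noncomputable def Dn (k : ℕ) (n : ℤ) : C'' :=
  cokernel ((S.rightDerived k).map (K.toCycles ((ComplexShape.up ℤ).prev n) n))

/-- the projection `R^kS(Z^n) ⟶ D^{k,n}` -/
noncomputable def πD (k : ℕ) (n : ℤ) : (S.rightDerived k).obj (K.cycles n) ⟶ Dn K S k n :=
  cokernel.π _

instance (k : ℕ) (n : ℤ) : Epi (πD K S k n) :=
  inferInstanceAs (Epi (cokernel.π
    ((S.rightDerived k).map (K.toCycles ((ComplexShape.up ℤ).prev n) n))))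

@[reassoc]
lemma toCycles_πD (k : ℕ) (i n : ℤ) (h : i + 1 = n) :
    (S.rightDerived k).map (K.toCycles i n) ≫ πD K S k n = 0 := by
  obtain rfl : (ComplexShape.up ℤ).prev n = i := by rw [CochainComplex.prev]; omega
  exact cokernel.condition _

/-- `D^{k,n}` is the cokernel of `R^kS(K^i) ⟶ R^kS(Z^n)` for `i + 1 = n` -/
noncomputable def DnIsColimit (k : ℕ) (i n : ℤ) (h : i + 1 = n) :
    IsColimit (CokernelCofork.ofπ (πD K S k n) (toCycles_πD K S k i n h)) := by
  obtain rfl : (ComplexShape.up ℤ).prev n = i := by rw [CochainComplex.prev]; omega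
  exact cokernelIsCokernel _

lemma exact_D (k : ℕ) (i n : ℤ) (h : i + 1 = n) :
    (ShortComplex.mk _ _ (toCycles_πD K S k i n h)).Exact :=
  ShortComplex.exact_of_g_is_cokernel _ (DnIsColimit K S k i n h)

/-- `β : D^{k,q} ⟶ E^{k,q} = R^kS(H^q)` -/
noncomputable def βn (k : ℕ) (q : ℤ) : Dn K S k q ⟶ (S.rightDerived k).obj (K.homology q) :=
  cokernel.desc _ ((S.rightDerived k).map (K.homologyπ q)) (by
    rw [← Functor.map_comp, K.toCycles_comp_homologyπ, Functor.map_zero])

@[reassoc (attr := simp)]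
lemma πD_βn (k : ℕ) (q : ℤ) :
    πD K S k q ≫ βn K S k q = (S.rightDerived k).map (K.homologyπ q) :=
  cokernel.π_desc _ _ _

/-- the connecting map `R^kS(H^q) ⟶ R^{k+1}S(B^q)` -/
noncomputable def δI (k : ℕ) (q : ℤ) :
    (S.rightDerived k).obj (K.homology q) ⟶ (S.rightDerived (k + 1)).obj (Bc K q) :=
  L.δ (sesI K q) (sesI_shortExact K q) k (k + 1) rfl

/-- the connecting map `R^kS(B^{q+1}) ⟶ R^{k+1}S(Z^q)` -/
noncomputable def δII (k : ℕ) (q : ℤ) :
    (S.rightDerived k).obj (Bc K (q + 1)) ⟶ (S.rightDerived (k + 1)).obj (K.cycles q) :=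
  L.δ (sesII K q) (sesII_shortExact K q) k (k + 1) rfl

/-- the epimorphism `R^kS(B^{q+1}) ⟶ D^{k+1,q}` -/
noncomputable def eD (k : ℕ) (q : ℤ) : (S.rightDerived k).obj (Bc K (q + 1)) ⟶ Dn K S (k + 1) q :=
  δII K S L k q ≫ πD K S (k + 1) q

@[reassoc (attr := simp)]
lemma map_toB_δII (k : ℕ) (q : ℤ) : (S.rightDerived k).map (toB K q) ≫ δII K S L k q = 0 :=
  L.comp_δ (sesII K q) (sesII_shortExact K q) k (k + 1) rfl

@[reassoc (attr := simp)]
lemma map_toB_eD (k : ℕ) (q : ℤ) : (S.rightDerived k).map (toB K q) ≫ eD K S L k q = 0 := by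
  unfold eD
  rw [map_toB_δII_assoc, zero_comp]

@[reassoc (attr := simp)]
lemma map_π_δI (k : ℕ) (q : ℤ) :
    (S.rightDerived k).map (K.homologyπ q) ≫ δI K S L k q = 0 :=
  L.comp_δ (sesI K q) (sesI_shortExact K q) k (k + 1) rfl

@[reassoc (attr := simp)]
lemma δI_map_ι (k : ℕ) (q : ℤ) :
    δI K S L k q ≫ (S.rightDerived (k + 1)).map (ιB K q) = 0 :=
  L.δ_comp (sesI K q) (sesI_shortExact K q) k (k + 1) rfl

section Acyclic

variable (hac : ∀ (q : ℤ) (k : ℕ), 0 < k → IsZero ((S.rightDerived k).obj (K.X q)))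

include hac

lemma mono_πD (k : ℕ) (n : ℤ) : Mono (πD K S (k + 1) n) :=
  (exact_D K S (k + 1) (n - 1) n (by omega)).mono_g ((hac _ _ (by omega)).eq_of_src _ _)

lemma epi_δII (k : ℕ) (q : ℤ) : Epi (δII K S L k q) :=
  (L.exact₁ (sesII K q) (sesII_shortExact K q) k (k + 1) rfl).epi_f
    ((hac q (k + 1) (by omega)).eq_of_tgt _ _)

lemma mono_δII (k : ℕ) (q : ℤ) : Mono (δII K S L (k + 1) q) :=
  (L.exact₃ (sesII K q) (sesII_shortExact K q) (k + 1) (k + 2) rfl).mono_g
    ((hac q (k + 1) (by omega)).eq_of_src _ _)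

lemma epi_eD (k : ℕ) (q : ℤ) : Epi (eD K S L k q) := by
  have := epi_δII K S L hac k q
  unfold eD
  infer_instance

lemma mono_eD (k : ℕ) (q : ℤ) : Mono (eD K S L (k + 1) q) := by
  have := mono_δII K S L hac k q
  have := mono_πD K S hac (k + 1) q
  unfold eD
  infer_instance

lemma exact_eD (k : ℕ) (q : ℤ) :
    (ShortComplex.mk _ _ (map_toB_eD K S L k q)).Exact := by
  have := mono_πD K S hac k q
  exact exact_comp_mono (πD K S (k + 1) q) _
    (L.exact₃ (sesII K q) (sesII_shortExact K q) k (k + 1) rfl)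

/-- `D^{k+1,q}` is the cokernel of `R^kS(K^q) ⟶ R^kS(B^{q+1})` -/
noncomputable def eDIsColimit (k : ℕ) (q : ℤ) :
    IsColimit (CokernelCofork.ofπ (eD K S L k q) (map_toB_eD K S L k q)) := by
  have := epi_eD K S L hac k q
  have : Epi (ShortComplex.mk _ _ (map_toB_eD K S L k q)).g := this
  exact (exact_eD K S L hac k q).gIsCokernel

/-- `α : D^{k+1,q} ⟶ D^{k,q+1}` -/
noncomputable def αn (k : ℕ) (q : ℤ) : Dn K S (k + 1) q ⟶ Dn K S k (q + 1) :=
  (eDIsColimit K S L hac k q).desc (CokernelCofork.ofπ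
    ((S.rightDerived k).map (ιB K (q + 1)) ≫ πD K S k (q + 1)) (by
      rw [← Functor.map_comp_assoc, toB_ι, toCycles_πD K S k q (q + 1) rfl]))

@[reassoc (attr := simp)]
lemma eD_αn (k : ℕ) (q : ℤ) :
    eD K S L k q ≫ αn K S L hac k q = (S.rightDerived k).map (ιB K (q + 1)) ≫ πD K S k (q + 1) :=
  (eDIsColimit K S L hac k q).fac _ WalkingParallelPair.one

/-- `γ : E^{k,q+1} ⟶ D^{k+2,q}` -/
noncomputable def γn (k : ℕ) (q : ℤ) :
    (S.rightDerived k).obj (K.homology (q + 1)) ⟶ Dn K S (k + 2) q :=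
  δI K S L k (q + 1) ≫ eD K S L (k + 1) q

lemma αn_βn (k : ℕ) (q : ℤ) : αn K S L hac k q ≫ βn K S k (q + 1) = 0 := by
  have := epi_eD K S L hac k q
  rw [← cancel_epi (eD K S L k q), eD_αn_assoc, πD_βn, ← Functor.map_comp, comp_zero]
  have : ιB K (q + 1) ≫ K.homologyπ (q + 1) = 0 := kernel.condition _
  rw [this, Functor.map_zero]

omit hac in
lemma βn_γn (k : ℕ) (q : ℤ) : βn K S k (q + 1) ≫ γn K S L k q = 0 := by
  rw [← cancel_epi (πD K S k (q + 1)), πD_βn_assoc, comp_zero]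
  unfold γn
  rw [map_π_δI_assoc, zero_comp]

lemma γn_αn (k : ℕ) (q : ℤ) : γn K S L k q ≫ αn K S L hac (k + 1) q = 0 := by
  unfold γn
  rw [Category.assoc, eD_αn, δI_map_ι_assoc, zero_comp]

lemma exact_αβ (k : ℕ) (q : ℤ) : (ShortComplex.mk _ _ (αn_βn K S L hac k q)).Exact := by
  rw [ShortComplex.exact_iff_exact_up_to_refinements]
  intro T x hx
  dsimp only at x hx ⊢
  obtain ⟨T₁, π₁, hπ₁, z, hz⟩ := surjective_up_to_refinements_of_epi (πD K S k (q + 1)) x
  have hz' : z ≫ (S.rightDerived k).map (K.homologyπ (q + 1)) = 0 := by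
    rw [← πD_βn, ← reassoc_of% hz, hx, comp_zero]
  obtain ⟨T₂, π₂, hπ₂, y, hy⟩ :=
    (L.exact₂ (sesI K (q + 1)) (sesI_shortExact K (q + 1)) k).exact_up_to_refinements z hz'
  dsimp only at y hy
  refine ⟨T₂, π₂ ≫ π₁, epi_comp _ _, y ≫ eD K S L k q, ?_⟩
  rw [Category.assoc, Category.assoc, eD_αn, ← reassoc_of% hy, hz]

lemma exact_βγ (k : ℕ) (q : ℤ) : (ShortComplex.mk _ _ (βn_γn K S L k q)).Exact := by
  rw [ShortComplex.exact_iff_exact_up_to_refinements]
  intro T x hx
  dsimp only at x hx ⊢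
  have := mono_eD K S L hac k q
  have hx' : x ≫ δI K S L k (q + 1) = 0 := by
    rw [← cancel_mono (eD K S L (k + 1) q), Category.assoc, zero_comp]
    exact hx
  obtain ⟨T₁, π₁, hπ₁, z, hz⟩ :=
    (L.exact₃ (sesI K (q + 1)) (sesI_shortExact K (q + 1)) k (k + 1) rfl).exact_up_to_refinements
      x hx'
  dsimp only at z hz
  refine ⟨T₁, π₁, hπ₁, z ≫ πD K S k (q + 1), ?_⟩
  rw [Category.assoc, πD_βn, hz]

lemma exact_γα (k : ℕ) (q : ℤ) : (ShortComplex.mk _ _ (γn_αn K S L hac k q)).Exact := by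
  rw [ShortComplex.exact_iff_exact_up_to_refinements]
  intro T x hx
  dsimp only at x hx ⊢
  have := epi_eD K S L hac (k + 1) q
  obtain ⟨T₁, π₁, hπ₁, y, hy⟩ := surjective_up_to_refinements_of_epi (eD K S L (k + 1) q) x
  have := mono_πD K S hac k (q + 1)
  have hy' : y ≫ (S.rightDerived (k + 1)).map (ιB K (q + 1)) = 0 := by
    rw [← cancel_mono (πD K S (k + 1) (q + 1)), Category.assoc, zero_comp, ← eD_αn K S L hac,
      ← reassoc_of% hy, hx, comp_zero]
  obtain ⟨T₂, π₂, hπ₂, w, hw⟩ :=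
    (L.exact₁ (sesI K (q + 1)) (sesI_shortExact K (q + 1)) k (k + 1) rfl).exact_up_to_refinements
      y hy'
  dsimp only at w hw
  refine ⟨T₂, π₂ ≫ π₁, epi_comp _ _, w, ?_⟩
  unfold γn
  rw [Category.assoc, hy, reassoc_of% hw]
  rfl

lemma mono_αn_zero [PreservesFiniteLimits S] (q : ℤ) : Mono (αn K S L hac 0 q) := by
  have : (S.rightDerived 0).PreservesMonomorphisms :=
    Functor.PreservesMonomorphisms.of_iso S.rightDerivedZeroIsoSelf.symm
  have hm : Mono ((S.rightDerived 0).map (ιB K (q + 1))) := inferInstance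
  rw [Preadditive.mono_iff_cancel_zero]
  intro T x hx
  have := epi_eD K S L hac 0 q
  obtain ⟨T₁, π₁, hπ₁, y, hy⟩ := surjective_up_to_refinements_of_epi (eD K S L 0 q) x
  have hy' : (y ≫ (S.rightDerived 0).map (ιB K (q + 1))) ≫ πD K S 0 (q + 1) = 0 := by
    rw [Category.assoc, ← eD_αn K S L hac, ← reassoc_of% hy, hx, comp_zero]
  obtain ⟨T₂, π₂, hπ₂, w, hw⟩ := (exact_D K S 0 q (q + 1) rfl).exact_up_to_refinements _ hy'
  dsimp only at w hw
  have hw' : π₂ ≫ y = w ≫ (S.rightDerived 0).map (toB K q) := by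
    rw [← cancel_mono ((S.rightDerived 0).map (ιB K (q + 1))), Category.assoc, hw, Category.assoc,
      ← Functor.map_comp, toB_ι]
  rw [← cancel_epi π₁, ← cancel_epi π₂, hy, reassoc_of% hw', map_toB_eD, comp_zero, comp_zero,
    comp_zero]

end Acyclic

section HalfCouple

variable [PreservesFiniteLimits S]
  (hac : ∀ (q : ℤ) (k : ℕ), 0 < k → IsZero ((S.rightDerived k).obj (K.X q)))
  (hK : ∀ q : ℤ, q < 0 → IsZero (K.X q))

/-- the half-plane exact couple of a bounded below complex of `S`-acyclic objects -/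
noncomputable def halfCouple : EC.HalfCouple C'' where
  Dn := Dn K S
  En k q := (S.rightDerived k).obj (K.homology q)
  αn := αn K S L hac
  βn := βn K S
  γn := γn K S L
  αβ := αn_βn K S L hac
  βγ := βn_γn K S L
  γα := γn_αn K S L hac
  ex_αβ := exact_αβ K S L hac
  ex_βγ := exact_βγ K S L hac
  ex_γα := exact_γα K S L hac
  mono_α0 := mono_αn_zero K S L hac
  En_neg k q hq := (S.rightDerived k).map_isZero
    (ShortComplex.isZero_homology_of_isZero_X₂ (K.sc q) (hK q hq))
  Dn_neg k q hq := IsZero.of_epi (πD K S k q)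
    ((S.rightDerived k).map_isZero (IsZero.of_mono (K.iCycles q) (hK q hq)))

end HalfCouple

/-! ### The abutment: `D^{0,n} ≅ H^n(S K)` for left exact `S` -/

section Abutment

variable [PreservesFiniteLimits S]

/-- `Z^n(S K) ≅ S(Z^n K)` for a left exact functor `S` -/
noncomputable def cyclesIso (n : ℤ) :
    ((S.mapHomologicalComplex (ComplexShape.up ℤ)).obj K).cycles n ≅ S.obj (K.cycles n) :=
  IsLimit.conePointUniqueUpToIso
    (((S.mapHomologicalComplex (ComplexShape.up ℤ)).obj K).cyclesIsKernel n (n + 1) (by simp))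
    (KernelFork.mapIsLimit _ (K.cyclesIsKernel n (n + 1) (by simp)) S)

omit [HasInjectiveResolutions C'] in
@[reassoc (attr := simp)]
lemma cyclesIso_hom_i (n : ℤ) :
    (cyclesIso K S n).hom ≫ S.map (K.iCycles n) =
      ((S.mapHomologicalComplex (ComplexShape.up ℤ)).obj K).iCycles n :=
  IsLimit.conePointUniqueUpToIso_hom_comp _ _ WalkingParallelPair.zero

omit [HasInjectiveResolutions C'] in
set_option backward.isDefEq.respectTransparency false in
@[reassoc (attr := simp)]
lemma toCycles_cyclesIso (i n : ℤ) :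
    ((S.mapHomologicalComplex (ComplexShape.up ℤ)).obj K).toCycles i n ≫ (cyclesIso K S n).hom =
      S.map (K.toCycles i n) := by
  rw [← cancel_mono (S.map (K.iCycles n)), Category.assoc, cyclesIso_hom_i,
    HomologicalComplex.toCycles_i, ← S.map_comp, K.toCycles_i]
  rfl

set_option backward.isDefEq.respectTransparency false in
/-- `D^{0,n} ≅ H^n(S K)` -/
noncomputable def DnZeroIso (n : ℤ) :
    Dn K S 0 n ≅ ((S.mapHomologicalComplex (ComplexShape.up ℤ)).obj K).homology n :=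
  cokernel.mapIso _ (S.map (K.toCycles ((ComplexShape.up ℤ).prev n) n))
      (S.rightDerivedZeroIsoSelf.app _) (S.rightDerivedZeroIsoSelf.app _)
      (S.rightDerivedZeroIsoSelf.hom.naturality _) ≪≫
    (cokernel.mapIso
      (((S.mapHomologicalComplex (ComplexShape.up ℤ)).obj K).toCycles
        ((ComplexShape.up ℤ).prev n) n)
      (S.map (K.toCycles ((ComplexShape.up ℤ).prev n) n)) (Iso.refl _) (cyclesIso K S n)
      (by rw [toCycles_cyclesIso]; exact (Category.id_comp _).symm)).symm ≪≫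
    (cokernelIsCokernel _).coconePointUniqueUpToIso
      (((S.mapHomologicalComplex (ComplexShape.up ℤ)).obj K).homologyIsCokernel
        ((ComplexShape.up ℤ).prev n) n rfl)

end Abutment

include L in
/-- **The spectral sequence of a bounded below complex of `S`-acyclic objects**
(second hypercohomology spectral sequence): `E_2^{p,q} = R^pS(H^q K) ⇒ H^{p+q}(S K)`.
`H'` and `E₀` are any families isomorphic to the abutment and to the `E₂`-terms. -/
theorem exists_ss [PreservesFiniteLimits S]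
    (hac : ∀ (q : ℤ) (k : ℕ), 0 < k → IsZero ((S.rightDerived k).obj (K.X q)))
    (hK : ∀ q : ℤ, q < 0 → IsZero (K.X q))
    (H' : ℤ → C'')
    (eH : ∀ n, Nonempty (((S.mapHomologicalComplex (ComplexShape.up ℤ)).obj K).homology n ≅ H' n))
    (E₀ : ℤ × ℤ → C'')
    (eE : ∀ (p : ℕ) (q : ℤ),
      Nonempty ((S.rightDerived p).obj (K.homology q) ≅ E₀ ((p : ℤ), q)))
    (hE₀ : ∀ pq : ℤ × ℤ, pq.1 < 0 → IsZero (E₀ pq)) :
    ∃ (E : E₂CohomologicalSpectralSequence C'') (a : SpSeq.Abutment E H'),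
      (∀ n, a.IsFinite n) ∧ SpSeq.IsBounded E ∧
        ∀ pq, Nonempty ((E.page 2 le_rfl).X pq ≅ E₀ pq) := by
  refine (halfCouple K S L hac hK).exists_ss H' (fun n => ?_) E₀ eE hE₀
  obtain ⟨e⟩ := eH n
  exact ⟨DnZeroIso K S n ≪≫ e⟩

end Groth.Agent.Lib.Helper33.AcyclicSS
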