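import Mathlib.CategoryTheory.Sites.CoverLifting
import Mathlib.CategoryTheory.Sites.Pullback
import Mathlib.CategoryTheory.Functor.KanExtension.Adjunction
import Mathlib.CategoryTheory.Monad.Adjunction

/-!
# Fully faithful continuous and cocontinuous functors between sites (helper33)

For `G : C ⥤ D` fully faithful, continuous and cocontinuous, with `g⁻¹` restriction along `G`,
`g_*` its right adjoint and `g_!` its left adjoint (general universes):
* `isIso_counit_app`: the counit `g⁻¹ g_* F ⟶ F` is an isomorphism;
* `isIso_unit_app`: the unit `F ⟶ g⁻¹ g_! F` is an isomorphism.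
-/

set_option autoImplicit false

universe v₁ v₂ v₃ u₁ u₂ u₃

open CategoryTheory CategoryTheory.Limits

namespace Groth.Agent.Lib.Helper33.SiteFullyFaithful

variable {C : Type u₂} [Category.{v₂} C] {D : Type u₃} [Category.{v₃} D] (G : C ⥤ D)
  (A : Type u₁) [Category.{v₁} A]
  (J : GrothendieckTopology C) (K : GrothendieckTopology D)
  [G.IsContinuous J K] [G.IsCocontinuous J K] [G.Full] [G.Faithful]

section Counit

variable [∀ (F : Cᵒᵖ ⥤ A), G.op.HasPointwiseRightKanExtension F]

theorem isIso_counit_app (F : Sheaf J A) :
    IsIso ((G.sheafAdjunctionCocontinuous A J K).counit.app F) := by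
  have h : IsIso ((sheafToPresheaf J A).map
      ((G.sheafAdjunctionCocontinuous A J K).counit.app F)) := by
    change IsIso ((G.sheafAdjunctionCocontinuous A J K).counit.app F).hom
    rw [Functor.sheafAdjunctionCocontinuous_counit_app_hom, Functor.ranAdjunction_counit]
    have h1 : ∀ X, IsIso ((G.op.ranCounit.app F.obj).app X) := fun X =>
      (Functor.isPointwiseRightKanExtensionRanCounit G.op F.obj (G.op.obj X)).isIso_hom_app
    exact @NatIso.isIso_of_isIso_app _ _ _ _ _ _ _ h1
  exact isIso_of_reflects_iso _ (sheafToPresheaf J A)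

theorem isIso_counit : IsIso (G.sheafAdjunctionCocontinuous A J K).counit := by
  have := isIso_counit_app G A J K
  exact NatIso.isIso_of_isIso_app _

end Counit

section Unit

variable [∀ (F : Cᵒᵖ ⥤ A), G.op.HasPointwiseRightKanExtension F]
  [∀ (F : Cᵒᵖ ⥤ A), G.op.HasPointwiseLeftKanExtension F]
  [HasWeakSheafify J A] [HasWeakSheafify K A]

/-- `g⁻¹ g_! ≅ id` -/
noncomputable def pullbackPushforwardIso :
    G.sheafPullback A J K ⋙ G.sheafPushforwardContinuous A J K ≅ 𝟭 (Sheaf J A) :=
  Functor.isoWhiskerRight (Functor.sheafPullbackConstruction.sheafPullbackIso G A J K) _ ≪≫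
    Functor.associator _ _ _ ≪≫
    Functor.isoWhiskerLeft (sheafToPresheaf J A)
      (Functor.associator _ _ _ ≪≫
        Functor.isoWhiskerLeft G.op.lan
          (G.pushforwardContinuousSheafificationCompatibility A J K).symm ≪≫
        (Functor.associator _ _ _).symm ≪≫
        Functor.isoWhiskerRight (asIso (G.op.lanUnit (H := A))).symm (presheafToSheaf J A) ≪≫
        Functor.leftUnitor _) ≪≫
    (sheafificationNatIso J A).symm

theorem isIso_unit : IsIso (G.sheafAdjunctionContinuous A J K).unit :=
  (G.sheafAdjunctionContinuous A J K).isIso_unit_of_iso (pullbackPushforwardIso G A J K)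

theorem isIso_unit_app (F : Sheaf J A) :
    IsIso ((G.sheafAdjunctionContinuous A J K).unit.app F) := by
  have := isIso_unit G A J K
  infer_instance

end Unit

end Groth.Agent.Lib.Helper33.SiteFullyFaithful
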