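import Groth.Agent.Lib.Helper33.BigSiteExact
import Groth.Agent.Lib.Helper5.ExtAdjunction
import Groth.Agent.Lib.Helper33.SiteFullyFaithful
import Groth.Prelude.Def_EtCore
import Mathlib.CategoryTheory.Sites.ConstantSheaf

/-!
# Cohomology on the big étale site vs the small étale site (helper33)

* `extCongrLeftAdd`: `Ext` congruence in the first variable.
* `piEtPullConstIso`: `π_S⁻¹` of a constant sheaf is the constant sheaf.
* `hResEtAddEquiv`: `H^p(S_et, F|_{S_et}) ≃+ H^p(big étale site of S, F)`.
-/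

set_option autoImplicit false

universe w v' u' u

open CategoryTheory CategoryTheory.Limits AlgebraicGeometry Opposite Abelian

namespace Groth.Agent.Lib.Helper33.BigSiteCoh

section ExtCongr

variable {𝒜 : Type u'} [Category.{v'} 𝒜] [Abelian 𝒜] [HasExt.{w} 𝒜]

/-- `Ext` congruence in the first variable. -/
noncomputable def extCongrLeftAdd {X Y : 𝒜} (e : X ≅ Y) (Z : 𝒜) (n : ℕ) :
    Ext.{w} Y Z n ≃+ Ext.{w} X Z n where
  toFun α := (Ext.mk₀ e.hom).comp α (zero_add n)
  invFun β := (Ext.mk₀ e.inv).comp β (zero_add n)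
  map_add' := by simp
  left_inv α := by simp
  right_inv β := by simp

/-- `Ext` congruence in the second variable. -/
noncomputable def extCongrRightAdd (X : 𝒜) {Y Z : 𝒜} (e : Y ≅ Z) (n : ℕ) :
    Ext.{w} X Y n ≃+ Ext.{w} X Z n where
  toFun α := α.comp (Ext.mk₀ e.hom) (add_zero n)
  invFun β := β.comp (Ext.mk₀ e.inv) (add_zero n)
  map_add' := by simp
  left_inv α := by simp
  right_inv β := by simp

end ExtCongr

section Small

variable (S : Scheme.{u})

instance additive_piEtPull : (BigSite.piEtPull Scheme.etalePrecoverage.{u} S).Additive :=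
  (BigSite.piEtAdj Scheme.etalePrecoverage.{u} S).left_adjoint_additive

instance preservesFiniteColimits_piEtPull :
    PreservesFiniteColimits (BigSite.piEtPull Scheme.etalePrecoverage.{u} S) := by
  have : PreservesColimitsOfSize.{0, 0} (BigSite.piEtPull Scheme.etalePrecoverage.{u} S) :=
    (BigSite.piEtAdj Scheme.etalePrecoverage.{u} S).leftAdjoint_preservesColimits
  exact PreservesColimitsOfSize.preservesFiniteColimits _

/-- the terminal object of the big site of `S` -/
noncomputable def bigTopIsTerminal : IsTerminal ((EtFppf.a S).obj (EtCoh.top S)) :=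
  Over.mkIdTerminal

/-- the two "global sections" functors on the big site agree -/
noncomputable def sectionsIso :
    BigSite.resEt Scheme.etalePrecoverage.{u} S ⋙ EtCore.gsec S ≅
      (sheafSections (QuotSh.J Scheme.etalePrecoverage.{u} S) AddCommGrpCat.{u + 1}).obj
        (op ((EtFppf.a S).obj (EtCoh.top S))) :=
  NatIso.ofComponents (fun _ => Iso.refl _) (fun _ => by
    simp only [Iso.refl_hom]
    rfl)

/-- `π_S⁻¹` of a constant sheaf is the constant sheaf. -/
noncomputable def piEtPullConstIso :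
    constantSheaf S.smallEtaleTopology AddCommGrpCat.{u + 1} ⋙
        BigSite.piEtPull Scheme.etalePrecoverage.{u} S ≅
      constantSheaf (QuotSh.J Scheme.etalePrecoverage.{u} S) AddCommGrpCat.{u + 1} :=
  ((EtCore.constAdj S).comp (BigSite.piEtAdj Scheme.etalePrecoverage.{u} S)).leftAdjointUniq
    ((constantSheafAdj (QuotSh.J Scheme.etalePrecoverage.{u} S) AddCommGrpCat.{u + 1}
      (bigTopIsTerminal S)).ofNatIsoRight (sectionsIso S).symm)

/-- `H^p(S_et, F|_{S_et}) ≃+ H^p(big étale site of S, F)`. -/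
noncomputable def hResEtAddEquiv (F : BigSite.Ab Scheme.etalePrecoverage.{u} S) (p : ℕ) :
    EtCoh.H S ((BigSite.resEt Scheme.etalePrecoverage.{u} S).obj F) p ≃+
      BigSite.H Scheme.etalePrecoverage.{u} S F p :=
  (Groth.Agent.Lib.Helper5.extAdjAddEquiv (BigSite.piEtAdj Scheme.etalePrecoverage.{u} S)
      ((constantSheaf S.smallEtaleTopology AddCommGrpCat.{u + 1}).obj
        (AddCommGrpCat.of (ULift ℤ))) F p).symm.trans
    (extCongrLeftAdd ((piEtPullConstIso S).app (AddCommGrpCat.of (ULift ℤ))) F p).symm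

end Small

section Along

variable {S T : Scheme.{u}} (f : T ⟶ S)

/-- big and small direct images are compatible with restriction to the small étale sites -/
noncomputable def pushResIso :
    BigSite.pushBig Scheme.etalePrecoverage.{u} f AddCommGrpCat.{u + 1} ⋙
        BigSite.resEt Scheme.etalePrecoverage.{u} S ≅
      BigSite.resEt Scheme.etalePrecoverage.{u} T ⋙ EtCoh.push f := by
  have cL : (EtFppf.a S ⋙ Over.pullback f).IsContinuous S.smallEtaleTopology
      (QuotSh.J Scheme.etalePrecoverage.{u} T) :=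
    Functor.isContinuous_comp _ _ _ (QuotSh.J Scheme.etalePrecoverage.{u} S) _
  let eFG : EtCoh.bc f ⋙ EtFppf.a T ≅ EtFppf.a S ⋙ Over.pullback f :=
    MorphismProperty.Over.pullbackCompForgetIso (P := EtCoh.etaleMP) (Q := ⊤) f
  exact Functor.sheafPushforwardContinuousComp' (Iso.refl (EtFppf.a S ⋙ Over.pullback f))
      AddCommGrpCat.{u + 1} S.smallEtaleTopology (QuotSh.J Scheme.etalePrecoverage.{u} S)
      (QuotSh.J Scheme.etalePrecoverage.{u} T) ≪≫
    (Functor.sheafPushforwardContinuousComp' eFG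
      AddCommGrpCat.{u + 1} S.smallEtaleTopology T.smallEtaleTopology
      (QuotSh.J Scheme.etalePrecoverage.{u} T)).symm

/-- the counit of `resEt ⊣ iEtPush` is an isomorphism (the inclusion of the small étale site is
fully faithful) -/
instance full_a : (EtFppf.a T).Full := inferInstanceAs (Scheme.Etale.forget T).Full

instance faithful_a : (EtFppf.a T).Faithful := inferInstanceAs (Scheme.Etale.forget T).Faithful

instance isIso_counit_iEtAdj_app (F : EtCoh.Ab T) :
    IsIso ((BigSite.iEtAdj Scheme.etalePrecoverage.{u} T).counit.app F) :=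
  Groth.Agent.Lib.Helper33.SiteFullyFaithful.isIso_counit_app (EtFppf.a T) AddCommGrpCat.{u + 1}
    T.smallEtaleTopology (QuotSh.J Scheme.etalePrecoverage.{u} T) F

instance isIso_counit_iEtAdj : IsIso (BigSite.iEtAdj Scheme.etalePrecoverage.{u} T).counit :=
  NatIso.isIso_of_isIso_app _

/-- `i_{T,*}` followed by restriction is the identity -/
noncomputable def iEtPushResIso :
    BigSite.iEtPush Scheme.etalePrecoverage.{u} T ⋙ BigSite.resEt Scheme.etalePrecoverage.{u} T ≅
      𝟭 (EtCoh.Ab T) :=
  asIso (BigSite.iEtAdj Scheme.etalePrecoverage.{u} T).counit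

/-- the right adjoint of `F ↦ (π_S⁻¹ F)|_{T_et}` is `f_*` -/
noncomputable def rightIso :
    (BigSite.iEtPush Scheme.etalePrecoverage.{u} T ⋙
        BigSite.pushBig Scheme.etalePrecoverage.{u} f AddCommGrpCat.{u + 1}) ⋙
        BigSite.resEt Scheme.etalePrecoverage.{u} S ≅ EtCoh.push f :=
  Functor.associator _ _ _ ≪≫
    Functor.isoWhiskerLeft (BigSite.iEtPush Scheme.etalePrecoverage.{u} T) (pushResIso f) ≪≫
    (Functor.associator _ _ _).symm ≪≫
    Functor.isoWhiskerRight (iEtPushResIso (T := T)) (EtCoh.push f) ≪≫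
    Functor.leftUnitor _

/-- `(π_S⁻¹ F)|_{T_et} ≅ f⁻¹ F`, naturally in `F` -/
noncomputable def resEtAlongPiEtPullIso :
    BigSite.piEtPull Scheme.etalePrecoverage.{u} S ⋙
        BigSite.resEtAlong Scheme.etalePrecoverage.{u} f ≅ EtCoh.pull f :=
  ((BigSite.piEtAdj Scheme.etalePrecoverage.{u} S).comp
    ((BigSite.bigAdj Scheme.etalePrecoverage.{u} f AddCommGrpCat.{u + 1}).comp
      (BigSite.iEtAdj Scheme.etalePrecoverage.{u} T))).leftAdjointUniq
    ((EtCoh.pullPushAdj f).ofNatIsoRight (rightIso f).symm)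

/-- `H^n(T/S, π_S⁻¹ F) ≃+ H^n(T_et, f⁻¹ F)` -/
noncomputable def hUPiEtPullAddEquiv (n : ℕ) (F : EtCoh.Ab S) :
    BigSite.HU Scheme.etalePrecoverage.{u}
        ((BigSite.piEtPull Scheme.etalePrecoverage.{u} S).obj F) n (Over.mk f) ≃+
      EtCoh.H T ((EtCoh.pull f).obj F) n :=
  (hResEtAddEquiv T ((BigSite.pullBig Scheme.etalePrecoverage.{u} f AddCommGrpCat.{u + 1}).obj
      ((BigSite.piEtPull Scheme.etalePrecoverage.{u} S).obj F)) n).symm.trans
    (extCongrRightAdd _ ((resEtAlongPiEtPullIso f).app F) n)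

end Along

end Groth.Agent.Lib.Helper33.BigSiteCoh
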