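import Groth.Agent.Lib.Helper6.LanFlat
import Groth.Agent.S6638
import Groth.Prelude.Def_BigSite
import Mathlib.CategoryTheory.Abelian.RightDerived
import Mathlib.CategoryTheory.Preadditive.Injective.Preserves

/-!
# Exactness properties of the functors between big and small étale sites (helper33)
-/

set_option autoImplicit false

universe v v' u u'

open CategoryTheory CategoryTheory.Limits AlgebraicGeometry Opposite

namespace Groth.Agent.Lib.Helper33.BigSiteExact

section Generic

variable {A : Type u} [Category.{v} A] [Abelian A] [HasInjectiveResolutions A]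
  {B : Type u'} [Category.{v'} B] [Abelian B]

/-- the higher right derived functors of an exact functor vanish -/
theorem isZero_rightDerived_succ_of_exact (G : A ⥤ B) [G.Additive] [PreservesFiniteLimits G]
    [PreservesFiniteColimits G] (n : ℕ) (X : A) :
    IsZero ((G.rightDerived (n + 1)).obj X) := by
  refine IsZero.of_iso ?_ ((injectiveResolution X).isoRightDerivedObj G (n + 1))
  have h := (injectiveResolution X).cocomplex_exactAt_succ n
  change IsZero (HomologicalComplex.homology _ _)
  rw [← HomologicalComplex.exactAt_iff_isZero_homology]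
  rw [HomologicalComplex.exactAt_iff] at h ⊢
  exact h.map G

end Generic

section Big

variable {S T : Scheme.{u}} (f : T ⟶ S)

instance preservesFiniteLimits_pullBig :
    PreservesFiniteLimits (BigSite.pullBig Scheme.etalePrecoverage.{u} f AddCommGrpCat.{u + 1}) := by
  have : PreservesLimitsOfSize.{0, 0} (BigSite.pullBig Scheme.etalePrecoverage.{u} f AddCommGrpCat.{u + 1}) :=
    (BigSite.shriekAbAdj Scheme.etalePrecoverage.{u} f).rightAdjoint_preservesLimits
  exact PreservesLimitsOfSize.preservesFiniteLimits _

instance preservesFiniteColimits_pullBig :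
    PreservesFiniteColimits (BigSite.pullBig Scheme.etalePrecoverage.{u} f AddCommGrpCat.{u + 1}) := by
  have : PreservesColimitsOfSize.{0, 0} (BigSite.pullBig Scheme.etalePrecoverage.{u} f AddCommGrpCat.{u + 1}) :=
    (BigSite.bigAdj Scheme.etalePrecoverage.{u} f AddCommGrpCat.{u + 1}).leftAdjoint_preservesColimits
  exact PreservesColimitsOfSize.preservesFiniteColimits _

instance preservesFiniteLimits_pushBig :
    PreservesFiniteLimits (BigSite.pushBig Scheme.etalePrecoverage.{u} f AddCommGrpCat.{u + 1}) := by
  have : PreservesLimitsOfSize.{0, 0} (BigSite.pushBig Scheme.etalePrecoverage.{u} f AddCommGrpCat.{u + 1}) :=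
    (BigSite.bigAdj Scheme.etalePrecoverage.{u} f AddCommGrpCat.{u + 1}).rightAdjoint_preservesLimits
  exact PreservesLimitsOfSize.preservesFiniteLimits _

instance preservesFiniteLimits_shriekAb : PreservesFiniteLimits (BigSite.shriekAb Scheme.etalePrecoverage.{u} f) :=
  Groth.Agent.S6638.result f Scheme.etalePrecoverage.{u} (Or.inr (Or.inl rfl))

instance preservesInjectiveObjects_pullBig :
    (BigSite.pullBig Scheme.etalePrecoverage.{u} f AddCommGrpCat.{u + 1}).PreservesInjectiveObjects := by
  have : (BigSite.shriekAb Scheme.etalePrecoverage.{u} f).PreservesMonomorphisms := inferInstance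
  exact Functor.preservesInjectiveObjects_of_adjunction_of_preservesMonomorphisms
    (BigSite.shriekAbAdj Scheme.etalePrecoverage.{u} f)

end Big

section Small

variable (S : Scheme.{u})

instance preservesFiniteLimits_resEt : PreservesFiniteLimits (BigSite.resEt Scheme.etalePrecoverage.{u} S) := by
  have : PreservesLimitsOfSize.{0, 0} (BigSite.resEt Scheme.etalePrecoverage.{u} S) :=
    (BigSite.piEtAdj Scheme.etalePrecoverage.{u} S).rightAdjoint_preservesLimits
  exact PreservesLimitsOfSize.preservesFiniteLimits _

instance preservesFiniteColimits_resEt : PreservesFiniteColimits (BigSite.resEt Scheme.etalePrecoverage.{u} S) := by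
  have : PreservesColimitsOfSize.{0, 0} (BigSite.resEt Scheme.etalePrecoverage.{u} S) :=
    (BigSite.iEtAdj Scheme.etalePrecoverage.{u} S).leftAdjoint_preservesColimits
  exact PreservesColimitsOfSize.preservesFiniteColimits _

instance representablyFlat_a : RepresentablyFlat (EtFppf.a S) := by
  have : PreservesFiniteLimits (EtFppf.a S) :=
    inferInstanceAs (PreservesFiniteLimits (Scheme.Etale.forget S))
  exact flat_of_preservesFiniteLimits _

instance hasExactColimitsOfShape_ab (U : (Over S)ᵒᵖ) :
    HasExactColimitsOfShape (CostructuredArrow (EtFppf.a S).op U) AddCommGrpCat.{u + 1} := by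
  have := Groth.Agent.Lib.Helper6.LanFlat.isFiltered_costructuredArrow_op (EtFppf.a S) U
  have : IsFiltered (ULiftHom.{u+1} (CostructuredArrow (EtFppf.a S).op U)) :=
    IsFiltered.of_equivalence ULiftHom.equiv
  exact HasExactColimitsOfShape.of_domain_equivalence _
    (ULiftHom.equiv (C := CostructuredArrow (EtFppf.a S).op U)).symm

instance preservesFiniteLimits_piEtPull : PreservesFiniteLimits (BigSite.piEtPull Scheme.etalePrecoverage.{u} S) :=
  Groth.Agent.Lib.Helper6.LanFlat.sheafPullback_preservesFiniteLimits (EtFppf.a S)
    AddCommGrpCat.{u + 1} _ _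

instance preservesInjectiveObjects_resEt : (BigSite.resEt Scheme.etalePrecoverage.{u} S).PreservesInjectiveObjects := by
  have : (BigSite.piEtPull Scheme.etalePrecoverage.{u} S).PreservesMonomorphisms := inferInstance
  exact Functor.preservesInjectiveObjects_of_adjunction_of_preservesMonomorphisms
    (BigSite.piEtAdj Scheme.etalePrecoverage.{u} S)

end Small

section Along

variable {S T : Scheme.{u}} (f : T ⟶ S)

instance preservesFiniteLimits_resEtAlong : PreservesFiniteLimits (BigSite.resEtAlong Scheme.etalePrecoverage.{u} f) :=
  comp_preservesFiniteLimits _ _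

instance preservesFiniteColimits_resEtAlong :
    PreservesFiniteColimits (BigSite.resEtAlong Scheme.etalePrecoverage.{u} f) :=
  comp_preservesFiniteColimits _ _

instance preservesInjectiveObjects_resEtAlong :
    (BigSite.resEtAlong Scheme.etalePrecoverage.{u} f).PreservesInjectiveObjects where
  injective_obj {I} hI := by
    have h1 : Injective ((BigSite.pullBig Scheme.etalePrecoverage.{u} f AddCommGrpCat.{u + 1}).obj I) :=
      (BigSite.pullBig Scheme.etalePrecoverage.{u} f AddCommGrpCat.{u + 1}).injective_obj_of_injective hI
    exact (BigSite.resEt Scheme.etalePrecoverage.{u} T).injective_obj_of_injective h1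

end Along

end Groth.Agent.Lib.Helper33.BigSiteExact
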