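import Groth.Agent.Lib.Helper33.BigSiteCoh

/-!
# Cohomology on the big Zariski site vs the small Zariski site (helper33)
-/

set_option autoImplicit false

universe u

open CategoryTheory CategoryTheory.Limits AlgebraicGeometry Opposite Abelian TopologicalSpace

namespace Groth.Agent.Lib.Helper33.BigZarCoh

variable (X : Scheme.{u})

/-- the inclusion of the small Zariski site into the big Zariski site is cocontinuous -/
instance isCocontinuous_zarIncl :
    (BigSite.zarIncl X).IsCocontinuous (Opens.grothendieckTopology X)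
      (QuotSh.J Scheme.zariskiPrecoverage.{u} X) where
  cover_lift {U R} hR := by
    rw [GrothendieckTopology.mem_over_iff] at hR
    obtain ⟨𝒰, h𝒰⟩ := (Scheme.mem_grothendieckTopology_iff (P := @IsOpenImmersion)).1 hR
    rw [Opens.mem_grothendieckTopology]
    intro x hx
    let y : ((BigSite.zarIncl X).obj U).left := ⟨x, hx⟩
    obtain ⟨z, hz⟩ := 𝒰.covers y
    have hg : IsOpenImmersion (𝒰.f (𝒰.idx y)) := 𝒰.map_prop _
    let g : 𝒰.X (𝒰.idx y) ⟶ (U : Scheme.{u}) := 𝒰.f (𝒰.idx y)
    have hg' : IsOpenImmersion g := hg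
    let V : X.Opens := (g ≫ U.ι).opensRange
    have hVU : V ≤ U := by
      rintro _ ⟨w, rfl⟩
      exact (g.base w).2
    refine ⟨V, homOfLE hVU, ?_, ?_⟩
    · have h1 : (Sieve.overEquiv _ R).arrows g := h𝒰 _ _ (Presieve.ofArrows.mk (𝒰.idx y))
      rw [Sieve.overEquiv_iff] at h1
      let e : Over.mk V.ι ⟶ Over.mk (g ≫ U.ι) :=
        Over.homMk (g ≫ U.ι).isoOpensRange.inv (Scheme.Hom.isoOpensRange_inv_comp _)
      have h2 := R.downward_closed h1 e
      have h4 : (BigSite.zarIncl X).map (homOfLE hVU) =
          e ≫ (Over.homMk g rfl : Over.mk (g ≫ U.ι) ⟶ (BigSite.zarIncl X).obj U) := by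
        apply Over.OverMorphism.ext
        change X.homOfLE hVU = (g ≫ U.ι).isoOpensRange.inv ≫ g
        rw [← cancel_mono U.ι, Category.assoc, Scheme.Hom.isoOpensRange_inv_comp,
          Scheme.homOfLE_ι]
      change R.arrows ((BigSite.zarIncl X).map (homOfLE hVU))
      rw [h4]
      exact h2
    · refine ⟨z, ?_⟩
      have h3 : g.base z = y := hz
      change U.ι.base (g.base z) = x
      rw [h3]
      rfl

/-- a morphism to an open subscheme, seen as an object of the big site, is determined by the
underlying structure map -/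
lemma hom_zarIncl_ext {Y : Over X} {U : X.Opens} (a b : Y ⟶ (BigSite.zarIncl X).obj U) : a = b := by
  apply Over.OverMorphism.ext
  have ha : a.left ≫ U.ι = Y.hom := Over.w a
  have hb : b.left ≫ U.ι = Y.hom := Over.w b
  exact (cancel_mono U.ι).1 (ha.trans hb.symm)

lemma range_subset_of_hom {Y : Over X} {U : X.Opens} (a : Y ⟶ (BigSite.zarIncl X).obj U) :
    Set.range Y.hom.base ⊆ (U : Set X) := by
  have ha : a.left ≫ U.ι = Y.hom := Over.w a
  rintro _ ⟨w, rfl⟩
  rw [← ha]
  exact (a.left.base w).2

/-- the morphism to an open subscheme containing the image -/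
noncomputable def liftOfRange (Y : Over X) (U : X.Opens)
    (h : Set.range Y.hom.base ⊆ (U : Set X)) : Y.left ⟶ (U : Scheme.{u}) :=
  IsOpenImmersion.lift U.ι Y.hom (by rw [Scheme.Opens.range_ι]; exact h)

lemma liftOfRange_ι (Y : Over X) (U : X.Opens) (h : Set.range Y.hom.base ⊆ (U : Set X)) :
    liftOfRange X Y U h ≫ U.ι = Y.hom :=
  IsOpenImmersion.lift_fac _ _ _

/-- the morphism to an open subscheme containing the image -/
noncomputable def homOfRange (Y : Over X) (U : X.Opens) (h : Set.range Y.hom.base ⊆ (U : Set X)) :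
    Y ⟶ (BigSite.zarIncl X).obj U :=
  Over.homMk (liftOfRange X Y U h) (liftOfRange_ι X Y U h)

instance representablyFlat_zarIncl : RepresentablyFlat (BigSite.zarIncl X) where
  cofiltered Y := by
    have hthin : ∀ (A B : StructuredArrow Y (BigSite.zarIncl X)) (f g : A ⟶ B), f = g := by
      intro A B f g
      apply StructuredArrow.hom_ext
      exact Subsingleton.elim _ _
    have hne : Nonempty (StructuredArrow Y (BigSite.zarIncl X)) :=
      ⟨StructuredArrow.mk (homOfRange X Y ⊤ (by simp))⟩
    have : IsCofilteredOrEmpty (StructuredArrow Y (BigSite.zarIncl X)) := by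
      refine ⟨fun A B => ?_, fun A B f g => ⟨A, 𝟙 A, by rw [hthin A B f g]⟩⟩
      have hrange : Set.range Y.hom.base ⊆ ((A.right ⊓ B.right : X.Opens) : Set X) := by
        intro x hx
        exact ⟨range_subset_of_hom X A.hom hx, range_subset_of_hom X B.hom hx⟩
      exact ⟨StructuredArrow.mk (homOfRange X Y (A.right ⊓ B.right) hrange),
        StructuredArrow.homMk (homOfLE inf_le_left) (hom_zarIncl_ext X _ _),
        StructuredArrow.homMk (homOfLE inf_le_right) (hom_zarIncl_ext X _ _), trivial⟩
    exact @IsCofiltered.mk _ _ this hne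

attribute [local instance] CategoryTheory.uliftCategory in
instance hasExactColimitsOfShape_ab (U : (Over X)ᵒᵖ) :
    HasExactColimitsOfShape (CostructuredArrow (BigSite.zarIncl X).op U)
      AddCommGrpCat.{u + 1} := by
  have := Groth.Agent.Lib.Helper6.LanFlat.isFiltered_costructuredArrow_op (BigSite.zarIncl X) U
  have : IsFiltered (ULiftHom.{u+1} (ULift.{u+1} (CostructuredArrow (BigSite.zarIncl X).op U))) :=
    IsFiltered.of_equivalence (ULiftHomULiftCategory.equiv.{u+1, u+1} _)
  exact HasExactColimitsOfShape.of_domain_equivalence _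
    (ULiftHomULiftCategory.equiv.{u+1, u+1} (CostructuredArrow (BigSite.zarIncl X).op U)).symm

/-- the terminal object of the big site of `X`, as the image of the open `⊤` -/
noncomputable def bigTopIsTerminal : IsTerminal ((BigSite.zarIncl X).obj ⊤) :=
  IsTerminal.ofUniqueHom (fun Y => homOfRange X Y ⊤ (by simp))
    (fun _ _ => hom_zarIncl_ext X _ _)

section Cont

variable [BigSite.ZarCont Scheme.zariskiPrecoverage.{u} X]

instance preservesFiniteLimits_piZarPull :
    PreservesFiniteLimits (BigSite.piZarPull Scheme.zariskiPrecoverage.{u} X) :=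
  Groth.Agent.Lib.Helper6.LanFlat.sheafPullback_preservesFiniteLimits (BigSite.zarIncl X)
    AddCommGrpCat.{u + 1} _ _

instance additive_piZarPull : (BigSite.piZarPull Scheme.zariskiPrecoverage.{u} X).Additive :=
  (BigSite.piZarAdj Scheme.zariskiPrecoverage.{u} X).left_adjoint_additive

instance preservesFiniteColimits_piZarPull :
    PreservesFiniteColimits (BigSite.piZarPull Scheme.zariskiPrecoverage.{u} X) := by
  have : PreservesColimitsOfSize.{0, 0} (BigSite.piZarPull Scheme.zariskiPrecoverage.{u} X) :=
    (BigSite.piZarAdj Scheme.zariskiPrecoverage.{u} X).leftAdjoint_preservesColimits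
  exact PreservesColimitsOfSize.preservesFiniteColimits _

instance preservesFiniteLimits_resZar :
    PreservesFiniteLimits (BigSite.resZar Scheme.zariskiPrecoverage.{u} X) := by
  have : PreservesLimitsOfSize.{0, 0} (BigSite.resZar Scheme.zariskiPrecoverage.{u} X) :=
    (BigSite.piZarAdj Scheme.zariskiPrecoverage.{u} X).rightAdjoint_preservesLimits
  exact PreservesLimitsOfSize.preservesFiniteLimits _

instance preservesFiniteColimits_resZar :
    PreservesFiniteColimits (BigSite.resZar Scheme.zariskiPrecoverage.{u} X) := by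
  have : PreservesColimitsOfSize.{0, 0} (BigSite.resZar Scheme.zariskiPrecoverage.{u} X) :=
    ((BigSite.zarIncl X).sheafAdjunctionCocontinuous AddCommGrpCat.{u + 1}
      (Opens.grothendieckTopology X)
      (QuotSh.J Scheme.zariskiPrecoverage.{u} X)).leftAdjoint_preservesColimits
  exact PreservesColimitsOfSize.preservesFiniteColimits _

/-- the two "global sections" functors on the big Zariski site agree -/
noncomputable def sectionsIso :
    BigSite.resZar Scheme.zariskiPrecoverage.{u} X ⋙
        (sheafSections (Opens.grothendieckTopology X) AddCommGrpCat.{u + 1}).obj (op ⊤) ≅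
      (sheafSections (QuotSh.J Scheme.zariskiPrecoverage.{u} X) AddCommGrpCat.{u + 1}).obj
        (op ((BigSite.zarIncl X).obj ⊤)) :=
  NatIso.ofComponents (fun _ => Iso.refl _) (fun _ => by
    simp only [Iso.refl_hom]
    rfl)

/-- the pullback of a constant sheaf to the big Zariski site is the constant sheaf. -/
noncomputable def piZarPullConstIso :
    constantSheaf (Opens.grothendieckTopology X) AddCommGrpCat.{u + 1} ⋙
        BigSite.piZarPull Scheme.zariskiPrecoverage.{u} X ≅
      constantSheaf (QuotSh.J Scheme.zariskiPrecoverage.{u} X) AddCommGrpCat.{u + 1} :=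
  ((constantSheafAdj (Opens.grothendieckTopology X) AddCommGrpCat.{u + 1} isTerminalTop).comp
      (BigSite.piZarAdj Scheme.zariskiPrecoverage.{u} X)).leftAdjointUniq
    ((constantSheafAdj (QuotSh.J Scheme.zariskiPrecoverage.{u} X) AddCommGrpCat.{u + 1}
      (bigTopIsTerminal X)).ofNatIsoRight (sectionsIso X).symm)

/-- `H^p(X_Zar, F|_{X_Zar}) ≃+ H^p(big Zariski site of X, F)`. -/
noncomputable def hResZarAddEquiv (F : BigSite.Ab Scheme.zariskiPrecoverage.{u} X) (p : ℕ) :
    EtZar.H ((BigSite.resZar Scheme.zariskiPrecoverage.{u} X).obj F) p ≃+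
      BigSite.H Scheme.zariskiPrecoverage.{u} X F p :=
  (Groth.Agent.Lib.Helper5.extAdjAddEquiv (BigSite.piZarAdj Scheme.zariskiPrecoverage.{u} X)
      ((constantSheaf (Opens.grothendieckTopology X) AddCommGrpCat.{u + 1}).obj
        (AddCommGrpCat.of (ULift ℤ))) F p).symm.trans
    (Groth.Agent.Lib.Helper33.BigSiteCoh.extCongrLeftAdd
      ((piZarPullConstIso X).app (AddCommGrpCat.of (ULift ℤ))) F p).symm

end Cont

end Groth.Agent.Lib.Helper33.BigZarCoh
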