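import Groth.Agent.Lib.Helper5.RDerShift
import Groth.Agent.Lib.Helper33.ExtRightDerived

/-!
# Low-degree consequences of the Grothendieck composite functor theorem, by dimension shifting
(helper33)

Let `T : A ⥤ B`, `S : B ⥤ C` be left exact additive functors such that `T` sends injective objects
to `S`-acyclic objects. If `RⁱT(F) = 0` for `0 < i < n` and `T F` is `S`-acyclic then
`Rⁱ(T ⋙ S)(F) = 0` for `0 < i < n` and `Rⁿ(T ⋙ S)(F) ≅ S(RⁿT(F))` (`n ≥ 1`).
-/

set_option autoImplicit false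

universe v v' v'' u u' u''

open CategoryTheory CategoryTheory.Limits

namespace Groth.Agent.Lib.Helper33.CompositeLow

open Groth.Agent.Lib.Helper83 Groth.Agent.Lib.Helper5

variable {A : Type u} [Category.{v} A] [Abelian A] [HasInjectiveResolutions A]
  {B : Type u'} [Category.{v'} B] [Abelian B] [HasInjectiveResolutions B]
  {C : Type u''} [Category.{v''} C] [Abelian C]

section Acyclic

variable (S : B ⥤ C) [S.Additive]

/-- `S`-acyclic objects -/
def Acyc (Y : B) : Prop := ∀ k : ℕ, IsZero ((S.rightDerived (k + 1)).obj Y)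

variable {S}

/-- the third term of a short exact sequence with `S`-acyclic first and second term is
`S`-acyclic -/
lemma Acyc.of_shortExact {E : ShortComplex B} (hE : E.ShortExact) (h₁ : Acyc S E.X₁)
    (h₂ : Acyc S E.X₂) : Acyc S E.X₃ := by
  intro k
  have hex := (derivedLES S).exact₃ E hE (k + 1) (k + 2) rfl
  exact hex.isZero_of_both_zeros ((h₂ k).eq_of_src _ _) ((h₁ (k + 1)).eq_of_tgt _ _)

/-- `S` preserves the epimorphism of a short exact sequence with `S`-acyclic kernel -/
lemma Acyc.epi_map_g [PreservesFiniteLimits S] {E : ShortComplex B} (hE : E.ShortExact)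
    (h₁ : Acyc S E.X₁) : Epi (S.map E.g) :=
  epi_map_g_of_isZero_rightDerived_one S hE (h₁ 0)

end Acyclic

variable (T : A ⥤ B) [T.Additive] [PreservesFiniteLimits T]
  (S : B ⥤ C) [S.Additive] [PreservesFiniteLimits S]

omit [HasInjectiveResolutions B] in
/-- the short exact sequence `0 ⟶ T F ⟶ T I ⟶ T Q ⟶ 0` when `R¹T(F) = 0` -/
lemma shortExact_map_of_isZero {E : ShortComplex A} (hE : E.ShortExact)
    (h : IsZero ((T.rightDerived 1).obj E.X₁)) : (E.map T).ShortExact := by
  have hm : Mono E.f := hE.mono_f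
  have h1 : Mono (T.map E.f) := inferInstance
  have h2 : Epi (T.map E.g) := epi_map_g_of_isZero_rightDerived_one T hE h
  exact ShortComplex.ShortExact.mk' (hE.exact.map_of_mono_of_preservesKernel T hm inferInstance)
    h1 h2

/-- degree one: `R¹(T ⋙ S)(F) ≅ S(R¹T(F))` when `T F` is `S`-acyclic -/
lemma nonempty_iso_one (hTS : ∀ I : A, Injective I → Acyc S (T.obj I)) (F : A)
    (hF : Acyc S (T.obj F)) :
    Nonempty (((T ⋙ S).rightDerived 1).obj F ≅ S.obj ((T.rightDerived 1).obj F)) := by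
  have : EnoughInjectives A := ExtRD.enoughInjectives
  have : PreservesFiniteLimits (T ⋙ S) := comp_preservesFiniteLimits T S
  let E := ExtRD.sesInj F
  have hE : E.ShortExact := ExtRD.sesInj_shortExact F
  have hI : Injective E.X₂ := inferInstanceAs (Injective (Injective.under F))
  obtain ⟨πT, wT, hexT, hπT⟩ := exact_and_epi_toRightDerivedOne T hE
  obtain ⟨π, w, hex, hπ⟩ := exact_and_epi_toRightDerivedOne (T ⋙ S) hE
  -- image factorisation of `T g`
  let K := Abelian.image (T.map E.g)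
  let e : T.obj E.X₂ ⟶ K := Abelian.factorThruImage (T.map E.g)
  let m : K ⟶ T.obj E.X₃ := Abelian.image.ι (T.map E.g)
  have hem : e ≫ m = T.map E.g := Abelian.image.fac _
  have he : Epi e := inferInstanceAs (Epi (Abelian.factorThruImage (T.map E.g)))
  have hm : Mono m := inferInstanceAs (Mono (Abelian.image.ι (T.map E.g)))
  have w1 : T.map E.f ≫ e = 0 := by
    rw [← cancel_mono m, Category.assoc, hem, zero_comp, ← T.map_comp, E.zero, T.map_zero]
  have w2 : m ≫ πT = 0 := by
    rw [← cancel_epi e, ← Category.assoc, hem, comp_zero]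
    exact wT
  let E₁ : ShortComplex B := ShortComplex.mk (T.map E.f) e w1
  let E₂ : ShortComplex B := ShortComplex.mk m πT w2
  have hmono : Mono E.f := hE.mono_f
  have hTexact : (E.map T).Exact := hE.exact.map_of_mono_of_preservesKernel T hmono inferInstance
  have hE₁ : E₁.ShortExact := by
    let φ : E₁ ⟶ E.map T :=
      { τ₁ := 𝟙 _
        τ₂ := 𝟙 _
        τ₃ := m
        comm₁₂ := by
          change 𝟙 _ ≫ T.map E.f = T.map E.f ≫ 𝟙 _
          rw [Category.id_comp, Category.comp_id]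
        comm₂₃ := by
          change 𝟙 _ ≫ T.map E.g = e ≫ m
          rw [hem, Category.id_comp] }
    have h1 : Epi φ.τ₁ := inferInstanceAs (Epi (𝟙 _))
    have h2 : IsIso φ.τ₂ := inferInstanceAs (IsIso (𝟙 _))
    have h3 : Mono φ.τ₃ := hm
    have hex1 : E₁.Exact := (ShortComplex.exact_iff_of_epi_of_isIso_of_mono φ).2 hTexact
    have h4 : Mono (T.map E.f) := inferInstance
    exact ShortComplex.ShortExact.mk' hex1 h4 he
  have hE₂ : E₂.ShortExact := by
    let φ : ShortComplex.mk (T.map E.g) πT wT ⟶ E₂ :=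
      { τ₁ := e
        τ₂ := 𝟙 _
        τ₃ := 𝟙 _
        comm₁₂ := by
          change e ≫ m = T.map E.g ≫ 𝟙 _
          rw [hem, Category.comp_id]
        comm₂₃ := by
          change 𝟙 _ ≫ πT = πT ≫ 𝟙 _
          rw [Category.id_comp, Category.comp_id] }
    have h1 : Epi φ.τ₁ := he
    have h2 : IsIso φ.τ₂ := inferInstanceAs (IsIso (𝟙 _))
    have h3 : Mono φ.τ₃ := inferInstanceAs (Mono (𝟙 _))
    have hex2 : E₂.Exact := (ShortComplex.exact_iff_of_epi_of_isIso_of_mono φ).1 hexT
    exact ShortComplex.ShortExact.mk' hex2 hm hπT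
  have hK : Acyc S K := Acyc.of_shortExact hE₁ hF (hTS _ hI)
  have hSπ : Epi (S.map πT) := Acyc.epi_map_g hE₂ hK
  have hSe : Epi (S.map e) := Acyc.epi_map_g hE₁ hF
  have hSexact : (E₂.map S).Exact := hE₂.exact.map_of_mono_of_preservesKernel S hm inferInstance
  have w3 : S.map (T.map E.g) ≫ S.map πT = 0 := by
    rw [← S.map_comp, wT, S.map_zero]
  have hex3 : (ShortComplex.mk (S.map (T.map E.g)) (S.map πT) w3).Exact := by
    let φ : ShortComplex.mk (S.map (T.map E.g)) (S.map πT) w3 ⟶ E₂.map S :=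
      { τ₁ := S.map e
        τ₂ := 𝟙 _
        τ₃ := 𝟙 _
        comm₁₂ := by
          change S.map e ≫ S.map m = S.map (T.map E.g) ≫ 𝟙 _
          rw [← S.map_comp, hem, Category.comp_id]
        comm₂₃ := by
          change 𝟙 _ ≫ S.map πT = S.map πT ≫ 𝟙 _
          rw [Category.id_comp, Category.comp_id] }
    have h1 : Epi φ.τ₁ := hSe
    have h2 : IsIso φ.τ₂ := inferInstanceAs (IsIso (𝟙 _))
    have h3 : Mono φ.τ₃ := inferInstanceAs (Mono (𝟙 _))
    exact (ShortComplex.exact_iff_of_epi_of_isIso_of_mono φ).2 hSexact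
  exact ⟨IsColimit.coconePointUniqueUpToIso hex.gIsCokernel hex3.gIsCokernel⟩

/-- **Low-degree part of the composite functor theorem.** If `RⁱT(F) = 0` for `0 < i < n + 1` and
`T F` is `S`-acyclic, then `Rⁱ(T ⋙ S)(F) = 0` for `0 < i < n + 1` and
`Rⁿ⁺¹(T ⋙ S)(F) ≅ S(Rⁿ⁺¹T(F))`. -/
theorem main (hTS : ∀ I : A, Injective I → Acyc S (T.obj I)) (n : ℕ) :
    ∀ (F : A), (∀ i : ℕ, 0 < i → i < n + 1 → IsZero ((T.rightDerived i).obj F)) →
      Acyc S (T.obj F) →
      (∀ i : ℕ, 0 < i → i < n + 1 → IsZero (((T ⋙ S).rightDerived i).obj F)) ∧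
        Nonempty (((T ⋙ S).rightDerived (n + 1)).obj F ≅ S.obj ((T.rightDerived (n + 1)).obj F)) := by
  have : EnoughInjectives A := ExtRD.enoughInjectives
  have : PreservesFiniteLimits (T ⋙ S) := comp_preservesFiniteLimits T S
  induction n with
  | zero =>
    intro F _ hF
    exact ⟨fun i h1 h2 => by omega, nonempty_iso_one T S hTS F hF⟩
  | succ n ih =>
    intro F hv hF
    let E := ExtRD.sesInj F
    have hE : E.ShortExact := ExtRD.sesInj_shortExact F
    have hI : Injective E.X₂ := inferInstanceAs (Injective (Injective.under F))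
    have h1 : IsZero ((T.rightDerived 1).obj E.X₁) := hv 1 Nat.one_pos (by omega)
    have hET : (E.map T).ShortExact := shortExact_map_of_isZero T hE h1
    have hQ : Acyc S (T.obj E.X₃) := Acyc.of_shortExact hET hF (hTS _ hI)
    -- the hypotheses for `Q`
    have hvQ : ∀ i : ℕ, 0 < i → i < n + 1 → IsZero ((T.rightDerived i).obj E.X₃) := by
      intro i hi1 hi2
      obtain ⟨k, rfl⟩ : ∃ k, i = k + 1 := ⟨i - 1, by omega⟩
      exact isZero_rightDerived_succ_X₃ T hE k (hv (k + 2) (by omega) (by omega))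
    obtain ⟨hz, ⟨e⟩⟩ := ih E.X₃ hvQ hQ
    refine ⟨?_, ?_⟩
    · intro i hi1 hi2
      obtain ⟨k, rfl⟩ : ∃ k, i = k + 1 := ⟨i - 1, by omega⟩
      cases k with
      | zero =>
        have hepi : Epi (S.map (E.map T).g) := Acyc.epi_map_g (S := S) hET hF
        exact isZero_rightDerived_one_X₁ (T ⋙ S) hE hepi
      | succ k =>
        exact isZero_rightDerived_succ_succ_X₁ (T ⋙ S) hE k (hz (k + 1) (by omega) (by omega))
    · have i1 : IsIso ((derivedLES (T ⋙ S)).δ E hE (n + 1) (n + 2) rfl) :=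
        isIso_δ_of_injective (T ⋙ S) hE n
      have i2 : IsIso ((derivedLES T).δ E hE (n + 1) (n + 2) rfl) :=
        isIso_δ_of_injective T hE n
      exact ⟨(asIso ((derivedLES (T ⋙ S)).δ E hE (n + 1) (n + 2) rfl)).symm ≪≫ e ≪≫
        S.mapIso (asIso ((derivedLES T).δ E hE (n + 1) (n + 2) rfl))⟩

end Groth.Agent.Lib.Helper33.CompositeLow
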