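import Mathlib
import Groth.Agent.Lib.Helper33.TruncFinite

set_option autoImplicit false
universe v u
open CategoryTheory CategoryTheory.Limits Opposite Simplicial SimplexCategory

namespace Groth.Agent.Lib.Helper33.CoskHtpy

variable {E : Type u} [Category.{v} E] {n : ℕ}
  {X X' W Y : SimplicialObject E}

section Rho

variable (εW : (Truncated.inclusion n).op ⋙ W ⟶ (Truncated.inclusion n).op ⋙ X)

/-- restriction of `W` to a truncated simplex followed by the counit. -/
def ρ (K : SimplexCategory.Truncated n) {Δ : SimplexCategory} (θ : K.obj ⟶ Δ) :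
    W.obj (op Δ) ⟶ X.obj (op K.obj) :=
  W.map θ.op ≫ εW.app (op K)

theorem map_ρ (K : SimplexCategory.Truncated n) {Δ Δ' : SimplexCategory} (θ : K.obj ⟶ Δ)
    (χ : Δ ⟶ Δ') : W.map χ.op ≫ ρ εW K θ = ρ εW K (θ ≫ χ) := by
  simp only [ρ, op_comp, Functor.map_comp, Category.assoc]

theorem ρ_map {K K' : SimplexCategory.Truncated n} (τ : K' ⟶ K) {Δ : SimplexCategory}
    (θ : K.obj ⟶ Δ) :
    ρ εW K θ ≫ X.map ((Truncated.inclusion n).map τ).op =
      ρ εW K' ((Truncated.inclusion n).map τ ≫ θ) := by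
  have := εW.naturality τ.op
  simp only [ρ, op_comp, Functor.map_comp, Category.assoc]
  congr 1
  exact this.symm

end Rho

section Choice

variable (f g : X ⟶ X')

theorem app_comp_map_eq_of_not_surjective
    (hfg : ∀ p : ℕ, p < n → f.app (op ⦋p⦌) = g.app (op ⦋p⦌))
    {a b : SimplexCategory} (ha : a.len ≤ n) (θ : b ⟶ a)
    (hθ : ¬ Function.Surjective θ.toOrderHom) :
    f.app (op a) ≫ X'.map θ.op = g.app (op a) ≫ X'.map θ.op := by
  induction a using SimplexCategory.rec with | _ k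
  cases k with
  | zero =>
    exfalso
    apply hθ
    intro y
    have : Subsingleton (Fin ((⦋0⦌ : SimplexCategory).len + 1)) :=
      inferInstanceAs (Subsingleton (Fin 1))
    exact ⟨0, Subsingleton.elim _ _⟩
  | succ m =>
    obtain ⟨i, θ', rfl⟩ := eq_comp_δ_of_not_surjective θ hθ
    have hm : m < n := ha
    have e0 := f.naturality (SimplexCategory.δ i).op
    have e1 := g.naturality (SimplexCategory.δ i).op
    rw [op_comp, Functor.map_comp, ← Category.assoc, ← Category.assoc, ← e0, ← e1, hfg m hm]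

/-- the choice between `f` and `g` according to the value of `β` at `0`. -/
noncomputable def c (K : SimplexCategory) (β : K ⟶ ⦋1⦌) : X.obj (op K) ⟶ X'.obj (op K) :=
  if β.toOrderHom 0 = 0 then f.app (op K) else g.app (op K)

theorem c_of_zero (K : SimplexCategory) (β : K ⟶ ⦋1⦌) (h : β.toOrderHom 0 = 0) :
    c f g K β = f.app (op K) := if_pos h

theorem c_of_ne (K : SimplexCategory) (β : K ⟶ ⦋1⦌) (h : β.toOrderHom 0 ≠ 0) :
    c f g K β = g.app (op K) := if_neg h

theorem c_nat (hfg : ∀ p : ℕ, p < n → f.app (op ⦋p⦌) = g.app (op ⦋p⦌))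
    {K K' : SimplexCategory} (hK : K.len ≤ n) (τ : K' ⟶ K) (β : K ⟶ ⦋1⦌) :
    c f g K β ≫ X'.map τ.op = X.map τ.op ≫ c f g K' (τ ≫ β) := by
  by_cases h0 : β.toOrderHom 0 = 0
  · rw [c_of_zero f g K β h0]
    by_cases h1 : (τ ≫ β).toOrderHom 0 = 0
    · rw [c_of_zero f g K' _ h1]
      exact (f.naturality τ.op).symm
    · rw [c_of_ne f g K' _ h1]
      have hns : ¬ Function.Surjective τ.toOrderHom := by
        intro hs
        obtain ⟨x, hx⟩ := hs 0
        apply h1
        have hx0 : τ.toOrderHom 0 = 0 := by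
          have := τ.toOrderHom.monotone (Fin.zero_le x)
          rw [hx] at this
          exact le_antisymm this (Fin.zero_le _)
        show β.toOrderHom (τ.toOrderHom 0) = 0
        rw [hx0]
        exact h0
      rw [app_comp_map_eq_of_not_surjective f g hfg hK τ hns]
      exact (g.naturality τ.op).symm
  · rw [c_of_ne f g K β h0]
    have h1 : (τ ≫ β).toOrderHom 0 ≠ 0 := by
      intro h
      apply h0
      have hle : β.toOrderHom 0 ≤ β.toOrderHom (τ.toOrderHom 0) :=
        β.toOrderHom.monotone (Fin.zero_le _)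
      have h' : β.toOrderHom (τ.toOrderHom 0) = 0 := h
      rw [h'] at hle
      exact le_antisymm hle (Fin.zero_le _)
    rw [c_of_ne f g K' _ h1]
    exact (g.naturality τ.op).symm

end Choice

section Hm

variable (εW : (Truncated.inclusion n).op ⋙ W ⟶ (Truncated.inclusion n).op ⋙ X)
  (εY : (Truncated.inclusion n).op ⋙ Y ⟶ (Truncated.inclusion n).op ⋙ X')
  (hY : (Functor.RightExtension.mk Y εY).IsPointwiseRightKanExtension)
  (f g : X ⟶ X') (hfg : ∀ p : ℕ, p < n → f.app (op ⦋p⦌) = g.app (op ⦋p⦌))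

include hY in
theorem hom_ext {Z : E} {Δ : SimplexCategory} (a b : Z ⟶ Y.obj (op Δ))
    (h : ∀ (K : SimplexCategory.Truncated n) (θ : K.obj ⟶ Δ), a ≫ ρ εY K θ = b ≫ ρ εY K θ) :
    a = b :=
  (hY (op Δ)).hom_ext (fun j => h j.right.unop j.hom.unop)

/-- the cone defining the homotopy components -/
noncomputable def famCone {Δm Δr : SimplexCategory} (φ : Δr ⟶ Δm) (α : Δr ⟶ ⦋1⦌) :
    Cone (StructuredArrow.proj (op Δr) (Truncated.inclusion n).op ⋙
      ((Truncated.inclusion n).op ⋙ X')) where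
  pt := W.obj (op Δm)
  π :=
    { app := fun j => ρ εW j.right.unop (j.hom.unop ≫ φ) ≫
        c f g j.right.unop.obj (j.hom.unop ≫ α)
      naturality := fun j j' u => by
        have hw : j'.hom.unop = (Truncated.inclusion n).map u.right.unop ≫ j.hom.unop := by
          have := StructuredArrow.w u
          rw [← this]
          rfl
        have hK : j.right.unop.obj.len ≤ n := j.right.unop.property
        have e1 := c_nat f g hfg hK ((Truncated.inclusion n).map u.right.unop) (j.hom.unop ≫ α)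
        have e2 := ρ_map εW u.right.unop (j.hom.unop ≫ φ)
        show 𝟙 _ ≫ (ρ εW j'.right.unop (j'.hom.unop ≫ φ) ≫
            c f g j'.right.unop.obj (j'.hom.unop ≫ α)) =
          (ρ εW j.right.unop (j.hom.unop ≫ φ) ≫ c f g j.right.unop.obj (j.hom.unop ≫ α)) ≫
            X'.map ((Truncated.inclusion n).map u.right.unop).op
        rw [Category.id_comp, Category.assoc, e1, ← Category.assoc, e2, hw, Category.assoc,
          Category.assoc]
        rfl }

/-- the morphism `W_m ⟶ Y_r` attached to an `r`-simplex `(φ, α)` of `Δ[m] × Δ[1]`. -/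
noncomputable def Hm {Δm Δr : SimplexCategory} (φ : Δr ⟶ Δm) (α : Δr ⟶ ⦋1⦌) :
    W.obj (op Δm) ⟶ Y.obj (op Δr) :=
  (hY (op Δr)).lift (famCone εW f g hfg φ α)

theorem Hm_ρ {Δm Δr : SimplexCategory} (φ : Δr ⟶ Δm) (α : Δr ⟶ ⦋1⦌)
    (K : SimplexCategory.Truncated n) (θ : K.obj ⟶ Δr) :
    Hm εW εY hY f g hfg φ α ≫ ρ εY K θ = ρ εW K (θ ≫ φ) ≫ c f g K.obj (θ ≫ α) :=
  (hY (op Δr)).fac (famCone εW f g hfg φ α) (StructuredArrow.mk (Y := op K) θ.op)

theorem Hm_map {Δm Δr Δr' : SimplexCategory} (φ : Δr ⟶ Δm) (α : Δr ⟶ ⦋1⦌) (ψ : Δr' ⟶ Δr) :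
    Hm εW εY hY f g hfg φ α ≫ Y.map ψ.op = Hm εW εY hY f g hfg (ψ ≫ φ) (ψ ≫ α) := by
  apply hom_ext εY hY
  intro K θ
  rw [Category.assoc, map_ρ, Hm_ρ, Hm_ρ, Category.assoc, Category.assoc]

theorem map_Hm {Δm Δm' Δr : SimplexCategory} (φ : Δr ⟶ Δm) (α : Δr ⟶ ⦋1⦌) (χ : Δm ⟶ Δm') :
    W.map χ.op ≫ Hm εW εY hY f g hfg φ α = Hm εW εY hY f g hfg (φ ≫ χ) α := by
  apply hom_ext εY hY
  intro K θ
  rw [Category.assoc, Hm_ρ, Hm_ρ, ← Category.assoc, map_ρ, Category.assoc]

theorem Hm_of_zero (F : W ⟶ Y)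
    (hF : Functor.whiskerLeft (Truncated.inclusion n).op F ≫ εY =
      εW ≫ Functor.whiskerLeft (Truncated.inclusion n).op f)
    {Δm Δr : SimplexCategory} (φ : Δr ⟶ Δm) (α : Δr ⟶ ⦋1⦌)
    (hα : ∀ x, α.toOrderHom x = 0) :
    Hm εW εY hY f g hfg φ α = W.map φ.op ≫ F.app (op Δr) := by
  apply hom_ext εY hY
  intro K θ
  rw [Hm_ρ, c_of_zero f g K.obj (θ ≫ α) (hα _)]
  have h1 := F.naturality θ.op
  have h2 := congrArg (fun t => t.app (op K)) hF
  simp only [NatTrans.comp_app, Functor.whiskerLeft_app] at h2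
  simp only [ρ, Category.assoc, op_comp, Functor.map_comp]
  rw [← reassoc_of% h1]
  congr 2
  exact h2.symm

theorem Hm_of_one (G : W ⟶ Y)
    (hG : Functor.whiskerLeft (Truncated.inclusion n).op G ≫ εY =
      εW ≫ Functor.whiskerLeft (Truncated.inclusion n).op g)
    {Δm Δr : SimplexCategory} (φ : Δr ⟶ Δm) (α : Δr ⟶ ⦋1⦌)
    (hα : ∀ x, α.toOrderHom x ≠ 0) :
    Hm εW εY hY f g hfg φ α = W.map φ.op ≫ G.app (op Δr) := by
  apply hom_ext εY hY
  intro K θ
  rw [Hm_ρ, c_of_ne f g K.obj (θ ≫ α) (hα _)]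
  have h1 := G.naturality θ.op
  have h2 := congrArg (fun t => t.app (op K)) hG
  simp only [NatTrans.comp_app, Functor.whiskerLeft_app] at h2
  simp only [ρ, Category.assoc, op_comp, Functor.map_comp]
  rw [← reassoc_of% h1]
  congr 2
  exact h2.symm

variable (F G : W ⟶ Y)
  (hF : Functor.whiskerLeft (Truncated.inclusion n).op F ≫ εY =
      εW ≫ Functor.whiskerLeft (Truncated.inclusion n).op f)
  (hG : Functor.whiskerLeft (Truncated.inclusion n).op G ≫ εY =
      εW ≫ Functor.whiskerLeft (Truncated.inclusion n).op g)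

/-- the components of the homotopy -/
noncomputable def hh {m : ℕ} (i : Fin (m + 1)) : W _⦋m⦌ ⟶ Y _⦋m + 1⦌ :=
  Hm εW εY hY f g hfg (SimplexCategory.σ i) (SimplexCategory.toMk₁ i.succ.castSucc)

theorem hh_δ {m : ℕ} (i : Fin (m + 1)) (k : Fin (m + 2)) :
    hh εW εY hY f g hfg i ≫ Y.δ k =
      Hm εW εY hY f g hfg (SimplexCategory.δ k ≫ SimplexCategory.σ i)
        (SimplexCategory.δ k ≫ SimplexCategory.toMk₁ i.succ.castSucc) :=
  Hm_map εW εY hY f g hfg _ _ _

theorem hh_σ {m : ℕ} (i : Fin (m + 1)) (k : Fin (m + 2)) :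
    hh εW εY hY f g hfg i ≫ Y.σ k =
      Hm εW εY hY f g hfg (SimplexCategory.σ k ≫ SimplexCategory.σ i)
        (SimplexCategory.σ k ≫ SimplexCategory.toMk₁ i.succ.castSucc) :=
  Hm_map εW εY hY f g hfg _ _ _

theorem δ_hh {m : ℕ} (i : Fin (m + 1)) (k : Fin (m + 2)) :
    W.δ k ≫ hh εW εY hY f g hfg i =
      Hm εW εY hY f g hfg (SimplexCategory.σ i ≫ SimplexCategory.δ k)
        (SimplexCategory.toMk₁ i.succ.castSucc) :=
  map_Hm εW εY hY f g hfg _ _ _

theorem σ_hh {m : ℕ} (i : Fin (m + 2)) (k : Fin (m + 1)) :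
    W.σ k ≫ hh εW εY hY f g hfg i =
      Hm εW εY hY f g hfg (SimplexCategory.σ i ≫ SimplexCategory.σ k)
        (SimplexCategory.toMk₁ i.succ.castSucc) :=
  map_Hm εW εY hY f g hfg _ _ _

include hF hG in
/-- the homotopy -/
noncomputable def htpy : SimplicialObject.Homotopy F G where
  h i := hh εW εY hY f g hfg i
  h_zero_comp_δ_zero m := by
    rw [hh_δ]
    have e1 : SimplexCategory.δ (0 : Fin (m + 2)) ≫ SimplexCategory.σ (0 : Fin (m + 1)) = 𝟙 _ :=
      SimplexCategory.δ_comp_σ_self (i := (0 : Fin (m + 1)))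
    rw [e1, Hm_of_one εW εY hY f g hfg G hG]
    · simp
    · intro x
      rw [SimplexCategory.δ_comp_toMk₁_of_lt _ _ (by simp)]
      intro h
      have := (SimplexCategory.toMk₁_apply_eq_zero_iff _ _).1 h
      simp at this
  h_last_comp_δ_last m := by
    rw [hh_δ]
    have e1 : SimplexCategory.δ (Fin.last (m + 1)) ≫ SimplexCategory.σ (Fin.last m) = 𝟙 _ :=
      SimplexCategory.δ_comp_σ_succ (i := Fin.last m)
    rw [e1, Hm_of_zero εW εY hY f g hfg F hF]
    · simp
    · intro x
      rw [SimplexCategory.δ_comp_toMk₁_of_le _ _ (by simp)]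
      refine (SimplexCategory.toMk₁_apply_eq_zero_iff _ _).2 ?_
      rw [Fin.lt_def]
      have hx : (x : ℕ) < m + 1 := x.2
      simp
      omega
  h_succ_comp_δ_castSucc_of_lt i j hij := by
    rw [hh_δ, δ_hh, SimplexCategory.δ_comp_σ_of_le hij]
    congr 1
    rw [SimplexCategory.δ_comp_toMk₁_of_lt _ _ (by
      rw [Fin.lt_def]
      have := Fin.le_def.1 hij
      simp at this ⊢
      omega)]
    congr 1
  h_succ_comp_δ_castSucc_succ {m} j := by
    rw [hh_δ, hh_δ]
    have e1 : SimplexCategory.δ j.castSucc.succ ≫ SimplexCategory.σ j.succ = 𝟙 _ := by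
      rw [Fin.succ_castSucc]
      exact SimplexCategory.δ_comp_σ_self (i := j.succ)
    have e2 : SimplexCategory.δ j.castSucc.succ ≫ SimplexCategory.σ j.castSucc = 𝟙 _ :=
      SimplexCategory.δ_comp_σ_succ (i := j.castSucc)
    rw [e1, e2]
    congr 1
    rw [SimplexCategory.δ_comp_toMk₁_of_lt _ _ (by
      rw [Fin.lt_def]
      simp), SimplexCategory.δ_comp_toMk₁_of_le _ _ (by
      rw [Fin.le_def]
      try simp)]
    congr 1
  h_castSucc_comp_δ_succ_of_lt i j hji := by
    rw [hh_δ, δ_hh, SimplexCategory.δ_comp_σ_of_gt hji]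
    congr 1
    rw [SimplexCategory.δ_comp_toMk₁_of_le _ _ (by
      rw [Fin.le_def]
      have := Fin.lt_def.1 hji
      simp at this ⊢
      omega)]
    congr 1
  h_comp_σ_castSucc_of_le i j hij := by
    rw [hh_σ, σ_hh, SimplexCategory.σ_comp_σ hij]
    congr 1
    rw [SimplexCategory.σ_comp_toMk₁_of_lt _ _ (by
      rw [Fin.lt_def]
      have := Fin.le_def.1 hij
      simp at this ⊢
      omega)]
    congr 1
  h_comp_σ_succ_of_lt i j hji := by
    rw [hh_σ, σ_hh, SimplexCategory.σ_comp_σ hji]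
    congr 1
    rw [SimplexCategory.σ_comp_toMk₁_of_le _ _ (by
      rw [Fin.le_def]
      have := Fin.le_def.1 hji
      simp at this ⊢
      omega)]
    congr 1

end Hm

section Main

open SimplicialObject

theorem nonempty_homotopy_cosk {E : Type u} [Category.{v} E] [HasFiniteLimits E] (n : ℕ)
    [∀ (F : (SimplexCategory.Truncated n)ᵒᵖ ⥤ E),
      (SimplexCategory.Truncated.inclusion n).op.HasRightKanExtension F]
    {X X' : SimplicialObject E} (f g : X ⟶ X')
    (hfg : ∀ p : ℕ, p < n → f.app (op (SimplexCategory.mk p)) = g.app (op (SimplexCategory.mk p))) :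
    Nonempty (SimplicialObject.Homotopy ((SimplicialObject.cosk n).map f)
      ((SimplicialObject.cosk n).map g)) := by
  let εW := (coskAdj n).counit.app ((truncation n).obj X)
  let εY := (coskAdj n).counit.app ((truncation n).obj X')
  have hKan : Functor.IsRightKanExtension ((SimplicialObject.cosk n).obj X')
      ((coskAdj n).counit.app ((truncation n).obj X')) := inferInstance
  have hpt : (SimplexCategory.Truncated.inclusion n).op.HasPointwiseRightKanExtension
      ((𝟭 (SimplicialObject.Truncated E n)).obj ((truncation n).obj X')) :=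
    hasPointwiseRightKanExtension_inclusion_op n _
  have hY : (Functor.RightExtension.mk ((SimplicialObject.cosk n).obj X')
      εY).IsPointwiseRightKanExtension :=
    @Functor.isPointwiseRightKanExtensionOfIsRightKanExtension _ _ _ _ _ _ _ _ hpt _ εY hKan
  refine ⟨htpy εW εY hY f g hfg _ _ ?_ ?_⟩
  · exact (coskAdj n).counit.naturality ((truncation n).map f)
  · exact (coskAdj n).counit.naturality ((truncation n).map g)

end Main

end Groth.Agent.Lib.Helper33.CoskHtpy
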