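import Groth.Agent.Lib.Helper33.DeltaSS
import Groth.Agent.Lib.Helper33.GrothSS

/-!
# `ℕ`-indexed version of `DeltaSS.exists_ss` (helper33)
-/

set_option autoImplicit false

universe v' v'' u' u''

open CategoryTheory CategoryTheory.Limits
open scoped ZeroObject

namespace Groth.Agent.Lib.Helper33.DeltaSS

open Groth.Agent.Lib.Helper33.GrothSS

variable {C' : Type u'} {C'' : Type u''} [Category.{v'} C'] [Category.{v''} C''] [Abelian C']
  [Abelian C''] (T : DeltaF.CohDeltaFunctor C' C'' ℕ) [PreservesFiniteLimits (T.F 0)]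

/-- **The spectral sequence of an `ℕ`-indexed cochain complex of `T`-acyclic objects**:
`E_2^{p,q} = T^p(H^q K) ⇒ H^{p+q}(T^0 K)`. -/
theorem nat_ss (K : CochainComplex C' ℕ)
    (hac : ∀ (q k : ℕ), 0 < k → IsZero ((T.F k).obj (K.X q)))
    (H : ℕ → C'')
    (eH : ∀ n, Nonempty ((((T.F 0).mapHomologicalComplex (ComplexShape.up ℕ)).obj K).homology n ≅
      H n))
    (E₂ : ℕ → ℕ → C'')
    (eE : ∀ p q, Nonempty ((T.F p).obj (K.homology q) ≅ E₂ p q)) :
    ∃ (E : E₂CohomologicalSpectralSequence C'')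
      (a : SpSeq.Abutment E (fun n : ℤ => if 0 ≤ n then H n.toNat else 0)),
      (∀ n, a.IsFinite n) ∧ SpSeq.IsBounded E ∧
      ∀ p q : ℤ, Nonempty ((E.page 2 le_rfl).X (p, q) ≅
        (if 0 ≤ p ∧ 0 ≤ q then E₂ p.toNat q.toNat else 0)) := by
  have hf : ∀ j : ℕ, ComplexShape.embeddingUpNat.f j = (j : ℤ) := fun _ => rfl
  have hK' : ∀ q : ℤ, q < 0 → IsZero ((K.extend ComplexShape.embeddingUpNat).X q) := by
    intro q hq
    refine K.isZero_extend_X _ q (fun j hj => ?_)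
    rw [hf] at hj
    omega
  have hac' : ∀ (q : ℤ) (k : ℕ), 0 < k →
      IsZero ((T.F k).obj ((K.extend ComplexShape.embeddingUpNat).X q)) := by
    intro q k hk
    by_cases hq : 0 ≤ q
    · obtain ⟨j, rfl⟩ := Int.eq_ofNat_of_zero_le hq
      exact IsZero.of_iso (hac j k hk)
        ((T.F k).mapIso (K.extendXIso ComplexShape.embeddingUpNat (hf j)))
    · exact (T.F k).map_isZero (hK' q (not_le.1 hq))
  have eH' : ∀ n : ℤ, Nonempty ((((T.F 0).mapHomologicalComplex (ComplexShape.up ℤ)).obj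
      (K.extend ComplexShape.embeddingUpNat)).homology n ≅ (if 0 ≤ n then H n.toNat else 0)) := by
    intro n
    by_cases hn : 0 ≤ n
    · obtain ⟨j, rfl⟩ := Int.eq_ofNat_of_zero_le hn
      obtain ⟨e₀⟩ := eH j
      rw [if_pos hn, Int.toNat_natCast]
      exact ⟨(HomologicalComplex.homologyFunctor C'' _ (j : ℤ)).mapIso
          (mapExtendIso (T.F 0) K ComplexShape.embeddingUpNat) ≪≫
        (((T.F 0).mapHomologicalComplex (ComplexShape.up ℕ)).obj K).extendHomologyIso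
          ComplexShape.embeddingUpNat (hf j) ≪≫ e₀⟩
    · rw [if_neg hn]
      exact ⟨(ShortComplex.isZero_homology_of_isZero_X₂ _
        ((T.F 0).map_isZero (hK' n (not_le.1 hn)))).iso (isZero_zero _)⟩
  have eE' : ∀ (p : ℕ) (q : ℤ), Nonempty ((T.F p).obj
      ((K.extend ComplexShape.embeddingUpNat).homology q) ≅
      (if 0 ≤ (p : ℤ) ∧ 0 ≤ q then E₂ (p : ℤ).toNat q.toNat else 0)) := by
    intro p q
    by_cases hq : 0 ≤ q
    · obtain ⟨j, rfl⟩ := Int.eq_ofNat_of_zero_le hq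
      obtain ⟨e₀⟩ := eE p j
      rw [if_pos ⟨Int.natCast_nonneg p, hq⟩, Int.toNat_natCast, Int.toNat_natCast]
      exact ⟨(T.F p).mapIso
        (K.extendHomologyIso ComplexShape.embeddingUpNat (hf j)) ≪≫ e₀⟩
    · rw [if_neg (fun h => hq h.2)]
      exact ⟨((T.F p).map_isZero (ShortComplex.isZero_homology_of_isZero_X₂ _
        (hK' q (not_le.1 hq)))).iso (isZero_zero _)⟩
  obtain ⟨E, a, h1, h2, h3⟩ := exists_ss (K.extend ComplexShape.embeddingUpNat) T
    hac' hK' (fun n : ℤ => if 0 ≤ n then H n.toNat else 0) eH'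
    (fun pq : ℤ × ℤ => if 0 ≤ pq.1 ∧ 0 ≤ pq.2 then E₂ pq.1.toNat pq.2.toNat else 0)
    eE' (fun pq hpq => by
      rw [if_neg (fun h => absurd h.1 (not_le.2 hpq))]
      exact isZero_zero _)
  exact ⟨E, a, h1, h2, fun p q => h3 (p, q)⟩

end Groth.Agent.Lib.Helper33.DeltaSS
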