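import Groth.Agent.Lib.Helper33.EtConstGeneric

/-!
# Constant étale sheaves on normal schemes and quasi-compact dense opens (helper33)

* `exists_clopen_partition`: (topology) finitely many disjoint compact opens with dense union in a
  "unibranch" space in which closures of compact opens consist of specializations have pairwise
  disjoint clopen closures covering the space;
* `exists_specializes_of_mem_closure`: closures of compact opens in a prime spectrum consist of
  specializations;
* `isIso_unit_const_of_dense`: for a normal scheme `X` and a quasi-compact open immersion `j` with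
  dense range, `M_X ⟶ j_* j⁻¹ M_X` is an isomorphism.
-/

set_option autoImplicit false
universe u
open CategoryTheory CategoryTheory.Limits AlgebraicGeometry Opposite

namespace Groth.Agent.Lib.Helper33.EtConstDense
open Groth.Agent.Lib.Helper43.EtOpenSub Groth.Agent.Lib.Helper33.EtExcision
open Groth.Agent.Lib.Helper43.ConstSheaf Groth.Agent.Lib.Helper33.EtConstNormal
open Groth.Agent.Lib.Helper33.EtConstGeneric

section Topology

/-- clopen partition from a finite disjoint family of compact opens with dense union -/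
theorem exists_clopen_partition {N : Type*} [TopologicalSpace N]
    (hA : ∀ y : N, ∃ ξ : N, ∀ w : N, w ⤳ y → ξ ⤳ w)
    (hB : ∀ W : Set N, IsOpen W → IsCompact W → ∀ y ∈ closure W, ∃ w ∈ W, w ⤳ y)
    {ι : Type*} [Finite ι] (W : ι → Set N) (hWo : ∀ i, IsOpen (W i))
    (hWc : ∀ i, IsCompact (W i)) (hdisj : ∀ i j, i ≠ j → Disjoint (W i) (W j))
    (hdense : Dense (⋃ i, W i)) :
    (∀ i, IsOpen (closure (W i))) ∧
      (∀ i j, i ≠ j → Disjoint (closure (W i)) (closure (W j))) ∧
      (⋃ i, closure (W i)) = Set.univ := by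
  have hd : ∀ i j, i ≠ j → Disjoint (closure (W i)) (closure (W j)) := by
    intro i j hij
    rw [Set.disjoint_left]
    intro y hyi hyj
    obtain ⟨wi, hwi, hwiy⟩ := hB (W i) (hWo i) (hWc i) y hyi
    obtain ⟨wj, hwj, hwjy⟩ := hB (W j) (hWo j) (hWc j) y hyj
    obtain ⟨ξ, hξ⟩ := hA y
    have h1 : ξ ∈ W i := (hξ wi hwiy).mem_open (hWo i) hwi
    have h2 : ξ ∈ W j := (hξ wj hwjy).mem_open (hWo j) hwj
    exact (Set.disjoint_left.1 (hdisj i j hij)) h1 h2
  have hu : (⋃ i, closure (W i)) = Set.univ := by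
    rw [← closure_iUnion_of_finite]
    exact hdense.closure_eq
  refine ⟨?_, hd, hu⟩
  intro i
  have hc : IsClosed (⋃ j : {j : ι // j ≠ i}, closure (W j.1)) :=
    isClosed_iUnion_of_finite (fun _ => isClosed_closure)
  have he : closure (W i) = (⋃ j : {j : ι // j ≠ i}, closure (W j.1))ᶜ := by
    ext y
    simp only [Set.mem_compl_iff, Set.mem_iUnion, not_exists]
    constructor
    · intro hy j hj
      exact (Set.disjoint_left.1 (hd i j.1 (Ne.symm j.2))) hy hj
    · intro hy
      have : y ∈ ⋃ i, closure (W i) := hu ▸ Set.mem_univ y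
      obtain ⟨j, hj⟩ := Set.mem_iUnion.1 this
      by_cases hji : j = i
      · exact hji ▸ hj
      · exact (hy ⟨j, hji⟩ hj).elim
  rw [he]
  exact hc.isOpen_compl

/-- the closure of a basic open in a prime spectrum consists of specializations -/
lemma exists_specializes_basicOpen {B : Type*} [CommRing B] (f : B) (y : PrimeSpectrum B)
    (hy : y ∈ closure (PrimeSpectrum.basicOpen f : Set (PrimeSpectrum B))) :
    ∃ w ∈ (PrimeSpectrum.basicOpen f : Set (PrimeSpectrum B)), w ⤳ y := by
  rw [← PrimeSpectrum.localization_away_comap_range (Localization.Away f) f,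
    PrimeSpectrum.closure_range_comap] at hy
  have hy' : RingHom.ker (algebraMap B (Localization.Away f)) ≤ y.asIdeal := hy
  obtain ⟨q, hq, hqy⟩ := Ideal.exists_minimalPrimes_le hy'
  have hq' : q ∈ ((⊥ : Ideal (Localization.Away f)).comap
      (algebraMap B (Localization.Away f))).minimalPrimes := by
    rw [← RingHom.ker_eq_comap_bot]
    exact hq
  obtain ⟨p', hp', -, hpq⟩ := Ideal.exists_comap_eq_of_mem_minimalPrimes
    (algebraMap B (Localization.Away f)) q hq'
  have hqprime : q.IsPrime := hq.1.1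
  refine ⟨⟨q, hqprime⟩, ?_, ?_⟩
  · rw [← PrimeSpectrum.localization_away_comap_range (Localization.Away f) f]
    exact ⟨⟨p', hp'⟩, PrimeSpectrum.ext hpq⟩
  · exact (PrimeSpectrum.le_iff_specializes _ _).1 hqy

/-- the closure of a compact open in a prime spectrum consists of specializations -/
theorem exists_specializes_of_mem_closure {B : Type*} [CommRing B] (W : Set (PrimeSpectrum B))
    (hWo : IsOpen W) (hWc : IsCompact W) (y : PrimeSpectrum B) (hy : y ∈ closure W) :
    ∃ w ∈ W, w ⤳ y := by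
  obtain ⟨t, rfl⟩ := PrimeSpectrum.isCompact_isOpen_iff.1 ⟨hWc, hWo⟩
  have h1 : (PrimeSpectrum.zeroLocus (t : Set B))ᶜ =
      ⋃ f ∈ t, (PrimeSpectrum.basicOpen f : Set (PrimeSpectrum B)) := by
    ext x
    simp only [Set.mem_compl_iff, PrimeSpectrum.mem_zeroLocus, Set.mem_iUnion,
      PrimeSpectrum.mem_basicOpen, SetLike.mem_coe, Set.not_subset]
    constructor
    · rintro ⟨f, hf, hfx⟩
      exact ⟨f, hf, hfx⟩
    · rintro ⟨f, hf, hfx⟩
      exact ⟨f, hf, hfx⟩
  rw [h1, Finset.closure_biUnion] at hy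
  obtain ⟨f, hf⟩ := Set.mem_iUnion.1 hy
  obtain ⟨hft, hf'⟩ := Set.mem_iUnion.1 hf
  obtain ⟨w, hw, hwy⟩ := exists_specializes_basicOpen f y hf'
  refine ⟨w, ?_, hwy⟩
  rw [h1]
  exact Set.mem_iUnion.2 ⟨f, Set.mem_iUnion.2 ⟨hft, hw⟩⟩

/-- in the spectrum of a ring with domain localizations, the generizations of a point have a
least element -/
theorem exists_forall_specializes {B : Type*} [CommRing B]
    (hdom : ∀ (p : Ideal B) [p.IsPrime], IsDomain (Localization.AtPrime p))
    (y : PrimeSpectrum B) : ∃ ξ : PrimeSpectrum B, ∀ w : PrimeSpectrum B, w ⤳ y → ξ ⤳ w := by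
  have := hdom y.asIdeal
  let k : Ideal B := RingHom.ker (algebraMap B (Localization.AtPrime y.asIdeal))
  have hkprime : k.IsPrime := RingHom.ker_isPrime _
  refine ⟨⟨k, hkprime⟩, ?_⟩
  intro w hw
  rw [← PrimeSpectrum.le_iff_specializes] at hw ⊢
  intro a ha
  have ha' : algebraMap B (Localization.AtPrime y.asIdeal) a = 0 := ha
  rw [IsLocalization.map_eq_zero_iff y.asIdeal.primeCompl] at ha'
  obtain ⟨s, hs⟩ := ha'
  have hsq : (s : B) ∉ w.asIdeal := fun h => s.2 (hw h)
  exact (w.isPrime.mem_or_mem (hs ▸ w.asIdeal.zero_mem)).resolve_left hsq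

end Topology

section Values

variable {Z : Scheme.{u}} (M : AddCommGrpCat.{u + 1}) {B₁ : Z.Etale}
  (t : (K.{u + 1} Z.smallEtaleTopology M).obj.obj (op B₁))

/-- the locus where the section `t` of a constant sheaf takes the value `m` -/
def valSet (m : M) : Set B₁.left :=
  {w | ∃ (T : Z.Etale) (f : T ⟶ B₁) (τ : T.left), f.left τ = w ∧
    (K.{u + 1} Z.smallEtaleTopology M).obj.map f.op t = cst.{u + 1} Z.smallEtaleTopology M T m}

lemma isOpen_valSet (m : M) : IsOpen (valSet M t m) := by
  rw [isOpen_iff_forall_mem_open]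
  rintro w ⟨T, f, τ, rfl, hf⟩
  refine ⟨Set.range f.left, ?_, f.left.isOpenMap.isOpen_range, ⟨τ, rfl⟩⟩
  rintro _ ⟨τ', rfl⟩
  exact ⟨T, f, τ', rfl, hf⟩

lemma valSet_disjoint {m m' : M} (h : m ≠ m') : Disjoint (valSet M t m) (valSet M t m') := by
  rw [Set.disjoint_left]
  rintro w ⟨T, f, τ, rfl, hf⟩ ⟨T', f', τ', hτ', hf'⟩
  apply h
  obtain ⟨z, -, -⟩ := Scheme.Pullback.exists_preimage_pullback (f := f.left) (g := f'.left)
    τ τ' hτ'.symm
  let T'' : Z.Etale := Scheme.Etale.mk (pullback.fst f.left f'.left ≫ T.hom)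
  let p₁ : T'' ⟶ T := MorphismProperty.Over.homMk (pullback.fst f.left f'.left) rfl
  let p₂ : T'' ⟶ T' := MorphismProperty.Over.homMk (pullback.snd f.left f'.left)
    ((congrArg (pullback.snd f.left f'.left ≫ ·) (MorphismProperty.Over.w f').symm).trans
      ((Category.assoc _ _ _).symm.trans
        ((congrArg (· ≫ B₁.hom) (pullback.condition (f := f.left) (g := f'.left)).symm).trans
          ((Category.assoc _ _ _).trans
            (congrArg (pullback.fst f.left f'.left ≫ ·) (MorphismProperty.Over.w f))))))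
  have hp : p₁ ≫ f = p₂ ≫ f' := by
    apply MorphismProperty.Over.Hom.ext
    exact pullback.condition
  have : Nonempty T''.left := ⟨z⟩
  apply cst_injective_of_nonempty M T''
  rw [← cst_map.{u + 1} Z.smallEtaleTopology M p₁ m, ← hf, ← map_comp_apply, hp,
    map_comp_apply, hf', cst_map]

lemma iUnion_valSet : (⋃ m, valSet M t m) = Set.univ := by
  rw [Set.eq_univ_iff_forall]
  intro w
  obtain ⟨S, hS, hloc⟩ := locally_cst.{u + 1} Z.smallEtaleTopology M t
  obtain ⟨T, f, τ, hf, hτ⟩ := (mem_smallEtaleTopology_iff' B₁ S).1 hS w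
  obtain ⟨m, hm⟩ := hloc f hf
  exact Set.mem_iUnion.2 ⟨m, T, f, τ, hτ, hm⟩

/-- a section is constant on an étale scheme mapping into one of its value sets -/
lemma map_eq_cst_of_forall_mem (m : M) {A : Z.Etale} (a : A ⟶ B₁)
    (ha : ∀ x : A.left, a.left x ∈ valSet M t m) :
    (K.{u + 1} Z.smallEtaleTopology M).obj.map a.op t =
      cst.{u + 1} Z.smallEtaleTopology M A m := by
  obtain ⟨S, hS, hloc⟩ := locally_cst.{u + 1} Z.smallEtaleTopology M t
  refine Sheaf.isSeparated (K.{u + 1} Z.smallEtaleTopology M) A (S.pullback a)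
    (Z.smallEtaleTopology.pullback_stable a hS) _ _ ?_
  intro T' g hg
  obtain ⟨m'', hm''⟩ := hloc (g ≫ a) hg
  rw [← map_comp_apply, hm'', cst_map]
  by_cases hT : IsEmpty T'.left
  · exact (eq_zero_of_isEmpty _ T' _).trans (eq_zero_of_isEmpty _ T' _).symm
  · obtain ⟨τ⟩ := not_isEmpty_iff.1 hT
    have h1 : (g ≫ a).left τ ∈ valSet M t m'' := ⟨T', g ≫ a, τ, rfl, hm''⟩
    have h2 : (g ≫ a).left τ ∈ valSet M t m := ha (g.left τ)
    by_contra hne
    have hne' : m'' ≠ m := fun h => hne (by rw [h])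
    exact (Set.disjoint_left.1 (valSet_disjoint M t hne')) h1 h2

end Values

section Glue

variable {X : Scheme.{u}} (M : AddCommGrpCat.{u + 1}) (N₁ : X.Etale)
  {ι : Type*} (C : ι → Set N₁.left)

/-- the sieve of étale maps landing in one of the pieces `C i` -/
def pieceSieve : Sieve N₁ where
  arrows T f := ∃ i, Set.range f.left ⊆ C i
  downward_closed := by
    rintro T T' f ⟨i, hi⟩ g
    refine ⟨i, ?_⟩
    rintro _ ⟨x, rfl⟩
    exact hi ⟨g.left x, rfl⟩

variable (hCo : ∀ i, IsOpen (C i)) (hCd : ∀ i j, i ≠ j → Disjoint (C i) (C j))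
  (hCu : (⋃ i, C i) = Set.univ)

include hCo hCu in
lemma pieceSieve_mem : pieceSieve N₁ C ∈ X.smallEtaleTopology N₁ := by
  rw [mem_smallEtaleTopology_iff']
  intro x
  have hx : x ∈ ⋃ i, C i := hCu ▸ Set.mem_univ x
  obtain ⟨i, hi⟩ := Set.mem_iUnion.1 hx
  let Y : Scheme.{u} := N₁.left
  let f₀ : Y ⟶ X := N₁.hom
  have hf₀ : Etale f₀ := N₁.prop
  let O : Y.Opens := ⟨C i, hCo i⟩
  let T : X.Etale := Scheme.Etale.mk (O.ι ≫ f₀)
  let f : T ⟶ N₁ := MorphismProperty.Over.homMk O.ι rfl
  refine ⟨T, f, ⟨x, hi⟩, ⟨i, ?_⟩, rfl⟩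
  rintro _ ⟨y, rfl⟩
  exact y.2

include hCo hCd hCu in
/-- gluing constant sections along an open partition -/
theorem exists_glue_cst (val : ι → M) :
    ∃ s : (K.{u + 1} X.smallEtaleTopology M).obj.obj (op N₁),
      ∀ (i : ι) (T : X.Etale) (f : T ⟶ N₁), Set.range f.left ⊆ C i →
        (K.{u + 1} X.smallEtaleTopology M).obj.map f.op s =
          cst.{u + 1} X.smallEtaleTopology M T (val i) := by
  classical
  have hsh : Presieve.IsSheaf X.smallEtaleTopology
      ((K.{u + 1} X.smallEtaleTopology M).obj ⋙ forget AddCommGrpCat.{u + 1}) :=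
    (isSheaf_iff_isSheaf_of_type _ _).1
      ((sheafCompose X.smallEtaleTopology (forget AddCommGrpCat.{u + 1})).obj
        (K.{u + 1} X.smallEtaleTopology M)).2
  let fam : Presieve.FamilyOfElements
      ((K.{u + 1} X.smallEtaleTopology M).obj ⋙ forget AddCommGrpCat.{u + 1})
      (pieceSieve N₁ C).arrows := fun T f hf =>
    cst.{u + 1} X.smallEtaleTopology M T (val hf.choose)
  have huniq : ∀ {T : X.Etale} (f : T ⟶ N₁) (τ : T.left) (i i' : ι),
      Set.range f.left ⊆ C i → Set.range f.left ⊆ C i' → i = i' := by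
    intro T f τ i i' h h'
    by_contra hne
    exact (Set.disjoint_left.1 (hCd i i' hne)) (h ⟨τ, rfl⟩) (h' ⟨τ, rfl⟩)
  have hcomp : fam.Compatible := by
    intro T₁ T₂ Z g₁ g₂ f₁ f₂ h₁ h₂ hcomm
    by_cases hZ : IsEmpty Z.left
    · exact (eq_zero_of_isEmpty _ Z _).trans (eq_zero_of_isEmpty _ Z _).symm
    · obtain ⟨z⟩ := not_isEmpty_iff.1 hZ
      have e1 : h₁.choose = h₂.choose := by
        have a1 : Set.range (g₁ ≫ f₁).left ⊆ C h₁.choose := by
          rintro _ ⟨x, rfl⟩
          exact h₁.choose_spec ⟨g₁.left x, rfl⟩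
        have a2 : Set.range (g₁ ≫ f₁).left ⊆ C h₂.choose := by
          rw [hcomm]
          rintro _ ⟨x, rfl⟩
          exact h₂.choose_spec ⟨g₂.left x, rfl⟩
        exact huniq (g₁ ≫ f₁) z _ _ a1 a2
      show (K.{u + 1} X.smallEtaleTopology M).obj.map g₁.op
          (cst.{u + 1} X.smallEtaleTopology M T₁ (val h₁.choose)) =
        (K.{u + 1} X.smallEtaleTopology M).obj.map g₂.op
          (cst.{u + 1} X.smallEtaleTopology M T₂ (val h₂.choose))
      rw [e1, cst_map, cst_map]
  obtain ⟨s, hs, -⟩ := hsh _ (pieceSieve_mem N₁ C hCo hCu) fam hcomp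
  refine ⟨s, ?_⟩
  intro i T f hf
  have hmem : (pieceSieve N₁ C).arrows f := ⟨i, hf⟩
  have h1 : (K.{u + 1} X.smallEtaleTopology M).obj.map f.op s =
      cst.{u + 1} X.smallEtaleTopology M T (val hmem.choose) := hs f hmem
  rw [h1]
  by_cases hT : IsEmpty T.left
  · exact (eq_zero_of_isEmpty _ T _).trans (eq_zero_of_isEmpty _ T _).symm
  · obtain ⟨τ⟩ := not_isEmpty_iff.1 hT
    rw [huniq f τ _ _ hmem.choose_spec hf]

end Glue

section Extension

variable {X U : Scheme.{u}} (j : U ⟶ X) [IsOpenImmersion j] [QuasiCompact j]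
  (hj : Dense (Set.range j)) (M : AddCommGrpCat.{u + 1})

include hj in
/-- **Extension of sections.** Over an affine étale `X`-scheme `Spec B` with `B` a ring with
domain localizations, every section of `M_U` over the part above a quasi-compact dense open `U`
extends to a section of `M_X`. -/
theorem exists_extension (B : CommRingCat.{u})
    (hdom : ∀ (p : Ideal B) [p.IsPrime], IsDomain (Localization.AtPrime p))
    (φ : Spec B ⟶ X) [Etale φ]
    (t : (K.{u + 1} U.smallEtaleTopology M).obj.obj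
      (op ((EtCoh.bc j).obj (Scheme.Etale.mk φ)))) :
    ∃ s : (K.{u + 1} X.smallEtaleTopology M).obj.obj (op (Scheme.Etale.mk φ)),
      (cmp j M).hom.app (op (Scheme.Etale.mk φ)) s = t := by
  classical
  let N₁ : X.Etale := Scheme.Etale.mk φ
  let B₁ : U.Etale := (EtCoh.bc j).obj N₁
  let p : B₁.left ⟶ Spec B := pullback.fst φ j
  have hpoi : IsOpenImmersion p := inferInstanceAs (IsOpenImmersion (pullback.fst φ j))
  have hpinj : Function.Injective p := p.isOpenEmbedding.injective
  have hcpt : CompactSpace B₁.left := inferInstanceAs (CompactSpace ↑(pullback φ j))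
  have hpd : Dense (Set.range p) := by
    have : Set.range p = φ ⁻¹' Set.range j := Scheme.Pullback.range_fst φ j
    rw [this]
    exact hj.preimage φ.isOpenMap
  -- finitely many values
  obtain ⟨F₀, hF₀⟩ := isCompact_univ.elim_finite_subcover (fun m => valSet M t m)
    (isOpen_valSet M t) (by rw [iUnion_valSet])
  have hmemF : ∀ w : B₁.left, ∃ m ∈ F₀, w ∈ valSet M t m := by
    intro w
    have := hF₀ (Set.mem_univ w)
    simpa using this
  let ι := {m : M // m ∈ F₀}
  let W : ι → Set (Spec B) := fun i => p '' valSet M t i.1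
  have hWo : ∀ i, IsOpen (W i) := fun i => p.isOpenEmbedding.isOpenMap _ (isOpen_valSet M t i.1)
  have hclosed : ∀ m : M, IsClosed (valSet M t m) := by
    intro m
    have he : valSet M t m = (⋃ m' : {m' : M // m' ≠ m}, valSet M t m'.1)ᶜ := by
      ext w
      simp only [Set.mem_compl_iff, Set.mem_iUnion, not_exists]
      constructor
      · intro hw m' hm'
        exact (Set.disjoint_left.1 (valSet_disjoint M t (Ne.symm m'.2))) hw hm'
      · intro hw
        have : w ∈ ⋃ m, valSet M t m := (iUnion_valSet M t) ▸ Set.mem_univ w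
        obtain ⟨m', hm'⟩ := Set.mem_iUnion.1 this
        by_cases h : m' = m
        · exact h ▸ hm'
        · exact (hw ⟨m', h⟩ hm').elim
    rw [he]
    exact (isOpen_iUnion (fun m' : {m' : M // m' ≠ m} => isOpen_valSet M t m'.1)).isClosed_compl
  have hWc : ∀ i, IsCompact (W i) := fun i => ((hclosed i.1).isCompact).image p.continuous
  have hWd : ∀ i i', i ≠ i' → Disjoint (W i) (W i') := by
    intro i i' hne
    rw [Set.disjoint_image_iff hpinj]
    exact valSet_disjoint M t (fun h => hne (Subtype.ext h))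
  have hWdense : Dense (⋃ i, W i) := by
    have : (⋃ i, W i) = Set.range p := by
      ext y
      simp only [Set.mem_iUnion, Set.mem_range, W, Set.mem_image]
      constructor
      · rintro ⟨i, w, -, rfl⟩
        exact ⟨w, rfl⟩
      · rintro ⟨w, rfl⟩
        obtain ⟨m, hm, hw⟩ := hmemF w
        exact ⟨⟨m, hm⟩, w, hw, rfl⟩
    rw [this]
    exact hpd
  obtain ⟨hCo, hCd, hCu⟩ := exists_clopen_partition (N := Spec B)
    (exists_forall_specializes hdom)
    (fun W' hW'o hW'c y hy => exists_specializes_of_mem_closure W' hW'o hW'c y hy)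
    W hWo hWc hWd hWdense
  let C : ι → Set N₁.left := fun i => closure (W i)
  obtain ⟨s, hs⟩ := exists_glue_cst M N₁ C hCo hCd hCu (fun i => i.1)
  refine ⟨s, ?_⟩
  -- compare on the pushed forward sieve
  refine Sheaf.isSeparated (K.{u + 1} U.smallEtaleTopology M) B₁
    ((pieceSieve N₁ C).functorPushforward (EtCoh.bc j))
    ((EtCoh.coverPreserving_bc j).cover_preserve (pieceSieve_mem N₁ C hCo hCu)) _ _ ?_
  rintro T f ⟨N', g', l, ⟨i, hi⟩, rfl⟩
  have hL : (K.{u + 1} U.smallEtaleTopology M).obj.map (l ≫ (EtCoh.bc j).map g').op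
      ((cmp j M).hom.app (op N₁) s) = cst.{u + 1} U.smallEtaleTopology M T i.1 := by
    rw [map_comp_apply, ← cmp_map_apply, hs i N' g' hi, cmp_cst, cst_map]
  have hR : (K.{u + 1} U.smallEtaleTopology M).obj.map (l ≫ (EtCoh.bc j).map g').op t =
      cst.{u + 1} U.smallEtaleTopology M T i.1 := by
    apply map_eq_cst_of_forall_mem
    intro x
    let w : B₁.left := (l ≫ (EtCoh.bc j).map g').left x
    obtain ⟨m₀, hm₀, hw⟩ := hmemF w
    have h1 : p w ∈ C ⟨m₀, hm₀⟩ := subset_closure ⟨w, hw, rfl⟩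
    have h2 : p w ∈ C i := by
      have hsq := (EtCoh.isPullback_bc_map j g').w
      have : p w = g'.left ((pullback.fst N'.hom j : ((EtCoh.bc j).obj N').left ⟶ N'.left)
          (l.left x)) := by
        have := congrArg (fun ψ => ψ (l.left x)) hsq
        exact this
      rw [this]
      exact hi ⟨_, rfl⟩
    have hii : (⟨m₀, hm₀⟩ : ι) = i := by
      by_contra hne
      exact (Set.disjoint_left.1 (hCd _ _ hne)) h1 h2
    rw [← hii]
    exact hw
  exact hL.trans hR.symm

end Extension

section Main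

/-- sections over an affine open of a normal scheme form a normal ring -/
theorem isNormalRing_of_isAffineOpen {X : Scheme.{u}}
    (hX : ∀ x : X, IsDomain (X.presheaf.stalk x) ∧ IsIntegrallyClosed (X.presheaf.stalk x))
    {W : X.Opens} (hW : IsAffineOpen W) : EGA4.IsNormalRing Γ(X, W) := by
  intro p hp
  let y : PrimeSpectrum Γ(X, W) := ⟨p, hp⟩
  have hy : hW.fromSpec y ∈ W := (hW.isoSpec.inv _).2
  let _ := TopCat.Presheaf.algebra_section_stalk X.presheaf ⟨hW.fromSpec y, hy⟩
  have hloc : IsLocalization.AtPrime (X.presheaf.stalk (hW.fromSpec y)) p :=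
    hW.isLocalization_stalk' y hy
  let e : Localization.AtPrime p ≃ₐ[Γ(X, W)] X.presheaf.stalk (hW.fromSpec y) :=
    IsLocalization.algEquiv p.primeCompl _ _
  exact Groth.Agent.Lib.Helper24.isDomain_and_isIntegrallyClosed_of_ringEquiv
    e.symm.toRingEquiv (hX _)

variable {X U : Scheme.{u}} (j : U ⟶ X) [IsOpenImmersion j] [QuasiCompact j]
  (hj : Dense (Set.range j))
  (hX : ∀ x : X, IsDomain (X.presheaf.stalk x) ∧ IsIntegrallyClosed (X.presheaf.stalk x))

include hj hX in
/-- **Constant sheaves on normal schemes, dense quasi-compact opens.** -/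
theorem isIso_unit_const_of_dense (M : AddCommGrpCat.{u + 1}) :
    IsIso ((EtCoh.pullPushAdj j).unit.app (K.{u + 1} X.smallEtaleTopology M)) := by
  have h1 : ∀ T : X.Etale, Nonempty T.left → Nonempty ((EtCoh.bc j).obj T).left := by
    intro T hT
    obtain ⟨τ⟩ := hT
    let f : T.left ⟶ X := T.hom
    have hf : Etale f := T.prop
    have ho : IsOpen (Set.range f : Set X) := f.isOpenMap.isOpen_range
    obtain ⟨x, ⟨τ', hτ'⟩, ⟨u', hu'⟩⟩ := hj.inter_open_nonempty _ ho ⟨f τ, ⟨τ, rfl⟩⟩
    obtain ⟨z, -, -⟩ := Scheme.Pullback.exists_preimage_pullback (f := f) (g := j) τ' u'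
      (hτ'.trans hu'.symm)
    exact ⟨z⟩
  have hmono : Mono (cmp j M) := by
    have : ∀ W : (X.Etale)ᵒᵖ, Mono ((cmp j M).hom.app W) := fun W =>
      (AddCommGrpCat.mono_iff_injective _).mpr (cmp_injective j h1 M W.unop)
    have : Mono (cmp j M).hom := NatTrans.mono_of_mono_app _
    exact Sheaf.Hom.mono_of_presheaf_mono _ _ _
  have hls : Presheaf.IsLocallySurjective X.smallEtaleTopology (cmp j M).hom := by
    constructor
    intro V t
    rw [mem_smallEtaleTopology_iff']
    intro v
    let f : V.left ⟶ X := V.hom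
    have hf : Etale f := V.prop
    obtain ⟨_, ⟨W₀, hW₀, rfl⟩, hy0, -⟩ :=
      X.isBasis_affineOpens.exists_subset_of_mem_open (Set.mem_univ (f v)) isOpen_univ
    obtain ⟨_, ⟨W₁, hW₁, rfl⟩, hy1, hle⟩ :=
      V.left.isBasis_affineOpens.exists_subset_of_mem_open
        (show v ∈ (f ⁻¹ᵁ W₀ : Set V.left) from hy0) (f ⁻¹ᵁ W₀).isOpen
    have e : W₁ ≤ f ⁻¹ᵁ W₀ := hle
    have het : RingHom.Etale (f.appLE W₀ W₁ e).hom :=
      HasRingHomProperty.appLE (P := @Etale) f inferInstance ⟨W₀, hW₀⟩ ⟨W₁, hW₁⟩ e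
    algebraize [(f.appLE W₀ W₁ e).hom]
    have hA : EGA4.IsNormalRing Γ(X, W₀) := isNormalRing_of_isAffineOpen hX hW₀
    have hB : EGA4.IsNormalRing Γ(V.left, W₁) :=
      Groth.Agent.Lib.Helper24.isNormalRing_of_smooth Γ(X, W₀) Γ(V.left, W₁) hA
    let φ : Spec Γ(V.left, W₁) ⟶ X := hW₁.fromSpec ≫ f
    have hφ : Etale φ := inferInstanceAs (Etale (hW₁.fromSpec ≫ f))
    let N : X.Etale := Scheme.Etale.mk φ
    let k : N ⟶ V := MorphismProperty.Over.homMk hW₁.fromSpec rfl
    refine ⟨N, k, hW₁.primeIdealOf ⟨v, hy1⟩, ?_, hW₁.fromSpec_primeIdealOf ⟨v, hy1⟩⟩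
    obtain ⟨s, hs⟩ := exists_extension j hj M Γ(V.left, W₁) (fun p _ => (hB p).1) φ
      ((K.{u + 1} U.smallEtaleTopology M).obj.map ((EtCoh.bc j).map k).op t)
    exact ⟨s, hs⟩
  have hepi : Epi (cmp j M) := by
    have h' : Sheaf.IsLocallySurjective (cmp j M) := hls
    infer_instance
  have hiso : IsIso (cmp j M) := isIso_of_mono_of_epi _
  unfold EtConstGeneric.cmp at hiso
  exact IsIso.of_isIso_comp_right _ ((EtCoh.push j).map ((EtCore.pullConstIso j).hom.app M))

end Main

end Groth.Agent.Lib.Helper33.EtConstDense
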