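import Groth.Agent.Lib.Helper33.EtConstNormal
import Groth.Prelude.Def_EtCore

/-!
# Constant étale sheaves and generic points (helper33)

* `cmp g M : M_X ⟶ g_* M_Z`, the unit composed with `g_*` of "pullback of constant is constant";
  `cmp_cst`: it sends constant sections to constant sections;
* `isIso_unit_const_of_irreducible`: a general criterion for `M_X ⟶ g_* g⁻¹ M_X` to be an
  isomorphism;
* `isIso_unit_const_of_genericPoint`: the criterion holds for a preimmersion whose range is the
  generic point of a normal integral scheme.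
-/

set_option autoImplicit false
universe u
open CategoryTheory CategoryTheory.Limits AlgebraicGeometry Opposite

namespace Groth.Agent.Lib.Helper33.EtConstGeneric
open Groth.Agent.Lib.Helper43.EtOpenSub Groth.Agent.Lib.Helper33.EtExcision
open Groth.Agent.Lib.Helper43.ConstSheaf Groth.Agent.Lib.Helper33.EtConstNormal

section Cmp

variable {Z X : Scheme.{u}} (g : Z ⟶ X)

/-- the comparison map `M_X ⟶ g_* M_Z` -/
noncomputable def cmp (M : AddCommGrpCat.{u + 1}) :
    K.{u + 1} X.smallEtaleTopology M ⟶ (EtCoh.push g).obj (K.{u + 1} Z.smallEtaleTopology M) :=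
  (EtCoh.pullPushAdj g).unit.app (K.{u + 1} X.smallEtaleTopology M) ≫
    (EtCoh.push g).map ((EtCore.pullConstIso g).hom.app M)

lemma constAdj_unit_app (X : Scheme.{u}) (M : AddCommGrpCat.{u + 1}) :
    (EtCore.constAdj X).unit.app M = cst.{u + 1} X.smallEtaleTopology M (EtCoh.top X) := by
  unfold EtCore.constAdj constantSheafAdj cst
  simp [constantPresheafAdj]

lemma cmp_top_comp (M : AddCommGrpCat.{u + 1}) :
    (EtCore.constAdj X).unit.app M ≫ (EtCore.gsec X).map (cmp g M) ≫
      (EtCore.pushGsecIso g).hom.app (K.{u + 1} Z.smallEtaleTopology M) =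
    (EtCore.constAdj Z).unit.app M := by
  have h := Adjunction.unit_leftAdjointUniq_hom_app
    (((EtCore.constAdj X).comp (EtCoh.pullPushAdj g)).ofNatIsoRight (EtCore.pushGsecIso g))
    (EtCore.constAdj Z) M
  have h1 : (((EtCore.constAdj X).comp (EtCoh.pullPushAdj g)).ofNatIsoRight
      (EtCore.pushGsecIso g)).unit.app M =
      (EtCore.constAdj X).unit.app M ≫
        (EtCore.gsec X).map ((EtCoh.pullPushAdj g).unit.app (K.{u + 1} X.smallEtaleTopology M)) ≫
        (EtCore.pushGsecIso g).hom.app
          ((EtCoh.pull g).obj (K.{u + 1} X.smallEtaleTopology M)) := by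
    simp
  have h2 := (EtCore.pushGsecIso g).hom.naturality ((EtCore.pullConstIso g).hom.app M)
  rw [h1] at h
  rw [← h]
  unfold cmp
  rw [Functor.map_comp]
  simp only [Category.assoc]
  congr 2

/-- `cmp` at the terminal object -/
lemma cmp_top_cst (M : AddCommGrpCat.{u + 1}) (m : M) :
    (cmp g M).hom.app (op (EtCoh.top X)) (cst.{u + 1} X.smallEtaleTopology M (EtCoh.top X) m) =
      cst.{u + 1} Z.smallEtaleTopology M ((EtCoh.bc g).obj (EtCoh.top X)) m := by
  have h := congrArg (fun φ => (ConcreteCategory.hom φ) m) (cmp_top_comp g M)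
  rw [constAdj_unit_app, constAdj_unit_app] at h
  have h' : (K.{u + 1} Z.smallEtaleTopology M).obj.map (EtCore.bcTopIso g).inv.op
      ((cmp g M).hom.app (op (EtCoh.top X))
        (cst.{u + 1} X.smallEtaleTopology M (EtCoh.top X) m)) =
      cst.{u + 1} Z.smallEtaleTopology M (EtCoh.top Z) m := h
  have h3 := congrArg ((K.{u + 1} Z.smallEtaleTopology M).obj.map (EtCore.bcTopIso g).hom.op) h'
  rw [cst_map] at h3
  refine Eq.trans ?_ h3
  rw [← map_comp_apply, Iso.hom_inv_id]
  simp

/-- `cmp` sends constant sections to constant sections -/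
lemma cmp_cst (M : AddCommGrpCat.{u + 1}) (V : X.Etale) (m : M) :
    (cmp g M).hom.app (op V) (cst.{u + 1} X.smallEtaleTopology M V m) =
      cst.{u + 1} Z.smallEtaleTopology M ((EtCoh.bc g).obj V) m := by
  let t : V ⟶ EtCoh.top X := (EtCore.topIsTerminal X).from V
  have h1 := cst_map.{u + 1} X.smallEtaleTopology M t m
  have h2 := congrArg (fun φ => (ConcreteCategory.hom φ)
    (cst.{u + 1} X.smallEtaleTopology M (EtCoh.top X) m)) ((cmp g M).hom.naturality t.op)
  have h3 : (cmp g M).hom.app (op V) ((K.{u + 1} X.smallEtaleTopology M).obj.map t.op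
      (cst.{u + 1} X.smallEtaleTopology M (EtCoh.top X) m)) =
      (K.{u + 1} Z.smallEtaleTopology M).obj.map ((EtCoh.bc g).map t).op
        ((cmp g M).hom.app (op (EtCoh.top X))
          (cst.{u + 1} X.smallEtaleTopology M (EtCoh.top X) m)) := h2
  rw [h1, cmp_top_cst, cst_map] at h3
  exact h3

lemma cmp_map_apply (M : AddCommGrpCat.{u + 1}) {V T : X.Etale} (f : T ⟶ V)
    (s : (K.{u + 1} X.smallEtaleTopology M).obj.obj (op V)) :
    (cmp g M).hom.app (op T) ((K.{u + 1} X.smallEtaleTopology M).obj.map f.op s) =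
      (K.{u + 1} Z.smallEtaleTopology M).obj.map ((EtCoh.bc g).map f).op
        ((cmp g M).hom.app (op V) s) :=
  congrArg (fun φ => (ConcreteCategory.hom φ) s) ((cmp g M).hom.naturality f.op)

end Cmp

section Criterion

variable {Z X : Scheme.{u}} (g : Z ⟶ X)
  (h1 : ∀ T : X.Etale, Nonempty T.left → Nonempty ((EtCoh.bc g).obj T).left)
  (h2 : ∀ (V : X.Etale) (v : V.left), ∃ (N : X.Etale) (k : N ⟶ V) (y : N.left),
    k.left y = v ∧ IrreducibleSpace ((EtCoh.bc g).obj N).left)

include h1 in
lemma cmp_injective (M : AddCommGrpCat.{u + 1}) (V : X.Etale) :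
    Function.Injective ((cmp g M).hom.app (op V)) := by
  intro s s' hss'
  have hs : (cmp g M).hom.app (op V) (s - s') = 0 := by
    rw [map_sub, sub_eq_zero]
    exact hss'
  suffices h : s - s' = 0 from sub_eq_zero.1 h
  generalize s - s' = d at hs
  obtain ⟨S, hS, hloc⟩ := locally_cst.{u + 1} X.smallEtaleTopology M d
  refine Sheaf.isSeparated (K.{u + 1} X.smallEtaleTopology M) V S hS _ _ ?_
  intro T f hf
  rw [map_zero]
  obtain ⟨m, hm⟩ := hloc f hf
  rw [hm]
  by_cases hT : IsEmpty T.left
  · exact eq_zero_of_isEmpty _ T _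
  · rw [not_isEmpty_iff] at hT
    have := h1 T hT
    have hm0 : m = 0 := by
      apply cst_injective_of_nonempty M ((EtCoh.bc g).obj T)
      have hs' : ((cmp g M).hom.app (op V) d :
          (K.{u + 1} Z.smallEtaleTopology M).obj.obj (op ((EtCoh.bc g).obj V))) = 0 := hs
      have e1 : cst.{u + 1} Z.smallEtaleTopology M ((EtCoh.bc g).obj T) m =
          (K.{u + 1} Z.smallEtaleTopology M).obj.map ((EtCoh.bc g).map f).op
            ((cmp g M).hom.app (op V) d) := by
        rw [← cmp_cst, ← hm, cmp_map_apply]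
      rw [map_zero]
      refine e1.trans ?_
      exact (congrArg ((K.{u + 1} Z.smallEtaleTopology M).obj.map ((EtCoh.bc g).map f).op) hs').trans
        (map_zero _)
    rw [hm0, map_zero]

include h2 in
lemma cmp_locallySurjective (M : AddCommGrpCat.{u + 1}) :
    Presheaf.IsLocallySurjective X.smallEtaleTopology (cmp g M).hom := by
  constructor
  intro V t
  rw [mem_smallEtaleTopology_iff']
  intro v
  obtain ⟨N, k, y, hy, hirr⟩ := h2 V v
  refine ⟨N, k, y, ?_, hy⟩
  obtain ⟨m, hm⟩ := exists_eq_cst_of_irreducible M ((EtCoh.bc g).obj N)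
    ((K.{u + 1} Z.smallEtaleTopology M).obj.map ((EtCoh.bc g).map k).op t)
  refine ⟨cst.{u + 1} X.smallEtaleTopology M N m, ?_⟩
  exact (cmp_cst g M N m).trans hm.symm

include h1 h2 in
theorem isIso_cmp (M : AddCommGrpCat.{u + 1}) : IsIso (cmp g M) := by
  have hmono : Mono (cmp g M) := by
    have : ∀ W : (X.Etale)ᵒᵖ, Mono ((cmp g M).hom.app W) := fun W =>
      (AddCommGrpCat.mono_iff_injective _).mpr (cmp_injective g h1 M W.unop)
    have : Mono (cmp g M).hom := NatTrans.mono_of_mono_app _
    exact Sheaf.Hom.mono_of_presheaf_mono _ _ _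
  have hepi : Epi (cmp g M) := by
    have h := cmp_locallySurjective g h2 M
    have h' : Sheaf.IsLocallySurjective (cmp g M) := h
    infer_instance
  exact isIso_of_mono_of_epi _

include h1 h2 in
/-- **Criterion.** If base change along `g` preserves nonemptiness of étale `X`-schemes and étale
`X`-schemes locally have irreducible base change, then `M_X ⟶ g_* g⁻¹ M_X` is an isomorphism. -/
theorem isIso_unit_const (M : AddCommGrpCat.{u + 1}) :
    IsIso ((EtCoh.pullPushAdj g).unit.app (K.{u + 1} X.smallEtaleTopology M)) := by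
  have h := isIso_cmp g h1 h2 M
  unfold cmp at h
  exact IsIso.of_isIso_comp_right _ ((EtCoh.push g).map ((EtCore.pullConstIso g).hom.app M))

end Criterion

section Generic

/-- a space embedded in a space with a generic point lying in the range is irreducible -/
lemma irreducibleSpace_of_isEmbedding {A B : Type*} [TopologicalSpace A] [TopologicalSpace B]
    (p : A → B) (hp : Topology.IsEmbedding p) (ξ : B) (hξ : IsGenericPoint ξ (⊤ : Set B)) (a : A)
    (ha : p a = ξ) : IrreducibleSpace A := by
  refine { toPreirreducibleSpace := PreirreducibleSpace.of_forall_nonempty_inter ?_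
           toNonempty := ⟨a⟩ }
  have key : ∀ O : Set A, IsOpen O → O.Nonempty → a ∈ O := by
    intro O hO hne
    obtain ⟨O', hO', rfl⟩ := hp.isInducing.isOpen_iff.1 hO
    obtain ⟨x, hx⟩ := hne
    have : ξ ∈ O' := (hξ.mem_open_set_iff hO').2 ⟨p x, trivial, hx⟩
    show p a ∈ O'
    rw [ha]
    exact this
  intro O₁ O₂ h₁ h₂ hne₁ hne₂
  exact ⟨a, key O₁ h₁ hne₁, key O₂ h₂ hne₂⟩

variable {Z X : Scheme.{u}} [IsIntegral X] (g : Z ⟶ X)

/-- an étale morphism from a nonempty scheme to an integral scheme hits the generic point -/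
lemma exists_eq_genericPoint {T : Scheme.{u}} (f : T ⟶ X) [Etale f] [Nonempty T] :
    ∃ t : T, f t = genericPoint X := by
  obtain ⟨t⟩ := ‹Nonempty T›
  have h1 : IsOpen (Set.range f : Set X) := f.isOpenMap.isOpen_range
  have h2 : genericPoint X ∈ (Set.range f : Set X) :=
    ((genericPoint_spec X).mem_open_set_iff h1).2 ⟨f t, trivial, ⟨t, rfl⟩⟩
  exact h2

/-- an étale morphism from an irreducible scheme to an integral scheme sends the generic point to
the generic point -/
lemma map_genericPoint {T : Scheme.{u}} (f : T ⟶ X) [Etale f] [IrreducibleSpace T] :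
    f (genericPoint T) = genericPoint X := by
  have h1 : IsOpen (Set.range f : Set X) := f.isOpenMap.isOpen_range
  have h2 : Dense (Set.range f : Set X) := h1.dense (Set.range_nonempty _)
  have h3 := (genericPoint_spec T).image f.continuous
  have h4 : closure (f '' (Set.univ : Set T)) = (⊤ : Set X) := by
    rw [Set.image_univ]
    exact h2.closure_eq
  rw [h4] at h3
  exact h3.eq (genericPoint_spec X)

/-- **Constant sheaves and the generic point.** For a preimmersion `g : Z ⟶ X` whose range is the
generic point of a normal integral scheme `X`, the unit `M_X ⟶ g_* g⁻¹ M_X` is an isomorphism. -/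
theorem isIso_unit_const_of_genericPoint [IsPreimmersion g]
    (hg : Set.range g = {genericPoint X})
    (hN : ∀ x : X, IsIntegrallyClosed (X.presheaf.stalk x)) (M : AddCommGrpCat.{u + 1}) :
    IsIso ((EtCoh.pullPushAdj g).unit.app (K.{u + 1} X.smallEtaleTopology M)) := by
  obtain ⟨z, hz⟩ : ∃ z, g z = genericPoint X := by
    have : genericPoint X ∈ Set.range g := by rw [hg]; rfl
    exact this
  apply isIso_unit_const g ?_ ?_ M
  · intro T hT
    let f : T.left ⟶ X := T.hom
    have hTe : Etale f := T.prop
    obtain ⟨t, ht⟩ := exists_eq_genericPoint f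
    obtain ⟨w, -, -⟩ := Scheme.Pullback.exists_preimage_pullback (f := f) (g := g) t z
      (ht.trans hz.symm)
    exact ⟨w⟩
  · intro V v
    let f : V.left ⟶ X := V.hom
    have hV : Etale f := V.prop
    obtain ⟨N₀, hvN, hirr⟩ := exists_opens_isIrreducible hN f v
    let N : X.Etale := Scheme.Etale.mk (N₀.ι ≫ f)
    let k : N ⟶ V := MorphismProperty.Over.homMk N₀.ι rfl
    refine ⟨N, k, ⟨v, hvN⟩, rfl, ?_⟩
    have hirr' : IrreducibleSpace N₀.toScheme := Subtype.irreducibleSpace hirr
    let fN : N₀.toScheme ⟶ X := N₀.ι ≫ f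
    have hfN : Etale fN := inferInstanceAs (Etale (N₀.ι ≫ f))
    have hξ := map_genericPoint fN
    obtain ⟨w, hw, -⟩ := Scheme.Pullback.exists_preimage_pullback (f := fN) (g := g)
      (genericPoint N₀.toScheme) z (hξ.trans hz.symm)
    let p : ((EtCoh.bc g).obj N).left ⟶ N₀.toScheme := pullback.fst fN g
    have hp : IsPreimmersion p := inferInstanceAs (IsPreimmersion (pullback.fst fN g))
    exact irreducibleSpace_of_isEmbedding p p.isEmbedding (genericPoint N₀.toScheme)
      (genericPoint_spec _) w hw

end Generic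

end Groth.Agent.Lib.Helper33.EtConstGeneric
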