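import Groth.Agent.Lib.Helper33.EtExcision
import Groth.Agent.Lib.Helper24.SmoothNormal
import Groth.Agent.Lib.Helper23.NormalAffine
import Groth.Agent.Lib.Helper43.ConstSheaf

/-!
# Constant étale sheaves on normal schemes (helper33)

* `exists_isOpen_isIrreducible`, `finite_minimalPrimes_of_etale`, `exists_opens_isIrreducible`:
  an étale scheme over a normal integral scheme is locally irreducible;
* `eq_zero_of_isEmpty`, `cst_injective_of_nonempty`, `exists_eq_cst_of_irreducible`: sections of
  constant sheaves on the small étale site;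
* `isIso_unit_const_of_normal`: `M_X ⟶ j_* j⁻¹ M_X` is an isomorphism for a nonempty open `j` of a
  normal integral scheme.
-/

set_option autoImplicit false
universe u
open CategoryTheory CategoryTheory.Limits AlgebraicGeometry Opposite TensorProduct

namespace Groth.Agent.Lib.Helper33.EtConstNormal
open Groth.Agent.Lib.Helper4.EtRestr Groth.Agent.Lib.Helper43.EtOpenSub
open Groth.Agent.Lib.Helper33.EtLocCoh Groth.Agent.Lib.Helper33.EtExcision
open Groth.Agent.Lib.Helper43.ConstSheaf

section LocIrr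

/-- in a ring with finitely many minimal primes all of whose localizations at primes are domains,
every point of the spectrum has an irreducible open neighbourhood -/
theorem exists_isOpen_isIrreducible {E : Type u} [CommRing E] (hfin : (minimalPrimes E).Finite)
    (hdom : ∀ (p : Ideal E) [p.IsPrime], IsDomain (Localization.AtPrime p))
    (x : PrimeSpectrum E) :
    ∃ N : Set (PrimeSpectrum E), IsOpen N ∧ x ∈ N ∧ IsIrreducible N := by
  have := hdom x.asIdeal
  -- the kernel of the localization map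
  let k : Ideal E := RingHom.ker (algebraMap E (Localization.AtPrime x.asIdeal))
  have hkprime : k.IsPrime := RingHom.ker_isPrime _
  have hk_le : ∀ q : Ideal E, q.IsPrime → q ≤ x.asIdeal → k ≤ q := by
    intro q hq hqx a ha
    have ha' : algebraMap E (Localization.AtPrime x.asIdeal) a = 0 := ha
    rw [IsLocalization.map_eq_zero_iff x.asIdeal.primeCompl] at ha'
    obtain ⟨s, hs⟩ := ha'
    have hsq : (s : E) ∉ q := fun h => s.2 (hqx h)
    exact (hq.mem_or_mem (hs ▸ q.zero_mem)).resolve_left hsq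
  have hkx : k ≤ x.asIdeal := hk_le x.asIdeal inferInstance le_rfl
  -- minimal primes below `x` equal `k`
  have hmin : ∀ q ∈ minimalPrimes E, q ≤ x.asIdeal → q = k := by
    intro q hq hqx
    have hqprime : q.IsPrime := hq.1.1
    exact le_antisymm (hq.2 ⟨hkprime, bot_le⟩ (hk_le q hqprime hqx)) (hk_le q hqprime hqx)
  let N : Set (PrimeSpectrum E) :=
    (⋃ q ∈ {q ∈ minimalPrimes E | q ≠ k}, PrimeSpectrum.zeroLocus (q : Set E))ᶜ
  refine ⟨N, ?_, ?_, ?_⟩
  · exact isOpen_compl_iff.2 ((hfin.subset (fun q hq => hq.1)).isClosed_biUnion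
      (fun q _ => PrimeSpectrum.isClosed_zeroLocus _))
  · simp only [N, Set.mem_compl_iff, Set.mem_iUnion, not_exists]
    rintro q ⟨hq, hqk⟩ hx
    exact hqk (hmin q hq ((PrimeSpectrum.mem_zeroLocus _ _).1 hx))
  · have hsub : N ⊆ PrimeSpectrum.zeroLocus (k : Set E) := by
      intro y hy
      obtain ⟨q, hq, hqy⟩ := Ideal.exists_minimalPrimes_le (bot_le : (⊥ : Ideal E) ≤ y.asIdeal)
      by_cases hqk : q = k
      · rw [PrimeSpectrum.mem_zeroLocus]
        exact hqk ▸ hqy
      · exfalso
        apply hy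
        simp only [Set.mem_iUnion]
        exact ⟨q, ⟨hq, hqk⟩, (PrimeSpectrum.mem_zeroLocus _ _).2 hqy⟩
    have hirr : IsIrreducible (PrimeSpectrum.zeroLocus (k : Set E)) :=
      (PrimeSpectrum.isIrreducible_zeroLocus_iff_of_radical k hkprime.isRadical).2 hkprime
    have hopen : IsOpen N :=
      isOpen_compl_iff.2 ((hfin.subset (fun q hq => hq.1)).isClosed_biUnion
        (fun q _ => PrimeSpectrum.isClosed_zeroLocus _))
    have hxN : x ∈ N := by
      simp only [N, Set.mem_compl_iff, Set.mem_iUnion, not_exists]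
      rintro q ⟨hq, hqk⟩ hx
      exact hqk (hmin q hq ((PrimeSpectrum.mem_zeroLocus _ _).1 hx))
    exact ⟨⟨x, hxN⟩, hirr.2.open_subset hopen hsub⟩


/-- an étale algebra over a domain has finitely many minimal primes -/
theorem finite_minimalPrimes_of_etale (P E : Type u) [CommRing P] [IsDomain P]
    [CommRing E] [Algebra P E] [Algebra.Etale P E] : (minimalPrimes E).Finite := by
  let L := FractionRing P
  let T := E ⊗[P] L
  let T' := L ⊗[P] E
  let e : T' ≃ₐ[P] T := Algebra.TensorProduct.comm P L E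
  have : Module.Finite L T' := Algebra.FormallyUnramified.finite_of_free L T'
  have : IsArtinianRing T' := IsArtinianRing.of_finite L T'
  have hart : IsArtinianRing T := (e : T' ≃+* T).surjective.isArtinianRing
  have : Module.Flat P E := Algebra.Smooth.flat P E
  let M := Algebra.algebraMapSubmonoid E (nonZeroDivisors P)
  have hloc : IsLocalization M T := inferInstance
  have hM : M ≤ nonZeroDivisors E := by
    rintro _ ⟨p, hp, rfl⟩
    have h1 : IsSMulRegular E p := Module.Flat.isSMulRegular_of_nonZeroDivisors hp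
    rw [mem_nonZeroDivisors_iff_right]
    intro x hx
    apply h1
    simp only [smul_zero]
    rw [Algebra.smul_def, mul_comm]
    exact hx
  have hinj : Function.Injective (algebraMap E T) := IsLocalization.injective T hM
  have h := IsLocalization.minimalPrimes_comap M T (⊥ : Ideal T)
  rw [show (⊥ : Ideal T).comap (algebraMap E T) = ⊥ from
    (RingHom.injective_iff_ker_eq_bot _).mp hinj] at h
  change ((⊥ : Ideal E).minimalPrimes).Finite
  rw [h]
  exact Set.Finite.image _ (minimalPrimes.finite_of_isNoetherianRing T)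


/-- an étale scheme over a normal integral scheme is locally irreducible -/
theorem exists_opens_isIrreducible {X Y : Scheme.{u}} [IsIntegral X]
    (hN : ∀ x : X, IsIntegrallyClosed (X.presheaf.stalk x)) (f : Y ⟶ X) [Etale f] (y : Y) :
    ∃ N : Y.Opens, y ∈ N ∧ IsIrreducible (N : Set Y) := by
  obtain ⟨_, ⟨W₀, hW₀, rfl⟩, hy0, -⟩ :=
    X.isBasis_affineOpens.exists_subset_of_mem_open (Set.mem_univ (f y)) isOpen_univ
  obtain ⟨_, ⟨W₁, hW₁, rfl⟩, hy1, hle⟩ :=
    Y.isBasis_affineOpens.exists_subset_of_mem_open (show y ∈ (f ⁻¹ᵁ W₀ : Set Y) from hy0)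
      (f ⁻¹ᵁ W₀).isOpen
  have e : W₁ ≤ f ⁻¹ᵁ W₀ := hle
  have : Nonempty W₀ := ⟨⟨f y, hy0⟩⟩
  have hdomP : IsDomain Γ(X, W₀) := inferInstance
  have hicP : IsIntegrallyClosed Γ(X, W₀) :=
    Groth.Agent.Lib.Helper23.isIntegrallyClosed_of_isAffineOpen hN hW₀
  have het : RingHom.Etale (f.appLE W₀ W₁ e).hom :=
    HasRingHomProperty.appLE (P := @Etale) f inferInstance ⟨W₀, hW₀⟩ ⟨W₁, hW₁⟩ e
  algebraize [(f.appLE W₀ W₁ e).hom]
  have hnorm := Groth.Agent.Lib.Helper24.isNormalRing_of_etale Γ(X, W₀) Γ(Y, W₁)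
  have hfin := finite_minimalPrimes_of_etale Γ(X, W₀) Γ(Y, W₁)
  obtain ⟨N₀, hN₀o, hxN₀, hN₀i⟩ := exists_isOpen_isIrreducible hfin
    (fun p _ => (hnorm p).1) (hW₁.primeIdealOf ⟨y, hy1⟩)
  refine ⟨hW₁.fromSpec ''ᵁ ⟨N₀, hN₀o⟩, ?_, ?_⟩
  · refine ⟨hW₁.primeIdealOf ⟨y, hy1⟩, hxN₀, ?_⟩
    exact hW₁.fromSpec_primeIdealOf ⟨y, hy1⟩
  · exact hN₀i.image _ hW₁.fromSpec.continuous.continuousOn


end LocIrr

section ConstSections

variable {X : Scheme.{u}}

/-- sections of a sheaf over the empty scheme vanish -/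
lemma eq_zero_of_isEmpty (F : EtCoh.Ab X) (T : X.Etale) [IsEmpty T.left] (s : F.obj.obj (op T)) :
    s = 0 := by
  refine Sheaf.isSeparated F T ⊥ ?_ _ _ ?_
  · rw [mem_smallEtaleTopology_iff']
    intro x
    exact (IsEmpty.false x).elim
  · intro Y f hf
    exact hf.elim

lemma cst_injective_of_nonempty (M : AddCommGrpCat.{u + 1}) (W : X.Etale) [Nonempty W.left] :
    Function.Injective (cst.{u + 1} X.smallEtaleTopology M W) := by
  apply cst_injective.{u + 1}
  intro S hS
  obtain ⟨x⟩ := ‹Nonempty W.left›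
  obtain ⟨V, f, y, hf, -⟩ := (mem_smallEtaleTopology_iff' W S).1 hS x
  exact ⟨V, f, hf⟩

/-- a nonempty scheme with an open immersion into an irreducible subset is irreducible -/
lemma irreducibleSpace_of_isOpenImmersion {A B : Scheme.{u}} (e : A ⟶ B) [IsOpenImmersion e]
    [Nonempty A] (s : Set B) (hs : IsIrreducible s) (h : Set.range e ⊆ s) : IrreducibleSpace A := by
  refine { toPreirreducibleSpace := PreirreducibleSpace.of_forall_nonempty_inter ?_
           toNonempty := inferInstance }
  intro a b ha hb hane hbne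
  obtain ⟨x, hx⟩ := hane
  obtain ⟨y, hy⟩ := hbne
  obtain ⟨_, -, ⟨x', hx'a, rfl⟩, ⟨y', hy'b, hxy⟩⟩ := hs.2 (e '' a) (e '' b)
    (e.isOpenEmbedding.isOpenMap _ ha) (e.isOpenEmbedding.isOpenMap _ hb)
    ⟨e x, h ⟨x, rfl⟩, ⟨x, hx, rfl⟩⟩ ⟨e y, h ⟨y, rfl⟩, ⟨y, hy, rfl⟩⟩
  have : y' = x' := e.isOpenEmbedding.injective hxy
  exact ⟨x', hx'a, this ▸ hy'b⟩

/-- on an irreducible étale scheme every section of a constant sheaf is constant -/
lemma exists_eq_cst_of_irreducible (M : AddCommGrpCat.{u + 1}) (W : X.Etale)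
    [IrreducibleSpace W.left] (s : (K.{u + 1} X.smallEtaleTopology M).obj.obj (op W)) :
    ∃ m, s = cst.{u + 1} X.smallEtaleTopology M W m := by
  obtain ⟨S, hS, hloc⟩ := locally_cst.{u + 1} X.smallEtaleTopology M s
  obtain ⟨w⟩ : Nonempty W.left := inferInstance
  obtain ⟨T₀, f₀, y₀, hf₀, -⟩ := (mem_smallEtaleTopology_iff' W S).1 hS w
  obtain ⟨m, hm⟩ := hloc f₀ hf₀
  refine ⟨m, ?_⟩
  refine Sheaf.isSeparated (K.{u + 1} X.smallEtaleTopology M) W S hS _ _ ?_
  intro T f hf
  obtain ⟨m', hm'⟩ := hloc f hf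
  rw [hm', cst_map]
  by_cases hT : IsEmpty T.left
  · exact (eq_zero_of_isEmpty _ T _).trans (eq_zero_of_isEmpty _ T _).symm
  · rw [not_isEmpty_iff] at hT
    obtain ⟨t⟩ := hT
    obtain ⟨_, ⟨t', rfl⟩, ⟨t₀', h0⟩⟩ := nonempty_preirreducible_inter
      f.left.isOpenMap.isOpen_range f₀.left.isOpenMap.isOpen_range ⟨_, ⟨t, rfl⟩⟩ ⟨_, ⟨y₀, rfl⟩⟩
    obtain ⟨z, -, -⟩ := Scheme.Pullback.exists_preimage_pullback (f := f.left) (g := f₀.left)
      t' t₀' h0.symm
    let T' : X.Etale := Scheme.Etale.mk (pullback.fst f.left f₀.left ≫ T.hom)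
    let p₁ : T' ⟶ T := MorphismProperty.Over.homMk (pullback.fst f.left f₀.left) rfl
    let p₂ : T' ⟶ T₀ := MorphismProperty.Over.homMk (pullback.snd f.left f₀.left)
      ((congrArg (pullback.snd f.left f₀.left ≫ ·) (MorphismProperty.Over.w f₀).symm).trans
        ((Category.assoc _ _ _).symm.trans
          ((congrArg (· ≫ W.hom) (pullback.condition (f := f.left) (g := f₀.left)).symm).trans
            ((Category.assoc _ _ _).trans
              (congrArg (pullback.fst f.left f₀.left ≫ ·) (MorphismProperty.Over.w f))))))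
    have hp : p₁ ≫ f = p₂ ≫ f₀ := by
      apply MorphismProperty.Over.Hom.ext
      exact pullback.condition
    have : Nonempty T'.left := ⟨z⟩
    have hmm : m' = m := by
      apply cst_injective_of_nonempty M T'
      rw [← cst_map.{u + 1} X.smallEtaleTopology M p₁ m', ← hm', ← map_comp_apply, hp,
        map_comp_apply, hm, cst_map]
    rw [hmm]

end ConstSections

section Main

variable {X U : Scheme.{u}} (j : U ⟶ X) [IsOpenImmersion j]

/-- the open part `V ×_X U` of an étale `X`-scheme `V` -/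
noncomputable abbrev openPart (V : X.Etale) : X.Etale :=
  (EtShriek.compEtale j).obj ((EtCoh.bc j).obj V)

/-- the inclusion of the open part -/
noncomputable abbrev openPartι (V : X.Etale) : openPart j V ⟶ V := (adjJ j).counit.app V

lemma openPartι_naturality {V T : X.Etale} (f : T ⟶ V) :
    (EtShriek.compEtale j).map ((EtCoh.bc j).map f) ≫ openPartι j V = openPartι j T ≫ f :=
  (adjJ j).counit.naturality f

instance isOpenImmersion_openPartι_left (V : X.Etale) : IsOpenImmersion (openPartι j V).left := by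
  have h : IsOpenImmersion (pullback.fst V.hom j) := inferInstance
  exact h

lemma unit_adjR_app (F : EtCoh.Ab X) (V : X.Etale) :
    ((adjR j).unit.app F).hom.app (op V) = F.obj.map (openPartι j V).op := by
  simp [adjR]

variable [IrreducibleSpace X] (hU : (Set.range j).Nonempty)

include hU in
/-- the open part of a nonempty étale scheme over an irreducible scheme is nonempty -/
lemma nonempty_openPart (T : X.Etale) [Nonempty T.left] : Nonempty (openPart j T).left := by
  obtain ⟨t⟩ := ‹Nonempty T.left›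
  have hT : Etale T.hom := T.prop
  have h1 : IsOpen (Set.range T.hom : Set X) := T.hom.isOpenMap.isOpen_range
  have h2 : IsOpen (Set.range j : Set X) := j.isOpenEmbedding.isOpen_range
  have h3 : (Set.range T.hom : Set X).Nonempty := ⟨_, ⟨t, rfl⟩⟩
  obtain ⟨x, ⟨t', ht'⟩, ⟨u', hu'⟩⟩ := nonempty_preirreducible_inter (X := X) h1 h2 h3 hU
  obtain ⟨z, -, -⟩ := Scheme.Pullback.exists_preimage_pullback (f := T.hom) (g := j) t' u'
    (ht'.trans hu'.symm)
  exact ⟨z⟩

include hU in
/-- sections of the unit `M_X ⟶ j_* (M_X|_U)` are injective -/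
lemma unit_adjR_const_injective (M : AddCommGrpCat.{u + 1}) (V : X.Etale) :
    Function.Injective
      (((adjR j).unit.app (K.{u + 1} X.smallEtaleTopology M)).hom.app (op V)) := by
  rw [unit_adjR_app]
  intro s s' hss'
  have hs : (K.{u + 1} X.smallEtaleTopology M).obj.map (openPartι j V).op (s - s') = 0 := by
    rw [map_sub, sub_eq_zero]
    exact hss'
  suffices h : s - s' = 0 from sub_eq_zero.1 h
  generalize s - s' = d at hs
  obtain ⟨S, hS, hloc⟩ := locally_cst.{u + 1} X.smallEtaleTopology M d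
  refine Sheaf.isSeparated (K.{u + 1} X.smallEtaleTopology M) V S hS _ _ ?_
  intro T f hf
  rw [map_zero]
  obtain ⟨m, hm⟩ := hloc f hf
  rw [hm]
  by_cases hT : IsEmpty T.left
  · exact eq_zero_of_isEmpty _ T _
  · rw [not_isEmpty_iff] at hT
    have := nonempty_openPart j hU T
    have hm0 : m = 0 := by
      apply cst_injective_of_nonempty M (openPart j T)
      rw [map_zero, ← cst_map.{u + 1} X.smallEtaleTopology M (openPartι j T) m, ← hm,
        ← map_comp_apply, ← openPartι_naturality, map_comp_apply, hs, map_zero]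
    rw [hm0, map_zero]

omit [IrreducibleSpace X] in
include hU in
/-- the unit `M_X ⟶ j_* (M_X|_U)` is locally surjective on a normal integral scheme -/
lemma unit_adjR_const_locallySurjective [IsIntegral X]
    (hN : ∀ x : X, IsIntegrallyClosed (X.presheaf.stalk x)) (M : AddCommGrpCat.{u + 1}) :
    Presheaf.IsLocallySurjective X.smallEtaleTopology
      ((adjR j).unit.app (K.{u + 1} X.smallEtaleTopology M)).hom := by
  constructor
  intro V t
  rw [mem_smallEtaleTopology_iff']
  intro v
  let f : V.left ⟶ X := V.hom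
  have hV : Etale f := V.prop
  obtain ⟨N₀, hvN, hirr⟩ := exists_opens_isIrreducible hN f v
  let N : X.Etale := Scheme.Etale.mk (N₀.ι ≫ f)
  let k : N ⟶ V := MorphismProperty.Over.homMk N₀.ι rfl
  refine ⟨N, k, ⟨v, hvN⟩, ?_, rfl⟩
  have hne : Nonempty N.left := ⟨⟨v, hvN⟩⟩
  have hne' := nonempty_openPart j hU N
  have hoi : IsOpenImmersion (openPartι j N).left := isOpenImmersion_openPartι_left j N
  let e' : (openPart j N).left ⟶ N₀.toScheme := (openPartι j N).left
  have hoi' : IsOpenImmersion e' := hoi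
  let e : (openPart j N).left ⟶ V.left := e' ≫ N₀.ι
  have hoe : IsOpenImmersion e := inferInstanceAs (IsOpenImmersion (e' ≫ N₀.ι))
  have hirr' : IrreducibleSpace (openPart j N).left :=
    irreducibleSpace_of_isOpenImmersion e (N₀ : Set V.left) hirr (by
      rintro _ ⟨z, rfl⟩
      exact ((openPartι j N).left z).2)
  obtain ⟨m, hm⟩ := exists_eq_cst_of_irreducible M (openPart j N)
    ((K.{u + 1} X.smallEtaleTopology M).obj.map
      ((EtShriek.compEtale j).map ((EtCoh.bc j).map k)).op t)
  refine ⟨cst.{u + 1} X.smallEtaleTopology M N m, ?_⟩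
  have h1 := congrArg (fun φ => (ConcreteCategory.hom φ) (cst.{u + 1} X.smallEtaleTopology M N m))
    (unit_adjR_app j (K.{u + 1} X.smallEtaleTopology M) N)
  refine h1.trans ?_
  exact (cst_map.{u + 1} X.smallEtaleTopology M (openPartι j N) m).trans hm.symm

omit [IrreducibleSpace X] in
include hU in
/-- **Constant sheaves on normal schemes.** For a nonempty open immersion `j : U ⟶ X` into a normal
integral scheme the unit `M_X ⟶ j_* j⁻¹ M_X` is an isomorphism. -/
theorem isIso_unit_const_of_normal [IsIntegral X]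
    (hN : ∀ x : X, IsIntegrallyClosed (X.presheaf.stalk x)) (M : AddCommGrpCat.{u + 1}) :
    IsIso ((EtCoh.pullPushAdj j).unit.app (K.{u + 1} X.smallEtaleTopology M)) := by
  have hmono : Mono ((adjR j).unit.app (K.{u + 1} X.smallEtaleTopology M)) := by
    have : ∀ W : (X.Etale)ᵒᵖ,
        Mono (((adjR j).unit.app (K.{u + 1} X.smallEtaleTopology M)).hom.app W) := fun W =>
      (AddCommGrpCat.mono_iff_injective _).mpr (unit_adjR_const_injective j hU M W.unop)
    have : Mono ((adjR j).unit.app (K.{u + 1} X.smallEtaleTopology M)).hom :=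
      NatTrans.mono_of_mono_app _
    exact Sheaf.Hom.mono_of_presheaf_mono _ _ _
  have hepi : Epi ((adjR j).unit.app (K.{u + 1} X.smallEtaleTopology M)) := by
    have h := unit_adjR_const_locallySurjective j hU hN M
    have h' : Sheaf.IsLocallySurjective
      ((adjR j).unit.app (K.{u + 1} X.smallEtaleTopology M)) := h
    infer_instance
  have hiso : IsIso ((adjR j).unit.app (K.{u + 1} X.smallEtaleTopology M)) :=
    isIso_of_mono_of_epi _
  rw [← unitApp_comp_pullIsoRestr j (K.{u + 1} X.smallEtaleTopology M)] at hiso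
  exact IsIso.of_isIso_comp_right _
    ((EtCoh.push j).map ((pullIsoRestr j).hom.app (K.{u + 1} X.smallEtaleTopology M)))

end Main

end Groth.Agent.Lib.Helper33.EtConstNormal
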