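import Groth.Agent.Lib.Helper33.EtLocCoh
import Groth.Agent.Lib.Helper43.EtOpenSub
import Groth.Agent.Lib.Lead.DegLeray

/-!
# Étale excision for cohomology with supports (helper33)

`f : X' ⟶ X` étale, `j : U ⟶ X`, `j' : U' ⟶ X'` open immersions with `U' = f⁻¹ U`, such that `f` is
bijective over `Z = X - U` with trivial residue field extensions.  Then
`H^r_Z(X, F) ≅ H^r_{Z'}(X', f⁻¹ F)`.

* `specField_hom_ext`, `exists_open_equalizer`: scheme-theoretic input;
* `VanOn`, `map_counit_eq_zero_iff`: sections vanishing over an open;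
* `ExcData`, `map_eq_of_vanOn`, `eq_zero_of_vanOn`, `exists_of_vanOn`: the gluing argument;
* `ιΓ`, `ιΓ_injective`, `ιΓ_range`: `Γ_Z(X, F)` as a subgroup of `Γ(X, F)`;
* `nonempty_natIso_of_range_eq`: subfunctors with equal images are isomorphic;
* `nonempty_gammaSupp_iso`, `nonempty_HY_iso`: excision.
-/

set_option autoImplicit false
universe u v w
open CategoryTheory CategoryTheory.Limits AlgebraicGeometry Opposite

namespace Groth.Agent.Lib.Helper33.EtExcision
open Groth.Agent.Lib.Helper4.EtRestr Groth.Agent.Lib.Helper43.EtOpenSub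
open Groth.Agent.Lib.Helper33.EtLocCoh

theorem nonempty_natIso_of_range_eq {C : Type v} [Category.{w} C] {G₁ G₂ H : C ⥤ AddCommGrpCat.{u}}
    (α₁ : G₁ ⟶ H) (α₂ : G₂ ⟶ H)
    (h₁ : ∀ F, Function.Injective (α₁.app F)) (h₂ : ∀ F, Function.Injective (α₂.app F))
    (hr : ∀ F (x : H.obj F), (∃ y, α₁.app F y = x) ↔ (∃ y, α₂.app F y = x)) :
    Nonempty (G₁ ≅ G₂) := by
  have hex : ∀ F (x : G₁.obj F), ∃ y : G₂.obj F, α₂.app F y = α₁.app F x :=
    fun F x => (hr F _).1 ⟨x, rfl⟩
  choose β hβ using hex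
  let βh : ∀ F, G₁.obj F ⟶ G₂.obj F := fun F =>
    AddCommGrpCat.ofHom (AddMonoidHom.mk' (β F) (by
      intro x y
      apply h₂ F
      rw [hβ, map_add, map_add, hβ, hβ]))
  have hβh : ∀ F, βh F ≫ α₂.app F = α₁.app F := by
    intro F
    ext x
    exact hβ F x
  have : ∀ F, Mono (α₂.app F) := fun F => (AddCommGrpCat.mono_iff_injective _).2 (h₂ F)
  let βn : G₁ ⟶ G₂ :=
    { app := βh
      naturality := by
        intro F F' φ
        rw [← cancel_mono (α₂.app F'), Category.assoc, Category.assoc, hβh, α₂.naturality,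
          ← Category.assoc (βh F), hβh, α₁.naturality] }
  have : ∀ F, IsIso (βn.app F) := by
    intro F
    rw [ConcreteCategory.isIso_iff_bijective]
    constructor
    · intro x y hxy
      apply h₁ F
      rw [← hβ, ← hβ]
      exact congrArg _ hxy
    · intro y
      obtain ⟨x, hx⟩ := (hr F _).2 ⟨y, rfl⟩
      exact ⟨x, h₂ F ((hβ F x).trans hx)⟩
  have := NatIso.isIso_of_isIso_app βn
  exact ⟨asIso βn⟩


lemma specField_hom_ext {X' X : Scheme.{u}} (f : X' ⟶ X) (K : Type u) [Field K]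
    (a₁ a₂ : Spec (.of K) ⟶ X') (h : a₁ ≫ f = a₂ ≫ f)
    (hpt : a₁ (IsLocalRing.closedPoint K) = a₂ (IsLocalRing.closedPoint K))
    (hs : Function.Surjective (f.residueFieldMap (a₁ (IsLocalRing.closedPoint K)))) : a₁ = a₂ := by
  have key : ∀ (x' : X') (φ₁ φ₂ : X'.residueField x' ⟶ .of K),
      Function.Surjective (f.residueFieldMap x') →
      (Spec.map φ₁ ≫ X'.fromSpecResidueField x') ≫ f =
        (Spec.map φ₂ ≫ X'.fromSpecResidueField x') ≫ f → φ₁ = φ₂ := by
    intro x' φ₁ φ₂ hs h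
    rw [Category.assoc, Category.assoc, ← Scheme.Hom.SpecMap_residueFieldMap_fromSpecResidueField,
      ← Category.assoc, ← Category.assoc, cancel_mono, ← Spec.map_comp, ← Spec.map_comp,
      Spec.map_inj] at h
    ext y
    obtain ⟨z, rfl⟩ := hs y
    exact congr($h z)
  have ex : ∀ (a : Spec (.of K) ⟶ X') (x' : X') (_ : a (IsLocalRing.closedPoint K) = x'),
      ∃ φ : X'.residueField x' ⟶ .of K, a = Spec.map φ ≫ X'.fromSpecResidueField x' := by
    rintro a _ rfl
    exact ⟨_, (Scheme.descResidueField_stalkClosedPointTo_fromSpecResidueField K X' a).symm⟩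
  obtain ⟨φ₁, h₁⟩ := ex a₁ _ rfl
  obtain ⟨φ₂, h₂⟩ := ex a₂ _ hpt.symm
  have := key _ φ₁ φ₂ hs (by rw [← h₁, ← h₂]; exact h)
  rw [h₁, h₂, this]


lemma exists_open_equalizer {X' X Y : Scheme.{u}} (f : X' ⟶ X) [Etale f]
    (h₁ h₂ : Y ⟶ X') (h : h₁ ≫ f = h₂ ≫ f) :
    ∃ (E : Scheme.{u}) (ι : E ⟶ Y), IsOpenImmersion ι ∧ ι ≫ h₁ = ι ≫ h₂ ∧
      ∀ y : Y, Y.fromSpecResidueField y ≫ h₁ = Y.fromSpecResidueField y ≫ h₂ →
        y ∈ Set.range ι := by
  have : IsOpenImmersion (pullback.diagonal f) := inferInstance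
  have l1 : pullback.lift h₁ h₂ h ≫ pullback.fst f f = h₁ := pullback.lift_fst _ _ _
  have l2 : pullback.lift h₁ h₂ h ≫ pullback.snd f f = h₂ := pullback.lift_snd _ _ _
  refine ⟨pullback (pullback.lift h₁ h₂ h) (pullback.diagonal f), pullback.fst _ _,
    inferInstance, ?_, ?_⟩
  · have e1 : pullback.fst (pullback.lift h₁ h₂ h) (pullback.diagonal f) ≫ h₁ =
        pullback.snd _ _ := by
      have := pullback.condition (f := pullback.lift h₁ h₂ h) (g := pullback.diagonal f) =≫
        pullback.fst f f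
      simpa [l1] using this
    have e2 : pullback.fst (pullback.lift h₁ h₂ h) (pullback.diagonal f) ≫ h₂ =
        pullback.snd _ _ := by
      have := pullback.condition (f := pullback.lift h₁ h₂ h) (g := pullback.diagonal f) =≫
        pullback.snd f f
      simpa [l2] using this
    rw [e1, e2]
  · intro y hy
    let σ := Y.fromSpecResidueField y
    have hc : σ ≫ pullback.lift h₁ h₂ h = (σ ≫ h₁) ≫ pullback.diagonal f := by
      apply pullback.hom_ext
      · simp [l1]
      · simp [hy, σ, l2]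
    let l := pullback.lift σ (σ ≫ h₁) hc
    refine ⟨l (default : Spec (Y.residueField y)), ?_⟩
    rw [← Scheme.Hom.comp_apply, pullback.lift_fst]
    simp [σ]


section
variable {U X : Scheme.{u}} (j : U ⟶ X) [IsOpenImmersion j]

/-- an étale `X`-scheme whose image lies in the open `U` factors through the counit -/
lemma exists_lift_counit {V Y : X.Etale} (g : V ⟶ Y) (h : Set.range V.hom ⊆ Set.range j) :
    ∃ k : V ⟶ (EtShriek.compEtale j).obj ((EtCoh.bc j).obj Y), k ≫ (adjJ j).counit.app Y = g := by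
  let l : V.left ⟶ U := IsOpenImmersion.lift j V.hom h
  have hl : l ≫ j = V.hom := IsOpenImmersion.lift_fac _ _ _
  have : Etale (l ≫ j) := by rw [hl]; infer_instance
  have : Etale l := Etale.of_comp l j
  let V₀ : U.Etale := Scheme.Etale.mk l
  let k₀ : V ⟶ (EtShriek.compEtale j).obj V₀ :=
    MorphismProperty.Over.homMk (𝟙 V.left) ((Category.id_comp _).trans hl)
  let g₀ : (EtShriek.compEtale j).obj V₀ ⟶ Y :=
    MorphismProperty.Over.homMk g.left ((MorphismProperty.Over.w g).trans hl.symm)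
  refine ⟨k₀ ≫ (EtShriek.compEtale j).map ((adjJ j).homEquiv _ _ g₀), ?_⟩
  have e := (adjJ j).homEquiv_counit (g := (adjJ j).homEquiv _ _ g₀)
  rw [Equiv.symm_apply_apply] at e
  rw [Category.assoc, ← e]
  apply MorphismProperty.Over.Hom.ext
  exact (MorphismProperty.Comma.comp_left _ _).trans (Category.id_comp _)

end

section Van

variable {X : Scheme.{u}}

/-- `s ∈ F(Y)` vanishes on every étale `V ⟶ Y` whose image in `X` lies in `W` -/
def VanOn (F : EtCoh.Ab X) (W : Set X) {Y : X.Etale} (s : F.obj.obj (op Y)) : Prop :=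
  ∀ (V : X.Etale) (g : V ⟶ Y), Set.range V.hom ⊆ W → F.obj.map g.op s = 0

lemma map_comp_apply (F : EtCoh.Ab X) {A B C : X.Etale} (k : A ⟶ B) (c : B ⟶ C)
    (s : F.obj.obj (op C)) : F.obj.map (k ≫ c).op s = F.obj.map k.op (F.obj.map c.op s) := by
  rw [op_comp, Functor.map_comp]; rfl

lemma range_compEtale_bc_subset {U : Scheme.{u}} (j : U ⟶ X) [IsOpenImmersion j] (Y : X.Etale) :
    Set.range ((EtShriek.compEtale j).obj ((EtCoh.bc j).obj Y)).hom ⊆ Set.range j := by
  rintro _ ⟨y, rfl⟩
  exact ⟨((EtCoh.bc j).obj Y).hom y, rfl⟩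

lemma map_counit_eq_zero_iff {U : Scheme.{u}} (j : U ⟶ X) [IsOpenImmersion j]
    (F : EtCoh.Ab X) {Y : X.Etale} (s : F.obj.obj (op Y)) :
    F.obj.map ((adjJ j).counit.app Y).op s = 0 ↔ VanOn F (Set.range j) s := by
  constructor
  · intro h V g hV
    obtain ⟨k, rfl⟩ := exists_lift_counit j g hV
    rw [map_comp_apply, h, map_zero]
  · intro h
    exact h _ _ (range_compEtale_bc_subset j Y)


lemma map_compEtale_counit_eq_zero_iff {X' U' : Scheme.{u}} (f : X' ⟶ X) [Etale f]
    (j' : U' ⟶ X') [IsOpenImmersion j'] (W : Set X) (hW : Set.range j' = f ⁻¹' W)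
    (F : EtCoh.Ab X) {Y' : X'.Etale} (s : F.obj.obj (op ((EtShriek.compEtale f).obj Y'))) :
    F.obj.map ((EtShriek.compEtale f).map ((adjJ j').counit.app Y')).op s = 0 ↔ VanOn F W s := by
  constructor
  · intro h V g hV
    let gl : V.left ⟶ Y'.left := g.left
    have : Etale gl := inferInstanceAs (Etale g.left)
    let V' : X'.Etale := Scheme.Etale.mk (gl ≫ Y'.hom)
    let g' : V' ⟶ Y' := MorphismProperty.Over.homMk gl rfl
    have hw : (gl ≫ Y'.hom) ≫ f = V.hom :=
      (Category.assoc _ _ _).trans (MorphismProperty.Over.w g)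
    have hV' : Set.range V'.hom ⊆ Set.range j' := by
      rintro _ ⟨y, rfl⟩
      rw [hW]
      show f ((gl ≫ Y'.hom) y) ∈ W
      rw [← Scheme.Hom.comp_apply, hw]
      exact hV ⟨y, rfl⟩
    obtain ⟨k', hk'⟩ := exists_lift_counit j' g' hV'
    let k₀ : V ⟶ (EtShriek.compEtale f).obj V' :=
      MorphismProperty.Over.homMk (𝟙 V.left) ((Category.id_comp _).trans hw)
    have hg : g = (k₀ ≫ (EtShriek.compEtale f).map k') ≫
        (EtShriek.compEtale f).map ((adjJ j').counit.app Y') := by
      rw [Category.assoc, ← Functor.map_comp, hk']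
      apply MorphismProperty.Over.Hom.ext
      exact ((MorphismProperty.Comma.comp_left _ _).trans (Category.id_comp _)).symm
    rw [hg, map_comp_apply, h, map_zero]
  · intro h
    refine h _ _ ?_
    rintro _ ⟨y, rfl⟩
    have : ((EtShriek.compEtale j').obj ((EtCoh.bc j').obj Y')).hom y ∈ f ⁻¹' W := by
      rw [← hW]
      exact range_compEtale_bc_subset j' Y' ⟨y, rfl⟩
    exact this


/-- excision data: `B ⟶ X` étale, bijective over the complement of the open `W`, with trivial
residue field extensions there -/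
structure ExcData (W : X.Opens) (B : X.Etale) : Prop where
  surj : ∀ x : X, x ∉ W → ∃ x' : B.left, B.hom x' = x
  inj : ∀ x₁ x₂ : B.left, B.hom x₁ ∉ W → B.hom x₁ = B.hom x₂ → x₁ = x₂
  res : ∀ x : B.left, B.hom x ∉ W → Function.Surjective (B.hom.residueFieldMap x)

lemma range_hom_subset {V₁ V₂ : X.Etale} (m : V₁ ⟶ V₂) : Set.range V₁.hom ⊆ Set.range V₂.hom := by
  rintro _ ⟨y, rfl⟩
  exact ⟨m.left y, hom_apply m y⟩

variable {W : X.Opens} {B : X.Etale}

/-- two maps to `B` agree at points lying over the complement of `W` -/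
lemma fromSpecResidueField_comp_eq (hB : ExcData W B) {V : X.Etale} (h₁ h₂ : V ⟶ B) (v : V.left)
    (hv : V.hom v ∉ W) :
    V.left.fromSpecResidueField v ≫ h₁.left = V.left.fromSpecResidueField v ≫ h₂.left := by
  have e1 : B.hom (h₁.left v) = V.hom v := hom_apply h₁ v
  have e2 : B.hom (h₂.left v) = V.hom v := hom_apply h₂ v
  have e12 : h₁.left v = h₂.left v := hB.inj _ _ (by rw [e1]; exact hv) (e1.trans e2.symm)
  refine specField_hom_ext B.hom (V.left.residueField v) _ _ ?_ ?_ ?_
  · rw [Category.assoc, Category.assoc, MorphismProperty.Over.w h₁, MorphismProperty.Over.w h₂]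
  · show h₁.left (V.left.fromSpecResidueField v _) = h₂.left (V.left.fromSpecResidueField v _)
    rw [Scheme.fromSpecResidueField_apply]
    exact e12
  · apply hB.res
    show B.hom (h₁.left (V.left.fromSpecResidueField v _)) ∉ W
    rw [Scheme.fromSpecResidueField_apply, e1]
    exact hv

/-- the sieve on `V` of maps whose source lies over `W` or which equalize `h₁`, `h₂` -/
def eqSieve (W : X.Opens) {V B : X.Etale} (h₁ h₂ : V ⟶ B) : Sieve V where
  arrows V₁ k := Set.range V₁.hom ⊆ (W : Set X) ∨ k ≫ h₁ = k ≫ h₂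
  downward_closed := by
    rintro V₁ V₂ k (hk | hk) m
    · exact Or.inl ((range_hom_subset m).trans hk)
    · exact Or.inr (by rw [Category.assoc, Category.assoc, hk])

lemma eqSieve_mem (hB : ExcData W B) {V : X.Etale} (h₁ h₂ : V ⟶ B) :
    eqSieve W h₁ h₂ ∈ X.smallEtaleTopology V := by
  rw [mem_smallEtaleTopology_iff']
  intro v
  by_cases hv : V.hom v ∈ W
  · let V₁ : X.Etale := Scheme.Etale.mk ((V.hom ⁻¹ᵁ W).ι ≫ V.hom)
    let k : V₁ ⟶ V := MorphismProperty.Over.homMk (V.hom ⁻¹ᵁ W).ι rfl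
    refine ⟨V₁, k, ⟨v, hv⟩, Or.inl ?_, rfl⟩
    rintro _ ⟨y, rfl⟩
    exact y.2
  · obtain ⟨E, ι, hι, hιe, hmem⟩ := exists_open_equalizer B.hom h₁.left h₂.left
      ((MorphismProperty.Over.w h₁).trans (MorphismProperty.Over.w h₂).symm)
    obtain ⟨y, hy⟩ := hmem v (fromSpecResidueField_comp_eq hB h₁ h₂ v hv)
    let V₁ : X.Etale := Scheme.Etale.mk (ι ≫ V.hom)
    let k : V₁ ⟶ V := MorphismProperty.Over.homMk ι rfl
    refine ⟨V₁, k, y, Or.inr ?_, hy⟩
    apply MorphismProperty.Over.Hom.ext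
    exact hιe

/-- restrictions of a section over `B` vanishing over `W` do not depend on the map to `B` -/
lemma map_eq_of_vanOn (hB : ExcData W B) (F : EtCoh.Ab X) (s' : F.obj.obj (op B))
    (hs : VanOn F W s') {V : X.Etale} (h₁ h₂ : V ⟶ B) :
    F.obj.map h₁.op s' = F.obj.map h₂.op s' := by
  refine Sheaf.isSeparated F V _ (eqSieve_mem hB h₁ h₂) _ _ ?_
  rintro V₁ k (hk | hk)
  · rw [← map_comp_apply, ← map_comp_apply, hs _ _ hk, hs _ _ hk]
  · rw [← map_comp_apply, ← map_comp_apply, hk]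

/-- the sieve on the final object of étale `X`-schemes lying over `W` or mapping to `B` -/
def excSieve (W : X.Opens) (B : X.Etale) : Sieve (EtCoh.top X) where
  arrows V _ := Set.range V.hom ⊆ (W : Set X) ∨ Nonempty (V ⟶ B)
  downward_closed := by
    rintro V₁ V₂ k (hk | hk) m
    · exact Or.inl ((range_hom_subset m).trans hk)
    · obtain ⟨hk⟩ := hk
      exact Or.inr ⟨m ≫ hk⟩

lemma excSieve_mem (hB : ExcData W B) : excSieve W B ∈ X.smallEtaleTopology (EtCoh.top X) := by
  rw [mem_smallEtaleTopology_iff']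
  intro x
  by_cases hx : x ∈ W
  · refine ⟨Scheme.Etale.mk W.ι, (EtCore.topIsTerminal X).from _, ⟨x, hx⟩, Or.inl ?_, ?_⟩
    · rintro _ ⟨y, rfl⟩
      exact y.2
    · exact hom_apply ((EtCore.topIsTerminal X).from (Scheme.Etale.mk W.ι)) ⟨x, hx⟩
  · obtain ⟨x', hx'⟩ := hB.surj x hx
    refine ⟨B, (EtCore.topIsTerminal X).from _, x', Or.inr ⟨𝟙 B⟩, ?_⟩
    exact (hom_apply ((EtCore.topIsTerminal X).from B) x').trans hx'

/-- excision, injectivity -/
lemma eq_zero_of_vanOn (hB : ExcData W B) (F : EtCoh.Ab X) (b : B ⟶ EtCoh.top X)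
    (s : F.obj.obj (op (EtCoh.top X))) (hs : VanOn F W s) (hb : F.obj.map b.op s = 0) : s = 0 := by
  refine Sheaf.isSeparated F _ _ (excSieve_mem hB) _ _ ?_
  rintro V g (hg | hg)
  · rw [hs _ _ hg, map_zero]
  · obtain ⟨hg⟩ := hg
    have : g = hg ≫ b := (EtCore.topIsTerminal X).hom_ext _ _
    rw [this, map_comp_apply, hb, map_zero, map_zero]

/-- excision, compatibility -/
lemma vanOn_map (F : EtCoh.Ab X) {Y Y' : X.Etale} (b : Y' ⟶ Y) (W : Set X)
    (s : F.obj.obj (op Y)) (hs : VanOn F W s) : VanOn F W (F.obj.map b.op s) := by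
  intro V g hV
  rw [← map_comp_apply]
  exact hs _ _ hV

open Classical in
/-- excision, surjectivity -/
lemma exists_of_vanOn (hB : ExcData W B) (F : EtCoh.Ab X) (b : B ⟶ EtCoh.top X)
    (s' : F.obj.obj (op B)) (hs : VanOn F W s') :
    ∃ s : F.obj.obj (op (EtCoh.top X)), VanOn F W s ∧ F.obj.map b.op s = s' := by
  have hF : Presieve.IsSheaf X.smallEtaleTopology (F.obj ⋙ forget AddCommGrpCat.{u + 1}) :=
    (isSheaf_iff_isSheaf_of_type _ _).1
      ((sheafCompose X.smallEtaleTopology (forget AddCommGrpCat.{u + 1})).obj F).2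
  let x : Presieve.FamilyOfElements (F.obj ⋙ forget AddCommGrpCat.{u + 1}) (excSieve W B).arrows :=
    fun V _ _ => if h : Nonempty (V ⟶ B) then F.obj.map h.some.op s' else (0 : F.obj.obj (op V))
  have hx : x.Compatible := by
    rw [Presieve.compatible_iff_sieveCompatible]
    intro Y Z g m hg
    by_cases hY : Nonempty (Y ⟶ B)
    · have hZ : Nonempty (Z ⟶ B) := ⟨m ≫ hY.some⟩
      show (if h : Nonempty (Z ⟶ B) then F.obj.map h.some.op s' else (0 : F.obj.obj (op Z))) =
        F.obj.map m.op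
          (if h : Nonempty (Y ⟶ B) then F.obj.map h.some.op s' else (0 : F.obj.obj (op Y)))
      rw [dif_pos hY, dif_pos hZ, ← map_comp_apply]
      exact map_eq_of_vanOn hB F s' hs _ _
    · have hYW : Set.range Y.hom ⊆ (W : Set X) := hg.resolve_right hY
      show (if h : Nonempty (Z ⟶ B) then F.obj.map h.some.op s' else (0 : F.obj.obj (op Z))) =
        F.obj.map m.op
          (if h : Nonempty (Y ⟶ B) then F.obj.map h.some.op s' else (0 : F.obj.obj (op Y)))
      rw [dif_neg hY, map_zero]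
      by_cases hZ : Nonempty (Z ⟶ B)
      · rw [dif_pos hZ]
        exact hs _ _ ((range_hom_subset m).trans hYW)
      · rw [dif_neg hZ]
  let s : F.obj.obj (op (EtCoh.top X)) := (hF _ (excSieve_mem hB)).amalgamate x hx
  have hsx : ∀ {V : X.Etale} (g : V ⟶ EtCoh.top X) (hg : (excSieve W B).arrows g),
      F.obj.map g.op s = x g hg := fun g hg =>
    Presieve.IsSheafFor.valid_glue (hF _ (excSieve_mem hB)) hx g hg
  refine ⟨s, ?_, ?_⟩
  · intro V g hV
    rw [hsx g (Or.inl hV)]
    show (if h : Nonempty (V ⟶ B) then F.obj.map h.some.op s' else (0 : F.obj.obj (op V))) = 0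
    by_cases hZ : Nonempty (V ⟶ B)
    · rw [dif_pos hZ]
      exact hs _ _ hV
    · rw [dif_neg hZ]
  · rw [hsx b (Or.inr ⟨𝟙 B⟩)]
    show (if h : Nonempty (B ⟶ B) then F.obj.map h.some.op s' else (0 : F.obj.obj (op B))) = s'
    rw [dif_pos ⟨𝟙 B⟩, map_eq_of_vanOn hB F s' hs _ (𝟙 B)]
    simp


end Van

section Gamma

/-- global sections -/
noncomputable abbrev Γf (X : Scheme.{u}) : EtCoh.Ab X ⥤ AddCommGrpCat.{u + 1} :=
  sheafToPresheaf X.smallEtaleTopology AddCommGrpCat.{u + 1} ⋙
    (evaluation X.Etaleᵒᵖ AddCommGrpCat.{u + 1}).obj (op (EtCoh.top X))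

instance (X : Scheme.{u}) : PreservesFiniteLimits (Γf X) := inferInstance
instance (X : Scheme.{u}) : (Γf X).Additive := inferInstance

variable {U X : Scheme.{u}} (j : U ⟶ X) [IsOpenImmersion j]

/-- the inclusion `Γ_Z(X, F) ⟶ Γ(X, F)` -/
noncomputable def ιΓ : EtDual.gammaSupp j ⟶ Γf X :=
  Functor.whiskerRight (ιNat j) (Γf X)

lemma unitApp_app_eq_zero_iff (F : EtCoh.Ab X) (V : X.Etale) (s : F.obj.obj (op V)) :
    (EtDual.unitApp j F).hom.app (op V) s = 0 ↔ F.obj.map ((adjJ j).counit.app V).op s = 0 := by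
  have h1 : ((adjR j).unit.app F).hom.app (op V) = F.obj.map ((adjJ j).counit.app V).op := by
    simp [adjR]
  have h2 := congrArg (fun t => t.hom.app (op V)) (unitApp_comp_pullIsoRestr j F)
  simp only [ObjectProperty.FullSubcategory.comp_hom, NatTrans.comp_app] at h2
  have hinj : Function.Injective
      (((EtCoh.push j).map ((pullIsoRestr j).hom.app F)).hom.app (op V)) := by
    rw [← AddCommGrpCat.mono_iff_injective]
    have : IsIso (((EtCoh.push j).map ((pullIsoRestr j).hom.app F)).hom.app (op V)) :=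
      inferInstanceAs (IsIso (((sheafSections _ _).obj (op V)).map
        ((EtCoh.push j).map ((pullIsoRestr j).hom.app F))))
    infer_instance
  have h3 : F.obj.map ((adjJ j).counit.app V).op s =
      ((EtCoh.push j).map ((pullIsoRestr j).hom.app F)).hom.app (op V)
        ((EtDual.unitApp j F).hom.app (op V) s) := by
    rw [← h1, ← h2]; rfl
  rw [h3]
  constructor
  · intro h
    exact (congrArg _ h).trans (map_zero _)
  · intro h
    exact hinj (h.trans (map_zero _).symm)

omit [IsOpenImmersion j] in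
lemma ιΓ_injective (F : EtCoh.Ab X) : Function.Injective ((ιΓ j).app F) := by
  rw [← AddCommGrpCat.mono_iff_injective]
  have : Mono ((Γf X).map (kernel.ι (EtDual.unitApp j F))) := inferInstance
  exact this

lemma ιΓ_range (F : EtCoh.Ab X) (s : F.obj.obj (op (EtCoh.top X))) :
    (∃ y, (ιΓ j).app F y = s) ↔ F.obj.map ((adjJ j).counit.app (EtCoh.top X)).op s = 0 := by
  rw [← unitApp_app_eq_zero_iff]
  have hS := (ShortComplex.exact_kernel (EtDual.unitApp j F)).map_of_mono_of_preservesKernel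
    (Γf X) (inferInstanceAs (Mono (kernel.ι (EtDual.unitApp j F)))) inferInstance
  constructor
  · rintro ⟨y, rfl⟩
    have := ((ShortComplex.mk _ _ (kernel.condition (EtDual.unitApp j F))).map (Γf X)).zero
    exact congr($this y)
  · intro h
    exact (ShortComplex.ab_exact_iff _).1 hS s h


end Gamma

/-- a subfunctor of a left exact functor `H` cut out by a natural transformation to a functor
preserving monomorphisms is left exact -/
theorem preservesFiniteLimits_of_kernel {A : Type v} [Category.{w} A] [Abelian A]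
    {G H H' : A ⥤ AddCommGrpCat.{u}} [G.Additive] [H.Additive] [PreservesFiniteLimits H]
    [H'.PreservesMonomorphisms] (ι : G ⟶ H) (θ : H ⟶ H')
    (hinj : ∀ X, Function.Injective (ι.app X))
    (hrange : ∀ X (s : H.obj X), (∃ y, ι.app X y = s) ↔ θ.app X s = 0) :
    PreservesFiniteLimits G := by
  rw [Functor.preservesFiniteLimits_iff_forall_exact_map_and_mono]
  intro S hS
  have := hS.mono_f
  obtain ⟨hHex, hHmono⟩ :=
    (Functor.preservesFiniteLimits_iff_forall_exact_map_and_mono H).1 inferInstance S hS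
  have hHinj : Function.Injective (H.map S.f) := (AddCommGrpCat.mono_iff_injective _).1 hHmono
  have hH'inj : Function.Injective (H'.map S.f) :=
    (AddCommGrpCat.mono_iff_injective _).1 inferInstance
  have nι : ∀ {X Y : A} (φ : X ⟶ Y) (y : G.obj X), ι.app Y (G.map φ y) = H.map φ (ι.app X y) :=
    fun φ y => congr($(ι.naturality φ) y)
  have nθ : ∀ {X Y : A} (φ : X ⟶ Y) (y : H.obj X), θ.app Y (H.map φ y) = H'.map φ (θ.app X y) :=
    fun φ y => congr($(θ.naturality φ) y)
  constructor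
  · rw [ShortComplex.ab_exact_iff]
    intro y hy
    have h1 : (S.map H).g (ι.app S.X₂ y) = 0 := by
      show H.map S.g (ι.app S.X₂ y) = 0
      rw [← nι]
      exact (congrArg _ hy).trans (map_zero _)
    obtain ⟨x, hx⟩ := (ShortComplex.ab_exact_iff _).1 hHex _ h1
    have hx' : H.map S.f x = ι.app S.X₂ y := hx
    have h2 : θ.app S.X₁ x = 0 := by
      apply hH'inj
      rw [← nθ, hx', map_zero]
      exact (hrange _ _).1 ⟨y, rfl⟩
    obtain ⟨x', rfl⟩ := (hrange _ _).2 h2
    refine ⟨x', ?_⟩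
    apply hinj
    show ι.app S.X₂ (G.map S.f x') = _
    rw [nι, hx']
  · rw [AddCommGrpCat.mono_iff_injective]
    intro a b hab
    apply hinj
    apply hHinj
    rw [← nι, ← nι]
    exact congrArg _ hab


section LeftExact

variable {U X : Scheme.{u}} (j : U ⟶ X) [IsOpenImmersion j]

/-- `Γ_Z(X, -)` is left exact -/
instance preservesFiniteLimits_gammaSupp : PreservesFiniteLimits (EtDual.gammaSupp j) := by
  let c := (adjJ j).counit.app (EtCoh.top X)
  let H' : EtCoh.Ab X ⥤ AddCommGrpCat.{u + 1} :=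
    sheafToPresheaf X.smallEtaleTopology AddCommGrpCat.{u + 1} ⋙
      (evaluation X.Etaleᵒᵖ AddCommGrpCat.{u + 1}).obj
        (op ((EtShriek.compEtale j).obj ((EtCoh.bc j).obj (EtCoh.top X))))
  have : PreservesFiniteLimits H' := inferInstance
  let θ : Γf X ⟶ H' :=
    Functor.whiskerLeft (sheafToPresheaf X.smallEtaleTopology AddCommGrpCat.{u + 1})
      ((evaluation X.Etaleᵒᵖ AddCommGrpCat.{u + 1}).map c.op)
  exact preservesFiniteLimits_of_kernel (ιΓ j) θ (ιΓ_injective j) (fun F s => ιΓ_range j F s)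

end LeftExact

section Assemble

variable {X X' : Scheme.{u}} (f : X' ⟶ X) [Etale f] [EtShriek.JCont f]

/-- `X'` as an étale `X`-scheme -/
noncomputable abbrev Bf : X.Etale := (EtShriek.compEtale f).obj (EtCoh.top X')

/-- the structure map `X' ⟶ X` in the étale site -/
noncomputable abbrev bf : Bf f ⟶ EtCoh.top X := (EtCore.topIsTerminal X).from _

/-- sections of `f⁻¹ F` over `V'` are sections of `F` over `V' ⟶ X' ⟶ X` -/
noncomputable def secIso (F : EtCoh.Ab X) (V' : X'.Etale) :
    ((EtCoh.pull f).obj F).obj.obj (op V') ≅ F.obj.obj (op ((EtShriek.compEtale f).obj V')) :=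
  ((sheafSections _ _).obj (op V')).mapIso ((pullIsoRestr f).app F)

lemma secIso_naturality (F : EtCoh.Ab X) {V' V'' : X'.Etale} (g : V' ⟶ V'')
    (x : ((EtCoh.pull f).obj F).obj.obj (op V'')) :
    (secIso f F V').hom (((EtCoh.pull f).obj F).obj.map g.op x) =
      F.obj.map ((EtShriek.compEtale f).map g).op ((secIso f F V'').hom x) := by
  have := ((pullIsoRestr f).hom.app F).hom.naturality g.op
  exact congr($this x)

/-- restriction of global sections along `f` -/
noncomputable def resΓ : Γf X ⟶ EtCoh.pull f ⋙ Γf X' where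
  app F := F.obj.map (bf f).op ≫ (secIso f F (EtCoh.top X')).inv
  naturality F G φ := by
    have h1 : (Γf X).map φ ≫ G.obj.map (bf f).op = F.obj.map (bf f).op ≫ φ.hom.app (op (Bf f)) :=
      (φ.hom.naturality (bf f).op).symm
    have h2 := congrArg (fun t => t.hom.app (op (EtCoh.top X'))) ((pullIsoRestr f).inv.naturality φ)
    simp only [ObjectProperty.FullSubcategory.comp_hom, NatTrans.comp_app] at h2
    rw [← Category.assoc, h1, Category.assoc, Category.assoc]
    congr 1

lemma resΓ_app_apply (F : EtCoh.Ab X) (s : F.obj.obj (op (EtCoh.top X))) :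
    (secIso f F (EtCoh.top X')).hom ((resΓ f).app F s) = F.obj.map (bf f).op s := by
  show (secIso f F (EtCoh.top X')).hom ((secIso f F (EtCoh.top X')).inv (F.obj.map (bf f).op s)) = _
  simp

variable {U U' : Scheme.{u}} (j : U ⟶ X) [IsOpenImmersion j] (j' : U' ⟶ X') [IsOpenImmersion j']

theorem nonempty_gammaSupp_iso (hB : ExcData j.opensRange (Bf f))
    (hU' : Set.range j' = f ⁻¹' Set.range j) :
    Nonempty (EtDual.gammaSupp j ≅ EtCoh.pull f ⋙ EtDual.gammaSupp j') := by
  have hW : ((j.opensRange : X.Opens) : Set X) = Set.range j := Scheme.Hom.coe_opensRange j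
  -- description of the two subgroups
  have hA : ∀ (F : EtCoh.Ab X) (s : F.obj.obj (op (EtCoh.top X))),
      (∃ y, (ιΓ j).app F y = s) ↔ VanOn F (j.opensRange : Set X) s := by
    intro F s
    rw [ιΓ_range, map_counit_eq_zero_iff, hW]
  have hA' : ∀ (F : EtCoh.Ab X) (x : ((EtCoh.pull f).obj F).obj.obj (op (EtCoh.top X'))),
      (∃ y, (ιΓ j').app ((EtCoh.pull f).obj F) y = x) ↔
        VanOn F (j.opensRange : Set X) ((secIso f F (EtCoh.top X')).hom x) := by
    intro F x
    have hn := secIso_naturality f F ((adjJ j').counit.app (EtCoh.top X')) x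
    rw [ιΓ_range, ← map_compEtale_counit_eq_zero_iff f j' _ (hW ▸ hU')]
    constructor
    · intro h
      exact hn.symm.trans ((congrArg _ h).trans (map_zero _))
    · intro h
      have := congrArg (secIso f F _).inv (hn.trans h)
      simpa using this
  refine nonempty_natIso_of_range_eq (ιΓ j ≫ resΓ f) (Functor.whiskerLeft (EtCoh.pull f) (ιΓ j'))
    ?_ (fun F => ιΓ_injective j' _) ?_
  · intro F
    rw [injective_iff_map_eq_zero]
    intro y hy
    apply ιΓ_injective j F
    rw [map_zero]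
    have h1 : VanOn F (j.opensRange : Set X) ((ιΓ j).app F y) := (hA F _).1 ⟨y, rfl⟩
    refine eq_zero_of_vanOn hB F (bf f) _ h1 ?_
    rw [← resΓ_app_apply]
    have : (resΓ f).app F ((ιΓ j).app F y) = 0 := hy
    rw [this, map_zero]
  · intro F x
    show (∃ y, (resΓ f).app F ((ιΓ j).app F y) = x) ↔
      (∃ y, (ιΓ j').app ((EtCoh.pull f).obj F) y = x)
    rw [hA']
    constructor
    · rintro ⟨y, rfl⟩
      rw [resΓ_app_apply]
      exact vanOn_map F (bf f) _ _ ((hA F _).1 ⟨y, rfl⟩)
    · intro h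
      obtain ⟨s, hs, hsx⟩ := exists_of_vanOn hB F (bf f) _ h
      obtain ⟨y, rfl⟩ := (hA F s).2 hs
      refine ⟨y, ?_⟩
      have := congrArg (secIso f F (EtCoh.top X')).inv ((resΓ_app_apply f F _).trans hsx)
      simpa using this

include f in
theorem nonempty_HY_iso (hB : ExcData j.opensRange (Bf f))
    (hU' : Set.range j' = f ⁻¹' Set.range j) (F : EtCoh.Ab X) (r : ℕ) :
    Nonempty ((EtDual.HY j r).obj F ≅ (EtDual.HY j' r).obj ((EtCoh.pull f).obj F)) := by
  obtain ⟨e₀⟩ := nonempty_gammaSupp_iso f j j' hB hU'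
  have : (EtCoh.pull f).Additive := (EtCoh.pullPushAdj f).left_adjoint_additive
  have : PreservesFiniteLimits (EtCoh.pull f) := Groth.Agent.S0101.result f
  have : PreservesFiniteColimits (EtCoh.pull f) := by
    have : PreservesColimitsOfSize.{0, 0} (EtCoh.pull f) :=
      (EtCoh.pullPushAdj f).leftAdjoint_preservesColimits
    exact PreservesColimitsOfSize.preservesFiniteColimits _
  have : (EtCoh.pull f).PreservesInjectiveObjects := pull_preservesInjectives f
  obtain ⟨e₁⟩ := Groth.Agent.Lib.Helper33.ExtDelta.nonempty_rightDerived_exact_comp_iso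
    (EtCoh.pull f) (EtDual.gammaSupp j') r
  exact ⟨(Groth.Agent.Lib.Lead.DegLeray.rightDerivedIso e₀ r).app F ≪≫ e₁.app F⟩

omit [EtShriek.JCont f] [IsOpenImmersion j'] in
theorem excData_of_bijOn (hU' : Set.range j'.base = f.base ⁻¹' Set.range j.base)
    (hZ : Set.BijOn f.base (Set.range j'.base)ᶜ (Set.range j.base)ᶜ)
    (hκ : ∀ x' : ↥X', x' ∉ Set.range j'.base → Function.Surjective (f.residueFieldMap x')) :
    ExcData j.opensRange (Bf f) := by
  have hmem : ∀ x' : X', f.base x' ∉ Set.range j.base → x' ∈ (Set.range j'.base)ᶜ := by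
    intro x' hx' h
    rw [hU'] at h
    exact hx' h
  refine ⟨?_, ?_, ?_⟩
  · intro x hx
    obtain ⟨x', -, rfl⟩ := hZ.surjOn (show x ∈ (Set.range j.base)ᶜ from hx)
    exact ⟨x', rfl⟩
  · intro x₁ x₂ h1 h2
    have h1' : f.base x₁ ∉ Set.range j.base := h1
    have h2' : f.base x₁ = f.base x₂ := h2
    exact hZ.injOn (hmem x₁ h1') (hmem x₂ (h2' ▸ h1')) h2'
  · intro x hx
    have hx' : f.base x ∉ Set.range j.base := hx
    have e := Scheme.Hom.residueFieldMap_congr (Category.id_comp f).symm x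
    have hs := hκ x (hmem x hx')
    rw [e] at hs
    intro y
    obtain ⟨z, hz⟩ := hs y
    exact ⟨(X.residueFieldCongr (show f.base x = (Bf f).hom.base x from rfl)).hom z, hz⟩

end Assemble

end Groth.Agent.Lib.Helper33.EtExcision
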