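import Groth.Agent.Lib.Helper33.EtExcision
import Mathlib.Algebra.Homology.DerivedCategory.Ext.ExactSequences
import Mathlib.AlgebraicGeometry.Gluing

/-!
# Totally acyclic étale sheaves restrict surjectively along open immersions (helper33)

* `inl_eq_inr_iff`, `inl_inr_jointly_surjective`: the pushout `U ⊔_V U` of an open immersion
  `V ⟶ U` with itself (Mathlib's locally directed gluing);
* `gsec_surjective_of_H1`, `sections_surjective_of_H1`: `H¹(W, F|_W) = 0` implies `I(W) → Q(W)`
  surjective for `0 → F → I → Q → 0`;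
* `map_surjective_of_H1`: the restriction `F(U) → F(V)` is surjective.
-/

set_option autoImplicit false
universe u
open CategoryTheory CategoryTheory.Limits AlgebraicGeometry Opposite Abelian

namespace Groth.Agent.Lib.Helper33.EtFlasque
open Groth.Agent.Lib.Helper4.EtRestr Groth.Agent.Lib.Helper33.EtExcision
open Groth.Agent.Lib.Helper43.EtOpenSub

section Glue

variable {U V : Scheme.{u}} (g : V ⟶ U) [IsOpenImmersion g]

instance isOpenImmersion_span_map {i j : WalkingSpan} (f : i ⟶ j) :
    IsOpenImmersion ((span g g).map f) := by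
  rcases f with _ | k
  · simp only [WidePushoutShape.hom_id, CategoryTheory.Functor.map_id]
    infer_instance
  · rcases k with _ | _
    · exact inferInstanceAs (IsOpenImmersion g)
    · exact inferInstanceAs (IsOpenImmersion g)

instance : HasPushout g g := inferInstanceAs (HasColimit (span g g))

instance : IsOpenImmersion (pushout.inl g g) :=
  inferInstanceAs (IsOpenImmersion (colimit.ι (span g g) WalkingSpan.left))

instance : IsOpenImmersion (pushout.inr g g) :=
  inferInstanceAs (IsOpenImmersion (colimit.ι (span g g) WalkingSpan.right))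

lemma inl_eq_inr_iff (x y : U) :
    pushout.inl g g x = pushout.inr g g y ↔ ∃ z : V, g z = x ∧ g z = y := by
  constructor
  · intro h
    obtain ⟨k, fi, fj, z, hz1, hz2⟩ :=
      (Scheme.IsLocallyDirected.ι_eq_ι_iff (F := span g g) (i := WalkingSpan.left)
        (j := WalkingSpan.right)).1 h
    rcases fi with _ | a
    · rcases fj with _ | b
    · rcases fj with _ | b
      exact ⟨z, hz1, hz2⟩
  · rintro ⟨z, rfl, rfl⟩
    rw [← Scheme.Hom.comp_apply, ← Scheme.Hom.comp_apply, pushout.condition]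

lemma inl_inr_jointly_surjective (w : (pushout g g : Scheme.{u})) :
    (∃ x, pushout.inl g g x = w) ∨ (∃ x, pushout.inr g g x = w) := by
  obtain ⟨i, xi, h⟩ := Scheme.IsLocallyDirected.ι_jointly_surjective (span g g) w
  rcases i with _ | i
  · left
    refine ⟨g xi, ?_⟩
    rw [← h, ← Scheme.Hom.comp_apply]
    have e : g ≫ pushout.inl g g = colimit.ι (span g g) none :=
      colimit.w (span g g) WalkingSpan.Hom.fst
    rw [e]
    rfl
  · rcases i with _ | _
    · exact Or.inl ⟨xi, h⟩
    · exact Or.inr ⟨xi, h⟩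


end Glue

/-- if `H¹(Y, S.X₁) = 0` then `Γ(Y, S.X₂) → Γ(Y, S.X₃)` is surjective -/
lemma gsec_surjective_of_H1 {Y : Scheme.{u}} (S : ShortComplex (EtCoh.Ab Y)) (hS : S.ShortExact)
    (h : Subsingleton (EtCoh.H Y S.X₁ 1)) :
    Function.Surjective (S.g.hom.app (op (EtCoh.top Y))) := by
  intro q
  let adj := EtCore.constAdj Y
  let m : AddCommGrpCat.of (ULift.{u + 1} ℤ) ⟶ (EtCore.gsec Y).obj S.X₃ :=
    AddCommGrpCat.ofHom (((zmultiplesHom _) q).comp AddEquiv.ulift.toAddMonoidHom)
  let φ := (adj.homEquiv _ _).symm m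
  have hφ : (Ext.mk₀ φ).comp hS.extClass (zero_add 1) = 0 := Subsingleton.elim _ _
  obtain ⟨x₂, hx₂⟩ := Ext.covariant_sequence_exact₃ _ hS (Ext.mk₀ φ) (zero_add 1) hφ
  obtain ⟨ψ, rfl⟩ := (Ext.mk₀_bijective _ _).2 x₂
  rw [Ext.mk₀_comp_mk₀] at hx₂
  have hψ : ψ ≫ S.g = φ := (Ext.mk₀_bijective _ _).1 hx₂
  refine ⟨(adj.homEquiv _ _ ψ) ⟨1⟩, ?_⟩
  have h1 := adj.homEquiv_naturality_right ψ S.g
  rw [hψ] at h1
  have h2 : adj.homEquiv _ _ φ = m := Equiv.apply_symm_apply _ _
  rw [h2] at h1
  have h3 := congr($h1 ⟨1⟩)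
  have h4 : m ⟨1⟩ = q := by
    simp only [m]
    exact one_zsmul q
  rw [h4] at h3
  exact h3.symm


lemma secIso_naturality_sheaf {X X' : Scheme.{u}} (f : X' ⟶ X) [Etale f] [EtShriek.JCont f]
    {F F' : EtCoh.Ab X} (φ : F ⟶ F') (V' : X'.Etale)
    (x : ((EtCoh.pull f).obj F).obj.obj (op V')) :
    (secIso f F' V').hom (((EtCoh.pull f).map φ).hom.app (op V') x) =
      φ.hom.app (op ((EtShriek.compEtale f).obj V')) ((secIso f F V').hom x) := by
  have h := congrArg (fun t => t.hom.app (op V')) ((pullIsoRestr f).hom.naturality φ)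
  simp only [ObjectProperty.FullSubcategory.comp_hom, NatTrans.comp_app] at h
  exact congr($h x)

/-- if `H¹(W, F|_W) = 0` then `I(W) → Q(W)` is surjective for `0 → F → I → Q → 0` exact -/
lemma sections_surjective_of_H1 {X : Scheme.{u}} (W : X.Etale) (S : ShortComplex (EtCoh.Ab X))
    (hS : S.ShortExact)
    (h : Subsingleton (EtCoh.H W.left ((EtCoh.pull W.hom).obj S.X₁) 1)) :
    Function.Surjective (S.g.hom.app (op W)) := by
  have : EtShriek.JCont W.hom := jCont W.hom
  have : (EtCoh.pull W.hom).Additive := (EtCoh.pullPushAdj W.hom).left_adjoint_additive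
  have : PreservesFiniteLimits (EtCoh.pull W.hom) := Groth.Agent.S0101.result W.hom
  have : PreservesFiniteColimits (EtCoh.pull W.hom) := by
    have : PreservesColimitsOfSize.{0, 0} (EtCoh.pull W.hom) :=
      (EtCoh.pullPushAdj W.hom).leftAdjoint_preservesColimits
    exact PreservesColimitsOfSize.preservesFiniteColimits _
  have hsurj := gsec_surjective_of_H1 (S.map (EtCoh.pull W.hom))
    (hS.map_of_exact (EtCoh.pull W.hom)) h
  let W₀ : X.Etale := (EtShriek.compEtale W.hom).obj (EtCoh.top W.left)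
  let e₀ : W₀ ⟶ W := MorphismProperty.Over.homMk (𝟙 W.left) rfl
  let e₀' : W ⟶ W₀ := MorphismProperty.Over.homMk (𝟙 W.left)
    ((Category.id_comp _).trans (Category.id_comp _))
  have he : e₀' ≫ e₀ = 𝟙 W := by
    apply MorphismProperty.Over.Hom.ext
    exact (MorphismProperty.Comma.comp_left _ _).trans (Category.id_comp _)
  intro q
  obtain ⟨i'', hi''⟩ := hsurj ((secIso W.hom S.X₃ (EtCoh.top W.left)).inv (S.X₃.obj.map e₀.op q))
  refine ⟨S.X₂.obj.map e₀'.op ((secIso W.hom S.X₂ (EtCoh.top W.left)).hom i''), ?_⟩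
  have h1 := secIso_naturality_sheaf W.hom S.g (EtCoh.top W.left) i''
  have h2 : (secIso W.hom S.X₃ (EtCoh.top W.left)).hom
      (((EtCoh.pull W.hom).map S.g).hom.app (op (EtCoh.top W.left)) i'') = S.X₃.obj.map e₀.op q := by
    exact (congrArg (secIso W.hom S.X₃ (EtCoh.top W.left)).hom hi'').trans (by simp)
  have h3 : S.g.hom.app (op W) (S.X₂.obj.map e₀'.op
      ((secIso W.hom S.X₂ (EtCoh.top W.left)).hom i'')) =
      S.X₃.obj.map e₀'.op (S.g.hom.app (op W₀) ((secIso W.hom S.X₂ (EtCoh.top W.left)).hom i'')) :=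
    congr($(S.g.hom.naturality e₀'.op) ((secIso W.hom S.X₂ (EtCoh.top W.left)).hom i''))
  rw [h3, ← h1, h2, ← map_comp_apply, he]
  simp


section Main

variable {X : Scheme.{u}} {U V : X.Etale} (g : V ⟶ U) [IsOpenImmersion g.left]

/-- the structure morphism of `U ⊔_V U` -/
noncomputable def glueHom : pushout g.left g.left ⟶ X := pushout.desc U.hom U.hom rfl

instance etale_glueHom : Etale (glueHom g) := by
  rw [IsZariskiLocalAtSource.iff_of_openCover (P := @Etale)
    (Scheme.IsLocallyDirected.openCover (span g.left g.left))]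
  intro i
  have e1 : pushout.inl g.left g.left ≫ glueHom g = U.hom := pushout.inl_desc _ _ _
  have e2 : pushout.inr g.left g.left ≫ glueHom g = U.hom := pushout.inr_desc _ _ _
  rcases i with _ | i
  · have e : colimit.ι (span g.left g.left) none = g.left ≫ pushout.inl g.left g.left :=
      (colimit.w (span g.left g.left) WalkingSpan.Hom.fst).symm
    have e3 : colimit.ι (span g.left g.left) none ≫ glueHom g = V.hom :=
      (congrArg (· ≫ glueHom g) e).trans ((Category.assoc _ _ _).trans
        ((congrArg (g.left ≫ ·) e1).trans (MorphismProperty.Over.w g)))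
    show Etale (colimit.ι (span g.left g.left) none ≫ glueHom g)
    rw [e3]
    exact V.prop
  · rcases i with _ | _
    · show Etale (pushout.inl g.left g.left ≫ glueHom g)
      rw [e1]; exact U.prop
    · show Etale (pushout.inr g.left g.left ≫ glueHom g)
      rw [e2]; exact U.prop

/-- `U ⊔_V U` as an étale `X`-scheme -/
noncomputable def glueObj : X.Etale := Scheme.Etale.mk (glueHom g)

/-- the two inclusions `U ⟶ U ⊔_V U` -/
noncomputable def glueInl : U ⟶ glueObj g :=
  MorphismProperty.Over.homMk (pushout.inl g.left g.left) (pushout.inl_desc _ _ _)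

noncomputable def glueInr : U ⟶ glueObj g :=
  MorphismProperty.Over.homMk (pushout.inr g.left g.left) (pushout.inr_desc _ _ _)

lemma glue_condition : g ≫ glueInl g = g ≫ glueInr g := by
  apply MorphismProperty.Over.Hom.ext
  exact pushout.condition

lemma glueInl_cancel {T : X.Etale} (a a' : T ⟶ U) (h : a ≫ glueInl g = a' ≫ glueInl g) :
    a = a' := by
  apply MorphismProperty.Over.Hom.ext
  have := congrArg (fun t => t.left) h
  exact (cancel_mono (pushout.inl g.left g.left)).1 this

lemma glueInr_cancel {T : X.Etale} (a a' : T ⟶ U) (h : a ≫ glueInr g = a' ≫ glueInr g) :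
    a = a' := by
  apply MorphismProperty.Over.Hom.ext
  have := congrArg (fun t => t.left) h
  exact (cancel_mono (pushout.inr g.left g.left)).1 this

/-- the intersection of the two copies of `U` in `U ⊔_V U` is `V` -/
lemma exists_lift_of_glue_eq {T : X.Etale} (a₁ a₂ : T ⟶ U)
    (h : a₁ ≫ glueInl g = a₂ ≫ glueInr g) : ∃ t : T ⟶ V, t ≫ g = a₁ ∧ t ≫ g = a₂ := by
  have hl : a₁.left ≫ pushout.inl g.left g.left = a₂.left ≫ pushout.inr g.left g.left :=
    congrArg (fun t => t.left) h
  have hr : Set.range a₁.left ⊆ Set.range g.left := by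
    rintro _ ⟨x, rfl⟩
    have hx : pushout.inl g.left g.left (a₁.left x) = pushout.inr g.left g.left (a₂.left x) := by
      rw [← Scheme.Hom.comp_apply, ← Scheme.Hom.comp_apply, hl]
    obtain ⟨z, hz, -⟩ := (inl_eq_inr_iff g.left _ _).1 hx
    exact ⟨z, hz⟩
  let tl : T.left ⟶ V.left := IsOpenImmersion.lift g.left a₁.left hr
  have htl : tl ≫ g.left = a₁.left := IsOpenImmersion.lift_fac _ _ _
  let t : T ⟶ V := MorphismProperty.Over.homMk tl (by
    rw [← MorphismProperty.Over.w g, ← Category.assoc, htl, MorphismProperty.Over.w a₁])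
  have ht1 : t ≫ g = a₁ := by
    apply MorphismProperty.Over.Hom.ext
    exact htl
  refine ⟨t, ht1, ?_⟩
  apply glueInr_cancel g
  rw [← h, ← ht1, Category.assoc, Category.assoc, glue_condition]

/-- the sieve on `U ⊔_V U` generated by the two copies of `U` -/
def glueSieve : Sieve (glueObj g) where
  arrows T a := (∃ a₁ : T ⟶ U, a = a₁ ≫ glueInl g) ∨ (∃ a₂ : T ⟶ U, a = a₂ ≫ glueInr g)
  downward_closed := by
    rintro T T' a (⟨a₁, rfl⟩ | ⟨a₂, rfl⟩) m
    · exact Or.inl ⟨m ≫ a₁, (Category.assoc _ _ _).symm⟩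
    · exact Or.inr ⟨m ≫ a₂, (Category.assoc _ _ _).symm⟩

lemma glueSieve_mem : glueSieve g ∈ X.smallEtaleTopology (glueObj g) := by
  rw [mem_smallEtaleTopology_iff']
  intro w
  rcases inl_inr_jointly_surjective g.left w with ⟨x, hx⟩ | ⟨x, hx⟩
  · exact ⟨U, glueInl g, x, Or.inl ⟨𝟙 U, (Category.id_comp _).symm⟩, hx⟩
  · exact ⟨U, glueInr g, x, Or.inr ⟨𝟙 U, (Category.id_comp _).symm⟩, hx⟩

open Classical in
/-- glue `q` on the first copy of `U` with `0` on the second copy -/
lemma exists_glue_section (Q : EtCoh.Ab X) (q : Q.obj.obj (op U)) (hq : Q.obj.map g.op q = 0) :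
    ∃ q' : Q.obj.obj (op (glueObj g)),
      Q.obj.map (glueInl g).op q' = q ∧ Q.obj.map (glueInr g).op q' = 0 := by
  have hQ : Presieve.IsSheaf X.smallEtaleTopology (Q.obj ⋙ forget AddCommGrpCat.{u + 1}) :=
    (isSheaf_iff_isSheaf_of_type _ _).1
      ((sheafCompose X.smallEtaleTopology (forget AddCommGrpCat.{u + 1})).obj Q).2
  let xf : ∀ (T : X.Etale) (a : T ⟶ glueObj g), Q.obj.obj (op T) := fun T a =>
    if h : ∃ a₁ : T ⟶ U, a = a₁ ≫ glueInl g then Q.obj.map h.choose.op q else 0
  have hx1 : ∀ {T : X.Etale} (a₁ : T ⟶ U), xf T (a₁ ≫ glueInl g) = Q.obj.map a₁.op q := by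
    intro T a₁
    have h : ∃ a₁' : T ⟶ U, a₁ ≫ glueInl g = a₁' ≫ glueInl g := ⟨a₁, rfl⟩
    show (if h : ∃ a₁' : T ⟶ U, a₁ ≫ glueInl g = a₁' ≫ glueInl g then
      Q.obj.map h.choose.op q else 0) = _
    rw [dif_pos h, ← glueInl_cancel g _ _ h.choose_spec]
  have hx2 : ∀ {T : X.Etale} (a₂ : T ⟶ U), xf T (a₂ ≫ glueInr g) = 0 := by
    intro T a₂
    show (if h : ∃ a₁' : T ⟶ U, a₂ ≫ glueInr g = a₁' ≫ glueInl g then
      Q.obj.map h.choose.op q else 0) = 0
    by_cases h : ∃ a₁' : T ⟶ U, a₂ ≫ glueInr g = a₁' ≫ glueInl g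
    · rw [dif_pos h]
      obtain ⟨t, ht, -⟩ := exists_lift_of_glue_eq g h.choose a₂ h.choose_spec.symm
      rw [← ht, map_comp_apply, hq, map_zero]
    · rw [dif_neg h]
  let x : Presieve.FamilyOfElements (Q.obj ⋙ forget AddCommGrpCat.{u + 1})
      (glueSieve g).arrows := fun T a _ => xf T a
  have hx : x.Compatible := by
    rw [Presieve.compatible_iff_sieveCompatible]
    intro T T' a m ha
    show xf T' (m ≫ a) = Q.obj.map m.op (xf T a)
    rcases ha with ⟨a₁, rfl⟩ | ⟨a₂, rfl⟩
    · rw [← Category.assoc, hx1, hx1, map_comp_apply]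
    · rw [← Category.assoc, hx2, hx2, map_zero]
  let q' : Q.obj.obj (op (glueObj g)) := (hQ _ (glueSieve_mem g)).amalgamate x hx
  have hq' : ∀ {T : X.Etale} (a : T ⟶ glueObj g) (ha : (glueSieve g).arrows a),
      Q.obj.map a.op q' = xf T a := fun a ha =>
    Presieve.IsSheafFor.valid_glue (hQ _ (glueSieve_mem g)) hx a ha
  refine ⟨q', ?_, ?_⟩
  · rw [hq' _ (Or.inl ⟨𝟙 U, (Category.id_comp _).symm⟩), ← Category.id_comp (glueInl g), hx1]
    simp
  · rw [hq' _ (Or.inr ⟨𝟙 U, (Category.id_comp _).symm⟩), ← Category.id_comp (glueInr g), hx2]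


/-- sections over `T` of a short exact sequence of sheaves are left exact -/
lemma sections_leftExact (S : ShortComplex (EtCoh.Ab X)) (hS : S.ShortExact) (T : X.Etale) :
    Function.Injective (S.f.hom.app (op T)) ∧
      ∀ y : S.X₂.obj.obj (op T), S.g.hom.app (op T) y = 0 → ∃ x, S.f.hom.app (op T) x = y := by
  let G : EtCoh.Ab X ⥤ AddCommGrpCat.{u + 1} :=
    sheafToPresheaf X.smallEtaleTopology AddCommGrpCat.{u + 1} ⋙
      (evaluation X.Etaleᵒᵖ AddCommGrpCat.{u + 1}).obj (op T)
  have : PreservesFiniteLimits G := inferInstance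
  have := hS.mono_f
  constructor
  · rw [← AddCommGrpCat.mono_iff_injective]
    exact inferInstanceAs (Mono (G.map S.f))
  · have hex := hS.exact.map_of_mono_of_preservesKernel G hS.mono_f inferInstance
    exact (ShortComplex.ab_exact_iff _).1 hex

instance mono_of_isOpenImmersion_left : Mono g := by
  have h : Mono ((Scheme.Etale.forget X ⋙ Over.forget X).map g) :=
    inferInstanceAs (Mono g.left)
  exact (Scheme.Etale.forget X ⋙ Over.forget X).mono_of_mono_map h

/-- if `H¹(U ⊔_V U, F) = 0` then `F(U) → F(V)` is surjective -/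
theorem map_surjective_of_H1 (F : EtCoh.Ab X)
    (hF : Subsingleton
      (EtCoh.H (glueObj g).left ((EtCoh.pull (glueObj g).hom).obj F) 1)) :
    Function.Surjective (F.obj.map g.op) := by
  intro s
  let ι := Injective.ι F
  let π := cokernel.π ι
  let S : ShortComplex (EtCoh.Ab X) := ShortComplex.mk ι π (cokernel.condition ι)
  have hS : S.ShortExact :=
    { exact := ShortComplex.exact_cokernel ι
      mono_f := inferInstanceAs (Mono (Injective.ι F))
      epi_g := inferInstanceAs (Epi (cokernel.π ι)) }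
  have hinj : Injective S.X₂ := inferInstanceAs (Injective (Injective.under F))
  have nι : ∀ {T T' : X.Etale} (m : T' ⟶ T) (y : F.obj.obj (op T)),
      ι.hom.app (op T') (F.obj.map m.op y) = S.X₂.obj.map m.op (ι.hom.app (op T) y) :=
    fun m y => congr($(ι.hom.naturality m.op) y)
  have nπ : ∀ {T T' : X.Etale} (m : T' ⟶ T) (y : S.X₂.obj.obj (op T)),
      π.hom.app (op T') (S.X₂.obj.map m.op y) = S.X₃.obj.map m.op (π.hom.app (op T) y) :=
    fun m y => congr($(π.hom.naturality m.op) y)
  have hπι : ∀ (T : X.Etale) (y : F.obj.obj (op T)), π.hom.app (op T) (ι.hom.app (op T) y) = 0 := by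
    intro T y
    have := congrArg (fun t => t.hom.app (op T)) S.zero
    exact congr($this y)
  -- extend `s` to a section `t` of `I` over `U`
  obtain ⟨t, ht'⟩ : ∃ t : S.X₂.obj.obj (op U), S.X₂.obj.map g.op t = ι.hom.app (op V) s :=
    FreeSheafGen.surjective_map_of_injective_of_mono.{u + 1} S.X₂ g (ι.hom.app (op V) s)
  -- its image in `Q(U)` vanishes on `V`
  have hq : S.X₃.obj.map g.op (π.hom.app (op U) t) = 0 := by
    rw [← nπ, ht', hπι]
  obtain ⟨q', hq1, hq2⟩ := exists_glue_section g S.X₃ _ hq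
  obtain ⟨i', hi'⟩ := sections_surjective_of_H1 (glueObj g) S hS hF q'
  -- the two restrictions of `i'`
  obtain ⟨b, hb⟩ := (sections_leftExact S hS U).2 (S.X₂.obj.map (glueInr g).op i') (by
    show π.hom.app (op U) _ = 0
    rw [nπ]
    exact (congrArg _ hi').trans hq2)
  obtain ⟨a, ha⟩ := (sections_leftExact S hS U).2 (t - S.X₂.obj.map (glueInl g).op i') (by
    show π.hom.app (op U) _ = 0
    rw [map_sub, nπ]
    have : S.X₃.obj.map (glueInl g).op (π.hom.app (op (glueObj g)) i') = π.hom.app (op U) t :=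
      (congrArg _ hi').trans hq1
    rw [this, sub_self])
  refine ⟨a + b, ?_⟩
  apply (sections_leftExact S hS V).1
  show ι.hom.app (op V) (F.obj.map g.op (a + b)) = ι.hom.app (op V) s
  have ha' : ι.hom.app (op U) a = t - S.X₂.obj.map (glueInl g).op i' := ha
  have hb' : ι.hom.app (op U) b = S.X₂.obj.map (glueInr g).op i' := hb
  rw [nι, map_add, ha', hb', map_add, map_sub, ht', ← map_comp_apply, ← map_comp_apply,
    glue_condition]
  abel


end Main

end Groth.Agent.Lib.Helper33.EtFlasque
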