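import Groth.Agent.Lib.Helper33.FreeSheafGen
import Groth.Agent.Lib.Helper33.LocCohLES
import Groth.Agent.Lib.Helper33.ContraRes
import Groth.Agent.Lib.Helper33.DeltaPrecomp
import Groth.Agent.Lib.Helper4.EtRestr
import Groth.Prelude.Def_EtDual

/-!
# Local cohomology sheaves on the small étale site and `R j_*` (helper33)

For an open immersion `j : U ⟶ X`, the sequence of functors `Γ_Z ⟶ 𝟭 ⟶ j_* j⁻¹` on abelian étale
sheaves is short exact on injective sheaves.
-/

set_option autoImplicit false

universe u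

open CategoryTheory CategoryTheory.Limits AlgebraicGeometry Opposite

namespace Groth.Agent.Lib.Helper33.EtLocCoh

open Groth.Agent.Lib.Helper4.EtRestr Groth.Agent.Lib.Helper33.FunctorLES

variable {U X : Scheme.{u}} (j : U ⟶ X) [IsOpenImmersion j]

/-- the counit of `compEtale j ⊣ bc j` is a monomorphism when `j` is an open immersion -/
instance mono_counit_adjJ (V : X.Etale) : Mono ((adjJ j).counit.app V) := by
  have h : Mono ((Scheme.Etale.forget X ⋙ Over.forget X).map ((adjJ j).counit.app V)) := by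
    have : IsOpenImmersion (pullback.fst V.hom j) := inferInstance
    exact inferInstanceAs (Mono (pullback.fst V.hom j))
  exact (Scheme.Etale.forget X ⋙ Over.forget X).mono_of_mono_map h

/-- the unit of `restrAlong j ⊣ push j` is surjective on sections of an injective sheaf -/
lemma unit_adjR_surjective (I : EtCoh.Ab X) [Injective I] (V : X.Etale) :
    Function.Surjective (((adjR j).unit.app I).hom.app (op V)) := by
  have h : ((adjR j).unit.app I).hom.app (op V) = I.obj.map ((adjJ j).counit.app V).op := by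
    simp [adjR]
  rw [h]
  exact FreeSheafGen.surjective_map_of_injective_of_mono.{u + 1} I ((adjJ j).counit.app V)

/-- the unit `I ⟶ j_* (I|_U)` of `restrAlong j ⊣ push j` is an epimorphism for injective `I` -/
lemma epi_unit_adjR (I : EtCoh.Ab X) [Injective I] : Epi ((adjR j).unit.app I) := by
  have h : Presheaf.IsLocallySurjective X.smallEtaleTopology ((adjR j).unit.app I).hom :=
    Presheaf.isLocallySurjective_of_surjective _ _ (fun V => unit_adjR_surjective j I V.unop)
  have h' : Sheaf.IsLocallySurjective ((adjR j).unit.app I) := h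
  infer_instance

lemma unitApp_comp_pullIsoRestr (F : EtCoh.Ab X) :
    EtDual.unitApp j F ≫ (EtCoh.push j).map ((pullIsoRestr j).hom.app F) =
      (adjR j).unit.app F :=
  Adjunction.unit_leftAdjointUniq_hom_app _ _ F

/-- the unit `I ⟶ j_* j⁻¹ I` is an epimorphism for injective `I` -/
lemma epi_unitApp (I : EtCoh.Ab X) [Injective I] : Epi (EtDual.unitApp j I) := by
  have h1 := epi_unit_adjR j I
  have h2 : EtDual.unitApp j I = (adjR j).unit.app I ≫
      (EtCoh.push j).map ((pullIsoRestr j).inv.app I) := by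
    rw [← unitApp_comp_pullIsoRestr, Category.assoc, ← Functor.map_comp, Iso.hom_inv_id_app,
      CategoryTheory.Functor.map_id]
    exact (Category.comp_id _).symm
  rw [h2]
  infer_instance

/-- the inclusion `Γ_Z ⟶ 𝟭` -/
noncomputable def ιNat : EtDual.secSupp j ⟶ 𝟭 (EtCoh.Ab X) where
  app F := kernel.ι (EtDual.unitApp j F)
  naturality _ _ _ := kernel.lift_ι _ _ _

/-- the unit `𝟭 ⟶ j⁻¹ ⋙ j_*` -/
noncomputable abbrev unitNat : 𝟭 (EtCoh.Ab X) ⟶ EtCoh.pull j ⋙ EtCoh.push j :=
  (EtCoh.pullPushAdj j).unit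

lemma ιNat_unitNat : ιNat j ≫ unitNat j = 0 := by
  apply NatTrans.ext
  funext F
  exact kernel.condition (EtDual.unitApp j F)

instance additive_pull : (EtCoh.pull j).Additive :=
  (EtCoh.pullPushAdj j).left_adjoint_additive

instance preservesFiniteLimits_pull : PreservesFiniteLimits (EtCoh.pull j) :=
  Groth.Agent.S0101.result j

instance preservesFiniteLimits_push : PreservesFiniteLimits (EtCoh.push j) := by
  have : PreservesLimitsOfSize.{0, 0} (EtCoh.push j) :=
    (EtCoh.pullPushAdj j).rightAdjoint_preservesLimits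
  exact PreservesLimitsOfSize.preservesFiniteLimits _

instance preservesFiniteColimits_pull : PreservesFiniteColimits (EtCoh.pull j) := by
  have : PreservesColimitsOfSize.{0, 0} (EtCoh.pull j) :=
    (EtCoh.pullPushAdj j).leftAdjoint_preservesColimits
  exact PreservesColimitsOfSize.preservesFiniteColimits _

/-- `0 ⟶ Γ_Z I ⟶ I ⟶ j_* j⁻¹ I ⟶ 0` is short exact for injective `I` -/
theorem exactOnInjectives :
    ExactOnInjectives (ιNat j) (unitNat j) (ιNat_unitNat j) := by
  intro I hI
  exact
    { exact := ShortComplex.exact_kernel (EtDual.unitApp j I)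
      mono_f := inferInstanceAs (Mono (kernel.ι (EtDual.unitApp j I)))
      epi_g := epi_unitApp j I }

/-- `coker (F ⟶ j_* j⁻¹ F) ≅ H^1_Z(F)` -/
theorem nonempty_cokernel_unitApp_iso (F : EtCoh.Ab X) :
    Nonempty (cokernel (EtDual.unitApp j F) ≅ (EtDual.locCoh j 1).obj F) := by
  have hc := isCokernelρ (exactOnInjectives j) F (isZero_rightDerived_id_succ 0 F)
  exact ⟨(cokernelIsCokernel (EtDual.unitApp j F)).coconePointUniqueUpToIso hc⟩

/-- `R^p j_* (j⁻¹ F) ≅ H^{p+1}_Z(F)` for `p ≥ 1` -/
theorem nonempty_Rpush_pull_iso (F : EtCoh.Ab X) (p : ℕ) (hp : 1 ≤ p) :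
    Nonempty ((EtCoh.Rpush j p).obj ((EtCoh.pull j).obj F) ≅ (EtDual.locCoh j (p + 1)).obj F) := by
  obtain ⟨k, rfl⟩ : ∃ k, p = k + 1 := ⟨p - 1, by omega⟩
  have hiso : IsIso ((δ (exactOnInjectives j) (k + 1)).app F) :=
    isIso_δ_app (exactOnInjectives j) F (k + 1) (isZero_rightDerived_id_succ k F)
      (isZero_rightDerived_id_succ (k + 1) F)
  have : (EtCoh.pull j).PreservesInjectiveObjects := pull_preservesInjectives j
  obtain ⟨e⟩ := Groth.Agent.Lib.Helper33.ExtDelta.nonempty_rightDerived_exact_comp_iso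
    (EtCoh.pull j) (EtCoh.push j) (k + 1)
  exact ⟨(e.app F).symm ≪≫ @asIso _ _ _ _ _ hiso⟩

end Groth.Agent.Lib.Helper33.EtLocCoh
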