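import Groth.Prelude.Def_EtMod2
import Groth.Agent.Lib.Helper43.EtOpenSub
import Mathlib.AlgebraicGeometry.Sites.EtalePoint

/-!
# Constant étale sheaves of modules (helper33)

Module-valued analogues of `Helper43.ConstSheaf`: `cstM`, `cstM_map`, `locally_cstM`,
`cstM_injective_of_nonempty`, and the theorem
`isIso_of_stalk_genericPoint` : a subsheaf `G` of a constant sheaf `M_X` on an irreducible scheme
containing `M'_X` and with generic stalk `M'` equals `M'_X`.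
-/

set_option autoImplicit false
universe u
open CategoryTheory CategoryTheory.Limits AlgebraicGeometry Opposite

namespace Groth.Agent.Lib.Helper33.EtModConst
open Groth.Agent.Lib.Helper43.EtOpenSub

variable (Λ : Type (u + 1)) [CommRing Λ] {X : Scheme.{u}}

/-- the constant presheaf of modules -/
abbrev cpsh (X : Scheme.{u}) (M : ModuleCat.{u + 1} Λ) : (X.Etale)ᵒᵖ ⥤ ModuleCat.{u + 1} Λ :=
  (Functor.const (X.Etale)ᵒᵖ).obj M

/-- the constant sheaf of modules -/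
noncomputable abbrev KM (X : Scheme.{u}) (M : ModuleCat.{u + 1} Λ) : EtModW.Mod Λ X :=
  (constantSheaf X.smallEtaleTopology (ModuleCat.{u + 1} Λ)).obj M

/-- constant sections -/
noncomputable def cstM (M : ModuleCat.{u + 1} Λ) (W : X.Etale) : M ⟶ (KM Λ X M).obj.obj (op W) :=
  (toSheafify X.smallEtaleTopology (cpsh Λ X M)).app (op W)

lemma cstM_map (M : ModuleCat.{u + 1} Λ) {W W' : X.Etale} (f : W' ⟶ W) (m : M) :
    (KM Λ X M).obj.map f.op (cstM Λ M W m) = cstM Λ M W' m := by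
  have h := (toSheafify X.smallEtaleTopology (cpsh Λ X M)).naturality f.op
  have h' := congrArg (fun t => t.hom m) h
  exact h'.symm

lemma constantSheaf_map_cstM {M N : ModuleCat.{u + 1} Λ} (h : M ⟶ N) (W : X.Etale) (m : M) :
    ((constantSheaf X.smallEtaleTopology (ModuleCat.{u + 1} Λ)).map h).hom.app (op W)
      (cstM Λ M W m) = cstM Λ N W (h m) := by
  have h1 := toSheafify_naturality X.smallEtaleTopology ((Functor.const (X.Etale)ᵒᵖ).map h)
  have h2 := congrArg (fun t => (t.app (op W)).hom m) h1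
  exact h2.symm

lemma locally_cstM (M : ModuleCat.{u + 1} Λ) {W : X.Etale} (s : (KM Λ X M).obj.obj (op W)) :
    ∃ S : Sieve W, S ∈ X.smallEtaleTopology W ∧ ∀ ⦃W' : X.Etale⦄ (f : W' ⟶ W), S f →
      ∃ m : M, (KM Λ X M).obj.map f.op s = cstM Λ M W' m := by
  refine ⟨Presheaf.imageSieve (toSheafify X.smallEtaleTopology (cpsh Λ X M)) s,
    Presheaf.imageSieve_mem X.smallEtaleTopology (toSheafify X.smallEtaleTopology (cpsh Λ X M)) s,
    ?_⟩
  intro W' f hf
  obtain ⟨m, hm⟩ := hf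
  exact ⟨m, hm.symm⟩

lemma cstM_injective_of_nonempty (M : ModuleCat.{u + 1} Λ) (W : X.Etale) [Nonempty W.left] :
    Function.Injective (cstM Λ M W) := by
  intro m m' h
  have hmem := Presheaf.equalizerSieve_mem X.smallEtaleTopology
    (toSheafify X.smallEtaleTopology (cpsh Λ X M)) (X := op W) m m' h
  obtain ⟨x⟩ := ‹Nonempty W.left›
  obtain ⟨V, f, y, hf, -⟩ := (mem_smallEtaleTopology_iff' W _).1 hmem x
  exact hf

lemma map_comp_apply' (F : EtModW.Mod Λ X) {A B C : X.Etale} (k : A ⟶ B) (c : B ⟶ C)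
    (s : F.obj.obj (op C)) : F.obj.map (k ≫ c).op s = F.obj.map k.op (F.obj.map c.op s) := by
  rw [op_comp, Functor.map_comp]; rfl

lemma hom_naturality_apply {F G : EtModW.Mod Λ X} (φ : F ⟶ G) {A B : X.Etale} (k : A ⟶ B)
    (s : F.obj.obj (op B)) :
    φ.hom.app (op A) (F.obj.map k.op s) = G.obj.map k.op (φ.hom.app (op B) s) :=
  congrArg (fun t => t.hom s) (φ.hom.naturality k.op)

section Stalk

instance forgetPresFiltered :
    PreservesFilteredColimitsOfSize.{u, u} (forget (ModuleCat.{u + 1} Λ)) :=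
  preservesFilteredColimitsOfSize_shrink.{u, u + 1, u, u + 1} _

instance hasColimitsMod : HasColimitsOfSize.{u, u} (ModuleCat.{u + 1} Λ) :=
  hasColimitsOfSizeShrink.{u, u, u + 1, u + 1} _

variable {Λ}
variable [IrreducibleSpace ↥X] {Ω : Type u} [Field Ω] [IsSepClosed Ω]
  (ξ : Spec (CommRingCat.of Ω) ⟶ X) (hξ : ξ.base default = genericPoint ↥X)
  {M M' : ModuleCat.{u + 1} Λ} (incl : M' ⟶ M)
  (G : EtModW.Mod Λ X) (a : KM Λ X M' ⟶ G) (b : G ⟶ KM Λ X M) [Mono b]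
  (hab : a ≫ b = (constantSheaf X.smallEtaleTopology (ModuleCat.{u + 1} Λ)).map incl)
  (hst : Function.Surjective ((EtModW.stalk Λ ξ).map a))

omit [IrreducibleSpace ↥X] [Mono b] in
lemma b_app_injective [Mono b] (W : X.Etale) : Function.Injective (b.hom.app (op W)) := by
  have h1 : Mono b.hom := (Sheaf.Hom.mono_iff_presheaf_mono _ _ b).1 inferInstance
  have h2 : Mono (b.hom.app (op W)) := inferInstance
  exact (ModuleCat.mono_iff_injective _).1 h2

omit [Mono b] in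
include hξ hab hst in
/-- the value of a locally constant section `b s` lies in `M'` -/
lemma mem_range_of_cst {T₀ : X.Etale} [Nonempty T₀.left] (s : G.obj.obj (op T₀)) (m : M)
    (hm : b.hom.app (op T₀) s = cstM Λ M T₀ m) : ∃ m' : M', incl m' = m := by
  let Φ := Scheme.pointSmallEtale ξ
  -- a point of `T₀` over the generic point
  obtain ⟨τ₀⟩ := ‹Nonempty T₀.left›
  let f₀ : T₀.left ⟶ X := T₀.hom
  have hf₀ : Etale f₀ := T₀.prop
  have ho : IsOpen (Set.range f₀ : Set X) := f₀.isOpenMap.isOpen_range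
  have hgen : genericPoint ↥X ∈ (Set.range f₀ : Set X) :=
    ((genericPoint_spec ↥X).mem_open_set_iff ho).2 ⟨f₀ τ₀, trivial, ⟨τ₀, rfl⟩⟩
  obtain ⟨τ, hτ⟩ := hgen
  obtain ⟨x₀, -⟩ := Scheme.pointSmallEtaleFiberObjToPreimage_surjective ξ hξ T₀ ⟨τ, hτ⟩
  -- the germ of `s` is in the image of `a`
  obtain ⟨δ, hδ⟩ := hst (Φ.toPresheafFiber T₀ x₀ G.obj s)
  obtain ⟨T₁, x₁, σ, rfl⟩ := Φ.toPresheafFiber_jointly_surjective δ
  have h1 : Φ.toPresheafFiber T₁ x₁ G.obj (a.hom.app (op T₁) σ) =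
      Φ.toPresheafFiber T₀ x₀ G.obj s :=
    (Φ.toPresheafFiber_naturality_apply a.hom T₁ x₁ σ).symm.trans hδ
  -- common refinement
  let e₀ : Φ.fiber.Elements := ⟨T₀, x₀⟩
  let e₁ : Φ.fiber.Elements := ⟨T₁, x₁⟩
  let e₂ : Φ.fiber.Elements := IsCofiltered.min e₀ e₁
  let g₀ : e₂.1 ⟶ T₀ := (IsCofiltered.minToLeft e₀ e₁).1
  let g₁ : e₂.1 ⟶ T₁ := (IsCofiltered.minToRight e₀ e₁).1
  have hg₀ : Φ.fiber.map g₀ e₂.2 = x₀ := (IsCofiltered.minToLeft e₀ e₁).2
  have hg₁ : Φ.fiber.map g₁ e₂.2 = x₁ := (IsCofiltered.minToRight e₀ e₁).2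
  have h2 : Φ.toPresheafFiber e₂.1 e₂.2 G.obj (G.obj.map g₁.op (a.hom.app (op T₁) σ)) =
      Φ.toPresheafFiber e₂.1 e₂.2 G.obj (G.obj.map g₀.op s) := by
    rw [Φ.toPresheafFiber_w_apply, Φ.toPresheafFiber_w_apply, hg₀, hg₁]
    exact h1
  obtain ⟨T₃, f₃, x₃, hx₃, h3⟩ := (Φ.toPresheafFiber_eq_iff' e₂.1 e₂.2 _ _).1 h2
  -- make `σ` constant
  obtain ⟨S₃, hS₃, hloc⟩ := locally_cstM Λ M' ((KM Λ X M').obj.map (f₃ ≫ g₁).op σ)
  obtain ⟨T₄, f₄, hf₄, x₄, hx₄⟩ := Φ.jointly_surjective S₃ hS₃ x₃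
  obtain ⟨m', hm'⟩ := hloc f₄ hf₄
  have hne : Nonempty T₄.left :=
    ⟨(Scheme.pointSmallEtaleFiberObjToPreimage ξ hξ x₄).1⟩
  refine ⟨m', ?_⟩
  apply cstM_injective_of_nonempty Λ M T₄
  let h : T₄ ⟶ T₀ := f₄ ≫ f₃ ≫ g₀
  let h₁ : T₄ ⟶ T₁ := f₄ ≫ f₃ ≫ g₁
  have e1 : G.obj.map h.op s = G.obj.map h₁.op (a.hom.app (op T₁) σ) := by
    show G.obj.map (f₄ ≫ f₃ ≫ g₀).op s = G.obj.map (f₄ ≫ f₃ ≫ g₁).op (a.hom.app (op T₁) σ)
    rw [map_comp_apply', map_comp_apply', map_comp_apply', map_comp_apply', h3]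
  have e2 : (KM Λ X M').obj.map h₁.op σ = cstM Λ M' T₄ m' := by
    show (KM Λ X M').obj.map (f₄ ≫ f₃ ≫ g₁).op σ = _
    rw [map_comp_apply']
    exact hm'
  have e3 : b.hom.app (op T₄) (a.hom.app (op T₄) (cstM Λ M' T₄ m')) =
      cstM Λ M T₄ (incl m') := by
    have := congrArg (fun φ => φ.hom.app (op T₄) (cstM Λ M' T₄ m')) hab
    exact this.trans (constantSheaf_map_cstM Λ incl T₄ m')
  calc cstM Λ M T₄ (incl m')
      = b.hom.app (op T₄) (a.hom.app (op T₄) (cstM Λ M' T₄ m')) := e3.symm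
    _ = b.hom.app (op T₄) (a.hom.app (op T₄) ((KM Λ X M').obj.map h₁.op σ)) := by rw [e2]
    _ = b.hom.app (op T₄) (G.obj.map h₁.op (a.hom.app (op T₁) σ)) := by
        rw [hom_naturality_apply]
    _ = b.hom.app (op T₄) (G.obj.map h.op s) := by rw [e1]
    _ = (KM Λ X M).obj.map h.op (b.hom.app (op T₀) s) := hom_naturality_apply Λ b h s
    _ = (KM Λ X M).obj.map h.op (cstM Λ M T₀ m) := by rw [hm]
    _ = cstM Λ M T₄ m := cstM_map Λ M h m

include hξ hab hst in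
/-- a subsheaf `G` of `M_X` containing `M'_X` with generic geometric stalk `M'` equals `M'_X` -/
theorem isIso_of_stalk_genericPoint [Mono a] : IsIso a := by
  have hls : Presheaf.IsLocallySurjective X.smallEtaleTopology a.hom := by
    constructor
    intro V s
    rw [mem_smallEtaleTopology_iff']
    intro v
    obtain ⟨S, hS, hloc⟩ := locally_cstM Λ M (b.hom.app (op V) s)
    obtain ⟨T₀, f₀, y₀, hf₀, hy₀⟩ := (mem_smallEtaleTopology_iff' V S).1 hS v
    obtain ⟨m, hm⟩ := hloc f₀ hf₀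
    have hne : Nonempty T₀.left := ⟨y₀⟩
    have hm2 : b.hom.app (op T₀) (G.obj.map f₀.op s) = cstM Λ M T₀ m :=
      (hom_naturality_apply Λ b f₀ s).trans hm
    obtain ⟨m', hm'⟩ := mem_range_of_cst ξ hξ incl G a b hab hst (G.obj.map f₀.op s) m hm2
    refine ⟨T₀, f₀, y₀, ?_, hy₀⟩
    refine ⟨cstM Λ M' T₀ m', ?_⟩
    apply b_app_injective G b T₀
    have e3 : b.hom.app (op T₀) (a.hom.app (op T₀) (cstM Λ M' T₀ m')) =
        cstM Λ M T₀ (incl m') := by
      have := congrArg (fun φ => φ.hom.app (op T₀) (cstM Λ M' T₀ m')) hab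
      exact this.trans (constantSheaf_map_cstM Λ incl T₀ m')
    rw [hm'] at e3
    exact e3.trans hm2.symm
  have hepi : Epi a := by
    have h' : Sheaf.IsLocallySurjective a := hls
    infer_instance
  exact isIso_of_mono_of_epi a

end Stalk

end Groth.Agent.Lib.Helper33.EtModConst
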