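import Groth.Agent.Lib.Helper33.CompositeLow
import Groth.Prelude.Def_RDer

/-!
# The comparison `H^n(Ψ K) ⟶ Ψ(H^n K)` for a complex of `Ψ`-acyclic objects (helper33)

Let `Ψ : B ⥤ C` be a left exact additive functor and `K` a cochain complex in `B` whose terms are
`Ψ`-acyclic.  If `H^p(K) = 0` for `p < n`, then `RDer.homologyComparison Ψ K n` is an isomorphism.
-/

set_option autoImplicit false

universe v' v'' u' u''

open CategoryTheory CategoryTheory.Limits

namespace Groth.Agent.Lib.Helper33.HomologyCompAcyc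

open Groth.Agent.Lib.Helper33.CompositeLow

variable {B : Type u'} [Category.{v'} B] [Abelian B] [HasInjectiveResolutions B]
  {C : Type u''} [Category.{v''} C] [Abelian C]
  (Ψ : B ⥤ C) [Ψ.Additive]

lemma acyc_of_isZero {Y : B} (h : IsZero Y) : Acyc Ψ Y := fun k =>
  (Ψ.rightDerived (k + 1)).map_isZero h

lemma acyc_of_iso {Y Y' : B} (e : Y ≅ Y') (h : Acyc Ψ Y) : Acyc Ψ Y' := fun k =>
  (h k).of_iso ((Ψ.rightDerived (k + 1)).mapIso e.symm)

variable [PreservesFiniteLimits Ψ]

section Cokernel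

variable {X Y W H : B} (f : X ⟶ Y) (k : W ⟶ X) (w : k ≫ f = 0)
  (hk : IsLimit (KernelFork.ofι k w)) (π : Y ⟶ H) (wπ : f ≫ π = 0)
  (hπ : IsColimit (CokernelCofork.ofπ π wπ))

include hk hπ in
/-- `Ψ` preserves the cokernel of a morphism with `Ψ`-acyclic source and kernel. -/
lemma nonempty_isColimit_map_cokernel (hW : Acyc Ψ W) (hX : Acyc Ψ X) :
    Nonempty (IsColimit (CokernelCofork.ofπ (f := Ψ.map f) (Ψ.map π)
      (by rw [← Ψ.map_comp, wπ, Ψ.map_zero]))) := by
  let e := Abelian.factorThruImage f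
  let ι := Abelian.image.ι f
  have hfac : e ≫ ι = f := Abelian.image.fac f
  have hke : k ≫ e = 0 := by
    rw [← cancel_mono ι, Category.assoc, hfac, w, zero_comp]
  have hιπ : ι ≫ π = 0 := by
    rw [← cancel_epi e, ← Category.assoc, hfac, wπ, comp_zero]
  -- first short exact sequence
  let E₁ : ShortComplex B := ShortComplex.mk k e hke
  have hE₁ : E₁.ShortExact :=
    { exact := ShortComplex.exact_of_f_is_kernel E₁ (isKernelOfComp ι f hk hke hfac)
      mono_f := mono_of_isLimit_fork hk
      epi_g := inferInstanceAs (Epi (Abelian.factorThruImage f)) }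
  have hB : Acyc Ψ (Abelian.image f) := Acyc.of_shortExact hE₁ hW hX
  have hepi : Epi (Ψ.map e) := Acyc.epi_map_g hE₁ hW
  -- second short exact sequence
  let E₂ : ShortComplex B := ShortComplex.mk ι π hιπ
  have hE₂ : E₂.ShortExact :=
    { exact := ShortComplex.exact_of_g_is_cokernel E₂ (isCokernelOfComp e f hπ hιπ hfac)
      mono_f := inferInstanceAs (Mono (Abelian.image.ι f))
      epi_g := epi_of_isColimit_cofork hπ }
  have hE₂' : (E₂.map Ψ).ShortExact := shortExact_map_of_isZero Ψ hE₂ (hB 0)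
  have := hE₂'.epi_g
  have hc : IsColimit (CokernelCofork.ofπ (E₂.map Ψ).g (E₂.map Ψ).zero) := hE₂'.exact.gIsCokernel
  exact ⟨isCokernelEpiComp hc (Ψ.map e) (hg := hepi) (by rw [← hfac, Ψ.map_comp]; rfl)⟩

end Cokernel

section Complex

variable (K : CochainComplex B ℕ)

omit [HasInjectiveResolutions B] in
/-- the comparison of cycles is an isomorphism -/
instance isIso_cyclesComparison (i : ℕ) : IsIso (RDer.cyclesComparison Ψ K i) := by
  let L := (Ψ.mapHomologicalComplex (ComplexShape.up ℕ)).obj K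
  have hz : Ψ.map (K.iCycles i) ≫ L.d i ((ComplexShape.up ℕ).next i) = 0 := by
    change Ψ.map (K.iCycles i) ≫ Ψ.map (K.d i ((ComplexShape.up ℕ).next i)) = 0
    rw [← Ψ.map_comp, K.iCycles_d, Ψ.map_zero]
  refine ⟨L.liftCycles (Ψ.map (K.iCycles i)) _ rfl hz, ?_, ?_⟩
  · rw [← cancel_mono (L.iCycles i), Category.assoc, L.liftCycles_i, Category.id_comp]
    exact RDer.cyclesComparison_i Ψ K i
  · rw [← cancel_mono (Ψ.map (K.iCycles i)), Category.assoc, Category.id_comp]
    erw [RDer.cyclesComparison_i Ψ K i]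
    exact L.liftCycles_i _ _ rfl hz

variable (hK : ∀ p, Acyc Ψ (K.X p))

omit [PreservesFiniteLimits Ψ] in
include hK in
/-- the cycles are `Ψ`-acyclic below the first non-zero cohomology object -/
lemma acyc_cycles (n : ℕ) (hH : ∀ p, p < n → IsZero (K.homology p)) :
    ∀ p, p < n → Acyc Ψ (K.cycles p) := by
  intro p
  induction p with
  | zero =>
    intro h0
    have : IsIso (K.homologyπ 0) :=
      K.isIso_homologyπ 0 0 (by simp) (K.shape _ _ (by simp))
    exact acyc_of_iso Ψ (asIso (K.homologyπ 0)).symm (acyc_of_isZero Ψ (hH 0 h0))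
  | succ p ih =>
    intro hp
    have hZ := ih (by omega)
    have hepi : Epi (K.toCycles p (p + 1)) :=
      Preadditive.epi_of_isZero_cokernel' _ (K.homologyIsCokernel p (p + 1) (by simp)) (hH (p + 1) hp)
    have hzero : K.iCycles p ≫ K.toCycles p (p + 1) = 0 := by
      rw [← cancel_mono (K.iCycles (p + 1)), Category.assoc, K.toCycles_i, K.iCycles_d, zero_comp]
    let E : ShortComplex B := ShortComplex.mk (K.iCycles p) (K.toCycles p (p + 1)) hzero
    have hE : E.ShortExact :=
      { exact := ShortComplex.exact_of_f_is_kernel E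
          (isKernelOfComp (K.iCycles (p + 1)) (K.d p (p + 1)) (K.cyclesIsKernel p (p + 1) (by simp))
            hzero (K.toCycles_i p (p + 1)))
        mono_f := inferInstanceAs (Mono (K.iCycles p))
        epi_g := hepi }
    exact Acyc.of_shortExact hE hZ (hK p)

include hK in
lemma isIso_homologyComparison_aux (i n : ℕ) (hi : (ComplexShape.up ℕ).prev n = i) {W : B}
    (k : W ⟶ K.X i) (w : k ≫ K.toCycles i n = 0) (hk : IsLimit (KernelFork.ofι k w))
    (hW : Acyc Ψ W) : IsIso (RDer.homologyComparison Ψ K n) := by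
  subst hi
  let L := (Ψ.mapHomologicalComplex (ComplexShape.up ℕ)).obj K
  obtain ⟨hcok⟩ := nonempty_isColimit_map_cokernel Ψ (K.toCycles ((ComplexShape.up ℕ).prev n) n) k w hk
    (K.homologyπ n) (K.toCycles_comp_homologyπ _ n) (K.homologyIsCokernel _ n rfl) hW (hK _)
  have hepi : Epi (Ψ.map (K.homologyπ n)) := epi_of_isColimit_cofork hcok
  have htc : Ψ.map (K.toCycles ((ComplexShape.up ℕ).prev n) n) =
      L.toCycles ((ComplexShape.up ℕ).prev n) n ≫ RDer.cyclesComparison Ψ K n :=
    (RDer.toCycles_cyclesComparison Ψ K n).symm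
  have w' : Ψ.map (K.toCycles ((ComplexShape.up ℕ).prev n) n) ≫
      inv (RDer.cyclesComparison Ψ K n) ≫ L.homologyπ n = 0 := by
    have h1 : (L.toCycles ((ComplexShape.up ℕ).prev n) n ≫ RDer.cyclesComparison Ψ K n) ≫
        inv (RDer.cyclesComparison Ψ K n) ≫ L.homologyπ n = 0 := by
      rw [Category.assoc, IsIso.hom_inv_id_assoc, L.toCycles_comp_homologyπ]
    exact (congrArg (fun t => t ≫ inv (RDer.cyclesComparison Ψ K n) ≫ L.homologyπ n) htc).trans h1
  let g : Ψ.obj (K.homology n) ⟶ L.homology n := hcok.desc (CokernelCofork.ofπ _ w')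
  have hg : Ψ.map (K.homologyπ n) ≫ g = inv (RDer.cyclesComparison Ψ K n) ≫ L.homologyπ n :=
    hcok.fac (CokernelCofork.ofπ _ w') WalkingParallelPair.one
  refine ⟨g, ?_, ?_⟩
  · rw [← cancel_epi (L.homologyπ n), RDer.homologyπ_homologyComparison_assoc, hg,
      IsIso.hom_inv_id_assoc, Category.comp_id]
  · rw [← cancel_epi (Ψ.map (K.homologyπ n)), reassoc_of% hg, RDer.homologyπ_homologyComparison,
      IsIso.inv_hom_id_assoc, Category.comp_id]

include hK in
/-- **Main lemma.** For a complex `K` of `Ψ`-acyclic objects with `H^p(K) = 0` for `p < n`, the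
comparison `H^n(Ψ K) ⟶ Ψ(H^n K)` is an isomorphism. -/
theorem isIso_homologyComparison (n : ℕ) (hH : ∀ p, p < n → IsZero (K.homology p)) :
    IsIso (RDer.homologyComparison Ψ K n) := by
  cases n with
  | zero =>
    have h0 : K.toCycles 0 0 = 0 := K.toCycles_eq_zero (i := 0) (j := 0) (by simp)
    exact isIso_homologyComparison_aux Ψ K hK 0 0 (by simp) (𝟙 _) (by rw [h0, comp_zero])
      (KernelFork.IsLimit.ofId _ h0) (hK 0)
  | succ m =>
    have hzero : K.iCycles m ≫ K.toCycles m (m + 1) = 0 := by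
      rw [← cancel_mono (K.iCycles (m + 1)), Category.assoc, K.toCycles_i, K.iCycles_d, zero_comp]
    exact isIso_homologyComparison_aux Ψ K hK m (m + 1) (by simp) (K.iCycles m) hzero
      (isKernelOfComp (K.iCycles (m + 1)) (K.d m (m + 1)) (K.cyclesIsKernel m (m + 1) (by simp))
        hzero (K.toCycles_i m (m + 1)))
      (acyc_cycles Ψ K hK (m + 1) hH m (by omega))

end Complex

end Groth.Agent.Lib.Helper33.HomologyCompAcyc
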