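import Groth.Agent.Lib.Helper33.EtLocCoh
import Groth.Agent.Lib.Helper33.HomologyCompAcyc

/-!
# `Γ_Z I` is `Γ(V, −)`-acyclic for injective `I` (helper33)

For an open immersion `j : U ⟶ X` and an injective abelian étale sheaf `I` on `X`, the sheaf of
sections with support `Γ_Z I = ker (I ⟶ j_* j⁻¹ I)` is acyclic for the sections functor `Γ(V, −)`
over every étale `V ⟶ X`.
-/

set_option autoImplicit false

universe u

open CategoryTheory CategoryTheory.Limits AlgebraicGeometry Opposite

namespace Groth.Agent.Lib.Helper33.EtSecSuppAcyc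

open Groth.Agent.Lib.Helper4.EtRestr Groth.Agent.Lib.Helper33.FunctorLES
  Groth.Agent.Lib.Helper33.EtLocCoh Groth.Agent.Lib.Helper33.CompositeLow
  Groth.Agent.Lib.Helper5

variable {U X : Scheme.{u}} (j : U ⟶ X) [IsOpenImmersion j]

/-- the sections functor `Γ(V, −)` on abelian étale sheaves -/
noncomputable abbrev sect (V : X.Etale) : EtCoh.Ab X ⥤ AddCommGrpCat.{u + 1} :=
  sheafToPresheaf X.smallEtaleTopology AddCommGrpCat.{u + 1} ⋙
    (evaluation X.Etaleᵒᵖ AddCommGrpCat.{u + 1}).obj (op V)

/-- `Γ(V, I) ⟶ Γ(V, j_* j⁻¹ I)` is an epimorphism for injective `I` -/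
lemma epi_sect_unitApp (V : X.Etale) (I : EtCoh.Ab X) [Injective I] :
    Epi ((sect V).map (EtDual.unitApp j I)) := by
  have h2 : EtDual.unitApp j I = (adjR j).unit.app I ≫
      (EtCoh.push j).map ((pullIsoRestr j).inv.app I) := by
    rw [← unitApp_comp_pullIsoRestr, Category.assoc, ← Functor.map_comp, Iso.hom_inv_id_app,
      CategoryTheory.Functor.map_id]
    exact (Category.comp_id _).symm
  rw [h2, Functor.map_comp]
  have h1 : Epi ((sect V).map ((adjR j).unit.app I)) :=
    (AddCommGrpCat.epi_iff_surjective _).2 (unit_adjR_surjective j I V)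
  infer_instance

/-- `Γ_Z I` is `Γ(V, −)`-acyclic for injective `I`. -/
theorem acyc_secSupp (V : X.Etale) (I : EtCoh.Ab X) [Injective I] :
    Acyc (sect V) ((EtDual.secSupp j).obj I) := by
  have hS := exactOnInjectives j I inferInstance
  have hinj3 : Injective ((EtCoh.push j).obj ((EtCoh.pull j).obj I)) := by
    have h1 := pull_preservesInjectives j
    have h2 := push_preservesInjectives j
    exact (EtCoh.push j).injective_obj _
  intro k
  cases k with
  | zero =>
    have : Injective (ShortComplex.mk ((ιNat j).app I) ((unitNat j).app I)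
        (by rw [← NatTrans.comp_app, ιNat_unitNat]; rfl)).X₂ := inferInstanceAs (Injective I)
    exact isZero_rightDerived_one_X₁ (sect V) hS (epi_sect_unitApp j V I)
  | succ k =>
    have : Injective (ShortComplex.mk ((ιNat j).app I) ((unitNat j).app I)
        (by rw [← NatTrans.comp_app, ιNat_unitNat]; rfl)).X₂ := inferInstanceAs (Injective I)
    have h3 : IsZero (((sect V).rightDerived (k + 1)).obj
        ((EtCoh.push j).obj ((EtCoh.pull j).obj I))) :=
      (sect V).isZero_rightDerived_obj_injective_succ k _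
    exact isZero_rightDerived_succ_succ_X₁ (sect V) hS k h3

end Groth.Agent.Lib.Helper33.EtSecSuppAcyc
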