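import Groth.Agent.S3055
import Groth.Agent.Lib.Helper33.EtConstGeneric
import Groth.Agent.Lib.Helper5.RDerShift
import Groth.Agent.Lib.Helper33.ExtRightDerived

/-!
# Étale sheaves on the spectrum of a separably closed field (helper33)

* `surjective_app`: an epimorphism of abelian étale sheaves on `Spec k`, `k` separably closed, is
  surjective on sections over every étale `k`-scheme;
* `push_map_epi`: direct image along any `h : Spec k ⟶ Y` preserves epimorphisms;
* `isZero_rightDerived_of_exact`: (abstract) if `T` is exact and preserves injectives and `T ⋙ S`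
  preserves epimorphisms then `T F` is `S`-acyclic;
* `isZero_Rpush_push`, `subsingleton_H_push`: `R^q f_* (h_* C) = 0` and `H^q(Y, h_* C) = 0` for
  `q > 0`.
-/

set_option autoImplicit false
universe u
open CategoryTheory CategoryTheory.Limits AlgebraicGeometry Opposite

namespace Groth.Agent.Lib.Helper33.EtSepClosed
open Groth.Agent.Lib.Helper43.EtOpenSub Groth.Agent.Lib.Helper33.EtExcision
open Groth.Agent.Lib.Helper33.EtConstNormal

section Sections

variable (k : Type u) [Field k] [IsSepClosed k]

/-- notation -/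
noncomputable abbrev Xk : Scheme.{u} := Spec (CommRingCat.of k)

instance : Subsingleton (Xk k) := inferInstanceAs (Subsingleton (PrimeSpectrum k))

variable {k}
variable {F F'' : EtCoh.Ab (Xk k)} (e : F ⟶ F'') [Epi e]

/-- an epimorphism of sheaves on `Spec k` is surjective on global sections -/
lemma surjective_top : Function.Surjective (e.hom.app (op (EtCoh.top (Xk k)))) := by
  intro t
  have hls : Sheaf.IsLocallySurjective e :=
    (Sheaf.isLocallySurjective_iff_epi' (φ := e)).2 inferInstance
  have h0 : Presheaf.imageSieve e.hom t ∈ (Xk k).smallEtaleTopology (EtCoh.top (Xk k)) :=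
    Presheaf.imageSieve_mem _ _ _
  let t₀ : (EtCoh.top (Xk k)).left := (⟨⊥, Ideal.isPrime_bot⟩ : Spec (CommRingCat.of k))
  obtain ⟨T, f, y, hf, -⟩ := (mem_smallEtaleTopology_iff' _ _).1 h0 t₀
  obtain ⟨σ, -, -⟩ := Groth.Agent.S3055.exists_section k T y
  have h1 : σ ≫ f = 𝟙 _ := (EtCore.topIsTerminal (Xk k)).hom_ext _ _
  have h2 := (Presheaf.imageSieve e.hom t).downward_closed hf σ
  rw [h1] at h2
  obtain ⟨s, hs⟩ := h2
  refine ⟨s, hs.trans ?_⟩
  rw [op_id, F''.obj.map_id]
  rfl

omit [Epi e] in
variable (k) in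
/-- chosen sections through each point of an étale `k`-scheme -/
noncomputable def sec (W : (Xk k).Etale) (x : W.left) : EtCoh.top (Xk k) ⟶ W :=
  (Groth.Agent.S3055.exists_section k W x).choose

lemma sec_apply (W : (Xk k).Etale) (x : W.left) (t : (EtCoh.top (Xk k)).left) :
    (sec k W x).left t = x := by
  obtain ⟨t', ht'⟩ := (Groth.Agent.S3055.exists_section k W x).choose_spec
  have h : t = t' := Subsingleton.elim (α := Xk k) _ _
  rw [h]
  exact ht'

lemma from_sec_apply (W : (Xk k).Etale) (x : W.left) {T : (Xk k).Etale} (τ : T.left) :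
    ((EtCore.topIsTerminal (Xk k)).from T ≫ sec k W x).left τ = x := by
  show (sec k W x).left (((EtCore.topIsTerminal (Xk k)).from T).left τ) = x
  exact sec_apply W x _

variable (k) in
/-- the sieve generated by the sections through the points -/
def secSieve (W : (Xk k).Etale) : Sieve W where
  arrows T f := ∃ x : W.left, f = (EtCore.topIsTerminal (Xk k)).from T ≫ sec k W x
  downward_closed := by
    rintro T T' f ⟨x, rfl⟩ h
    refine ⟨x, ?_⟩
    rw [← Category.assoc]
    congr 1
    exact (EtCore.topIsTerminal (Xk k)).hom_ext _ _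

lemma secSieve_mem (W : (Xk k).Etale) : secSieve k W ∈ (Xk k).smallEtaleTopology W := by
  rw [mem_smallEtaleTopology_iff']
  intro x
  let t₀ : (EtCoh.top (Xk k)).left := (⟨⊥, Ideal.isPrime_bot⟩ : Spec (CommRingCat.of k))
  refine ⟨EtCoh.top (Xk k), sec k W x, t₀, ⟨x, ?_⟩, sec_apply W x t₀⟩
  have : (EtCore.topIsTerminal (Xk k)).from (EtCoh.top (Xk k)) = 𝟙 _ :=
    (EtCore.topIsTerminal (Xk k)).hom_ext _ _
  rw [this, Category.id_comp]

/-- sections over `W` can be prescribed on the points of `W` -/
lemma exists_glue (F : EtCoh.Ab (Xk k)) (W : (Xk k).Etale)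
    (s : W.left → F.obj.obj (op (EtCoh.top (Xk k)))) :
    ∃ a : F.obj.obj (op W), ∀ x, F.obj.map (sec k W x).op a = s x := by
  classical
  have hsh : Presieve.IsSheaf (Xk k).smallEtaleTopology (F.obj ⋙ forget AddCommGrpCat.{u + 1}) :=
    (isSheaf_iff_isSheaf_of_type _ _).1
      ((sheafCompose (Xk k).smallEtaleTopology (forget AddCommGrpCat.{u + 1})).obj F).2
  let fam : Presieve.FamilyOfElements (F.obj ⋙ forget AddCommGrpCat.{u + 1})
      (secSieve k W).arrows := fun T f hf =>
    F.obj.map ((EtCore.topIsTerminal (Xk k)).from T).op (s hf.choose)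
  have hcomp : fam.Compatible := by
    intro T₁ T₂ Z g₁ g₂ f₁ f₂ h₁ h₂ hcomm
    by_cases hZ : IsEmpty Z.left
    · exact (eq_zero_of_isEmpty F Z _).trans (eq_zero_of_isEmpty F Z _).symm
    · obtain ⟨z⟩ := not_isEmpty_iff.1 hZ
      have e1 : h₁.choose = h₂.choose := by
        have a1 : f₁.left (g₁.left z) = h₁.choose := by
          conv_lhs => rw [h₁.choose_spec]
          exact from_sec_apply W _ _
        have a2 : f₂.left (g₂.left z) = h₂.choose := by
          conv_lhs => rw [h₂.choose_spec]
          exact from_sec_apply W _ _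
        have e0 : f₁.left (g₁.left z) = f₂.left (g₂.left z) :=
          congrArg (fun φ : Z ⟶ W => φ.left z) hcomm
        rw [← a1, ← a2]
        exact e0
      show F.obj.map g₁.op (F.obj.map ((EtCore.topIsTerminal (Xk k)).from T₁).op (s h₁.choose)) =
        F.obj.map g₂.op (F.obj.map ((EtCore.topIsTerminal (Xk k)).from T₂).op (s h₂.choose))
      have e3 : g₁ ≫ (EtCore.topIsTerminal (Xk k)).from T₁ =
          g₂ ≫ (EtCore.topIsTerminal (Xk k)).from T₂ :=
        (EtCore.topIsTerminal (Xk k)).hom_ext _ _
      rw [e1, ← map_comp_apply, ← map_comp_apply, e3]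
  obtain ⟨a, ha, -⟩ := hsh _ (secSieve_mem W) fam hcomp
  refine ⟨a, fun x => ?_⟩
  let t₀ : (EtCoh.top (Xk k)).left := (⟨⊥, Ideal.isPrime_bot⟩ : Spec (CommRingCat.of k))
  have hx : (secSieve k W).arrows (sec k W x) := by
    refine ⟨x, ?_⟩
    have : (EtCore.topIsTerminal (Xk k)).from (EtCoh.top (Xk k)) = 𝟙 _ :=
      (EtCore.topIsTerminal (Xk k)).hom_ext _ _
    rw [this, Category.id_comp]
  have h1 := ha (sec k W x) hx
  have e2 : hx.choose = x := by
    have a1 : (sec k W x).left t₀ = hx.choose := by
      conv_lhs => rw [hx.choose_spec]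
      exact from_sec_apply W _ _
    rw [← a1]
    exact sec_apply W x t₀
  have h2 : F.obj.map (sec k W x).op a =
      F.obj.map ((EtCore.topIsTerminal (Xk k)).from (EtCoh.top (Xk k))).op (s hx.choose) := h1
  rw [h2, e2]
  have : (EtCore.topIsTerminal (Xk k)).from (EtCoh.top (Xk k)) = 𝟙 _ :=
    (EtCore.topIsTerminal (Xk k)).hom_ext _ _
  rw [this, op_id, F.obj.map_id]
  rfl

/-- an epimorphism of abelian sheaves on `Spec k`, `k` separably closed, is surjective on
sections over every étale `k`-scheme -/
lemma surjective_app (W : (Xk k).Etale) : Function.Surjective (e.hom.app (op W)) := by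
  intro t
  choose s hs using fun x : W.left => surjective_top e (F''.obj.map (sec k W x).op t)
  obtain ⟨a, ha⟩ := exists_glue F W s
  refine ⟨a, ?_⟩
  refine Sheaf.isSeparated F'' W (secSieve k W) (secSieve_mem W) _ _ ?_
  rintro T f ⟨x, rfl⟩
  rw [map_comp_apply, map_comp_apply]
  congr 1
  have n1 := congrArg (fun φ => (ConcreteCategory.hom φ) a) (e.hom.naturality (sec k W x).op)
  exact n1.symm.trans ((congrArg (e.hom.app (op (EtCoh.top (Xk k)))) (ha x)).trans (hs x))

end Sections

section Push

variable {k : Type u} [Field k] [IsSepClosed k] {Y : Scheme.{u}} (h : Xk k ⟶ Y)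

/-- direct image along a morphism from the spectrum of a separably closed field preserves
epimorphisms -/
lemma push_map_epi {F F'' : EtCoh.Ab (Xk k)} (e : F ⟶ F'') [Epi e] :
    Epi ((EtCoh.push h).map e) := by
  have hs : Presheaf.IsLocallySurjective Y.smallEtaleTopology ((EtCoh.push h).map e).hom :=
    Presheaf.isLocallySurjective_of_surjective _ _
      (fun V => surjective_app e ((EtCoh.bc h).obj V.unop))
  have h' : Sheaf.IsLocallySurjective ((EtCoh.push h).map e) := hs
  infer_instance

end Push

section Abstract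

universe v₁ v₂ v₃ u₁ u₂ u₃

variable {A : Type u₁} [Category.{v₁} A] [Abelian A] [HasInjectiveResolutions A]
  {B : Type u₂} [Category.{v₂} B] [Abelian B] [HasInjectiveResolutions B]
  {C : Type u₃} [Category.{v₃} C] [Abelian C]
  (T : A ⥤ B) [T.Additive] [PreservesFiniteLimits T] [T.PreservesInjectiveObjects]
  (S : B ⥤ C) [S.Additive] [PreservesFiniteLimits S]

open Groth.Agent.Lib.Helper5 in
/-- if `T` is exact and preserves injectives, and `T ⋙ S` preserves epimorphisms, then every
`T F` is `S`-acyclic -/
theorem isZero_rightDerived_of_exact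
    (hT : ∀ {X Y : A} (g : X ⟶ Y), Epi g → Epi (T.map g))
    (hTS : ∀ {X Y : A} (g : X ⟶ Y), Epi g → Epi (S.map (T.map g)))
    (n : ℕ) (F : A) : IsZero ((S.rightDerived (n + 1)).obj (T.obj F)) := by
  have : EnoughInjectives A := ExtRD.enoughInjectives
  have key : ∀ F : A, ((ExtRD.sesInj F).map T).ShortExact := by
    intro F
    have hE : (ExtRD.sesInj F).ShortExact := ExtRD.sesInj_shortExact F
    have hm : Mono (ExtRD.sesInj F).f := hE.mono_f
    have h1 : Mono (T.map (ExtRD.sesInj F).f) := inferInstance
    have h2 : Epi (T.map (ExtRD.sesInj F).g) := hT _ hE.epi_g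
    exact ShortComplex.ShortExact.mk' (hE.exact.map_of_mono_of_preservesKernel T hm inferInstance)
      h1 h2
  have hinj : ∀ F : A, Injective ((ExtRD.sesInj F).map T).X₂ := by
    intro F
    exact T.injective_obj (Injective.under F)
  induction n generalizing F with
  | zero =>
    have := hinj F
    exact isZero_rightDerived_one_X₁ S (key F)
      (hTS _ (ExtRD.sesInj_shortExact F).epi_g)
  | succ n ih =>
    have := hinj F
    exact isZero_rightDerived_succ_succ_X₁ S (key F) n (ih (ExtRD.sesInj F).X₃)

end Abstract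

section Apply

variable {k : Type u} [Field k] [IsSepClosed k] {X Y : Scheme.{u}} (h : Xk k ⟶ X)

instance : (EtCoh.push h).PreservesInjectiveObjects :=
  Groth.Agent.Lib.Helper4.EtRestr.push_preservesInjectives h

instance preservesFiniteLimits_push {X Y : Scheme.{u}} (f : X ⟶ Y) :
    PreservesFiniteLimits (EtCoh.push f) :=
  have : PreservesLimitsOfSize.{0, 0} (EtCoh.push f) :=
    (EtCoh.pullPushAdj f).rightAdjoint_preservesLimits
  PreservesLimitsOfSize.preservesFiniteLimits _

/-- `R^q f_* (h_* C) = 0` for `q > 0` when `h : Spec k ⟶ X` with `k` separably closed -/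
theorem isZero_Rpush_push (f : X ⟶ Y) (C : EtCoh.Ab (Xk k)) (n : ℕ) :
    IsZero ((EtCoh.Rpush f (n + 1)).obj ((EtCoh.push h).obj C)) := by
  refine isZero_rightDerived_of_exact (EtCoh.push h) (EtCoh.push f)
    (fun g hg => @push_map_epi _ _ _ _ h _ _ g hg) ?_ n C
  intro F F'' g hg
  have h1 : Epi ((EtCoh.push (h ≫ f)).map g) := @push_map_epi _ _ _ _ (h ≫ f) _ _ g hg
  have h2 := (EtCoh.pushComp f h).hom.naturality g
  have h3 : (EtCoh.push f).map ((EtCoh.push h).map g) =
      (EtCoh.pushComp f h).hom.app F ≫ (EtCoh.push (h ≫ f)).map g ≫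
        (EtCoh.pushComp f h).inv.app F'' := by
    rw [← Category.assoc, ← h2, Category.assoc, Iso.hom_inv_id_app]
    exact (Category.comp_id _).symm
  rw [h3]
  infer_instance

/-- `H^q(X, h_* C) = 0` for `q > 0` when `h : Spec k ⟶ X` with `k` separably closed -/
theorem subsingleton_H_push (C : EtCoh.Ab (Xk k)) (n : ℕ) :
    Subsingleton (EtCoh.H X ((EtCoh.push h).obj C) (n + 1)) := by
  let Z : EtCoh.Ab X := (constantSheaf X.smallEtaleTopology AddCommGrpCat.{u + 1}).obj
    (AddCommGrpCat.of (ULift ℤ))
  have hz : IsZero (((ExtRD.homF Z).rightDerived (n + 1)).obj ((EtCoh.push h).obj C)) := by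
    refine isZero_rightDerived_of_exact (EtCoh.push h) (ExtRD.homF Z)
      (fun g hg => @push_map_epi _ _ _ _ h _ _ g hg) ?_ n C
    intro F F'' g hg
    rw [AddCommGrpCat.epi_iff_surjective]
    intro φ''
    let adj := EtCore.constAdj X
    let a'' : AddCommGrpCat.of (ULift ℤ) ⟶ ((EtCoh.push h).obj F'').obj.obj (op (EtCoh.top X)) :=
      adj.homEquiv _ _ φ''
    obtain ⟨b, hb⟩ := @surjective_app _ _ _ _ _ g hg ((EtCoh.bc h).obj (EtCoh.top X))
      (AddCommGrpCat.uliftZMultiplesAddEquiv _ a'')
    let a : AddCommGrpCat.of (ULift ℤ) ⟶ ((EtCoh.push h).obj F).obj.obj (op (EtCoh.top X)) :=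
      (AddCommGrpCat.uliftZMultiplesAddEquiv _).symm b
    refine ⟨(adj.homEquiv _ _).symm a, ?_⟩
    show (adj.homEquiv _ _).symm a ≫ (EtCoh.push h).map g = φ''
    apply (adj.homEquiv _ _).injective
    rw [adj.homEquiv_naturality_right, Equiv.apply_symm_apply]
    apply (AddCommGrpCat.uliftZMultiplesAddEquiv _).injective
    refine Eq.trans ?_ hb
    have h1 : (AddCommGrpCat.uliftZMultiplesAddEquiv _) a = b := AddEquiv.apply_symm_apply _ b
    rw [← h1]
    simp [AddCommGrpCat.uliftZMultiplesAddEquiv_apply]
    rfl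
  obtain ⟨e⟩ := ExtRD.ext_iso_rightDerived Z ((EtCoh.push h).obj C) (n + 1)
  have h0 := IsZero.of_iso hz e.symm
  exact AddCommGrpCat.subsingleton_of_isZero h0

end Apply

section Normal

open Groth.Agent.Lib.Helper33.EtConstGeneric Groth.Agent.Lib.Helper43.ConstSheaf

variable (X : Scheme.{u}) [IsIntegral X]

/-- the canonical morphism from the spectrum of the function field -/
noncomputable abbrev gen : Xk X.functionField ⟶ X := X.fromSpecStalk (genericPoint X)

lemma range_gen : Set.range (gen X) = {genericPoint X} := by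
  rw [Scheme.range_fromSpecStalk]
  ext y
  simp only [Set.mem_ofPred_eq, Set.mem_singleton_iff]
  constructor
  · intro h
    exact (h.antisymm (genericPoint_specializes y)).eq
  · rintro rfl
    exact specializes_rfl

variable {X}
variable (hN : ∀ x : X, IsIntegrallyClosed (X.presheaf.stalk x))

include hN in
/-- on a normal integral scheme, a constant sheaf is the direct image of the constant sheaf on the
spectrum of the function field -/
theorem isIso_cmp_gen (M : AddCommGrpCat.{u + 1}) : IsIso (EtConstGeneric.cmp (gen X) M) := by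
  have h := isIso_unit_const_of_genericPoint (gen X) (range_gen X) hN M
  unfold EtConstGeneric.cmp
  infer_instance

variable [IsSepClosed X.functionField]

include hN in
/-- `R^q f_* M_X = 0` for `q > 0` on a normal integral scheme with separably closed function
field -/
theorem isZero_Rpush_const {Y : Scheme.{u}} (f : X ⟶ Y) (M : AddCommGrpCat.{u + 1}) (n : ℕ) :
    IsZero ((EtCoh.Rpush f (n + 1)).obj (K.{u + 1} X.smallEtaleTopology M)) := by
  have := isIso_cmp_gen hN M
  exact IsZero.of_iso (isZero_Rpush_push (gen X) f _ n)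
    ((EtCoh.Rpush f (n + 1)).mapIso (asIso (EtConstGeneric.cmp (gen X) M)))

include hN in
/-- `H^q(X, M_X) = 0` for `q > 0` on a normal integral scheme with separably closed function
field -/
theorem subsingleton_H_const (M : AddCommGrpCat.{u + 1}) (n : ℕ) :
    Subsingleton (EtCoh.H X (K.{u + 1} X.smallEtaleTopology M) (n + 1)) := by
  have := isIso_cmp_gen hN M
  have h1 := subsingleton_H_push (gen X) (K.{u + 1} (Xk X.functionField).smallEtaleTopology M) n
  let e := (EtCoh.HF X (n + 1)).mapIso (asIso (EtConstGeneric.cmp (gen X) M))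
  have h2 : IsZero ((EtCoh.HF X (n + 1)).obj
      ((EtCoh.push (gen X)).obj (K.{u + 1} (Xk X.functionField).smallEtaleTopology M))) := by
    rw [AddCommGrpCat.isZero_iff_subsingleton]
    exact h1
  exact AddCommGrpCat.subsingleton_of_isZero (IsZero.of_iso h2 e)

end Normal

end Groth.Agent.Lib.Helper33.EtSepClosed
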