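import Mathlib.Algebra.Homology.SpectralSequence.Basic
import Mathlib.Algebra.Homology.HomologicalComplexAbelian
import Mathlib.Algebra.Homology.ShortComplex.Exact
import Mathlib.Algebra.Homology.Refinements
import Mathlib.CategoryTheory.Abelian.Refinements
import Mathlib.CategoryTheory.Abelian.Exact

/-!
# Bigraded exact couples and their spectral sequences (helper33)

A bigraded exact couple `D →α D →β E →γ D` with `α` of bidegree `a = (-1, 1)`, `β` of bidegree `b`
and `γ` of bidegree `c`, in the "all pairs" style of `HomologicalComplex` (maps are given for all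
pairs of indices and vanish for unrelated pairs).  The derived couple, and the spectral sequence
obtained by iterating it.
-/

set_option autoImplicit false

universe v u

open CategoryTheory CategoryTheory.Limits

namespace Groth.Agent.Lib.Helper33.EC

/-- the bidegree of `α` -/
abbrev a : ℤ × ℤ := (-1, 1)

/-- A bigraded exact couple; `c` is the bidegree of `γ`, the bidegree `b` of `β` is a field. -/
structure Couple (C : Type u) [Category.{v} C] [Abelian C] (c : ℤ × ℤ) where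
  b : ℤ × ℤ
  D : ℤ × ℤ → C
  E : ℤ × ℤ → C
  α : ∀ i j : ℤ × ℤ, D i ⟶ D j
  β : ∀ i j : ℤ × ℤ, D i ⟶ E j
  γ : ∀ i j : ℤ × ℤ, E i ⟶ D j
  α_shape : ∀ i j, i + a ≠ j → α i j = 0
  β_shape : ∀ i j, i + b ≠ j → β i j = 0
  γ_shape : ∀ i j, i + c ≠ j → γ i j = 0
  αβ : ∀ i j k, α i j ≫ β j k = 0
  βγ : ∀ i j k, β i j ≫ γ j k = 0
  γα : ∀ i j k, γ i j ≫ α j k = 0
  ex_αβ : ∀ i j k, i + a = j → j + b = k → (ShortComplex.mk (α i j) (β j k) (αβ i j k)).Exact
  ex_βγ : ∀ i j k, i + b = j → j + c = k → (ShortComplex.mk (β i j) (γ j k) (βγ i j k)).Exact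
  ex_γα : ∀ i j k, i + c = j → j + a = k → (ShortComplex.mk (γ i j) (α j k) (γα i j k)).Exact

namespace Couple

variable {C : Type u} [Category.{v} C] [Abelian C] {c : ℤ × ℤ} (X : Couple C c)

/-- the differential `E i ⟶ E j` (nonzero only if `i + (c + b) = j`), with explicit middle index -/
def dm (i m j : ℤ × ℤ) : X.E i ⟶ X.E j := X.γ i m ≫ X.β m j

/-- the differential `E i ⟶ E j` (nonzero only if `i + (c + b) = j`) -/
def d (i j : ℤ × ℤ) : X.E i ⟶ X.E j := X.dm i (i + c) j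

lemma dm_eq_d (i m j : ℤ × ℤ) (h : i + c = m) : X.dm i m j = X.d i j := by
  subst h; rfl

lemma d_shape (i j : ℤ × ℤ) (h : i + (c + X.b) ≠ j) : X.d i j = 0 := by
  unfold d dm
  rw [X.β_shape _ _ (by rwa [add_assoc]), comp_zero]

@[reassoc (attr := simp)]
lemma d_comp_d (i j k : ℤ × ℤ) : X.d i j ≫ X.d j k = 0 := by
  unfold d dm
  rw [Category.assoc, reassoc_of% (X.βγ (i + c) j (j + c)), zero_comp, comp_zero]

@[reassoc (attr := simp)]
lemma d_comp_γ (i j k : ℤ × ℤ) : X.d i j ≫ X.γ j k = 0 := by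
  unfold d dm
  rw [Category.assoc, X.βγ, comp_zero]

@[reassoc (attr := simp)]
lemma β_comp_d (i j k : ℤ × ℤ) : X.β i j ≫ X.d j k = 0 := by
  unfold d dm
  rw [reassoc_of% (X.βγ i j (j + c)), zero_comp]

/-- the short complex computing the next page at `j` -/
abbrev sc (j : ℤ × ℤ) : ShortComplex C :=
  ShortComplex.mk (X.d (j - (c + X.b)) j) (X.d j (j + (c + X.b))) (X.d_comp_d _ _ _)

/-! ### The derived couple -/

/-- `D'` -/
noncomputable def D' (j : ℤ × ℤ) : C := Abelian.image (X.α (j - a) j)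

/-- the inclusion `D' j ⟶ D j` -/
noncomputable def ι' (j : ℤ × ℤ) : X.D' j ⟶ X.D j := Abelian.image.ι _

/-- the projection `D (j - a) ⟶ D' j` -/
noncomputable def π' (j : ℤ × ℤ) : X.D (j - a) ⟶ X.D' j := Abelian.factorThruImage _

instance (j : ℤ × ℤ) : Mono (X.ι' j) :=
  inferInstanceAs (Mono (Abelian.image.ι (X.α (j - a) j)))

instance (j : ℤ × ℤ) : Epi (X.π' j) :=
  inferInstanceAs (Epi (Abelian.factorThruImage (X.α (j - a) j)))

@[reassoc (attr := simp)]
lemma π'_ι' (j : ℤ × ℤ) : X.π' j ≫ X.ι' j = X.α (j - a) j := Abelian.image.fac _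

/-- the projection `D i ⟶ D' j` for a related pair -/
noncomputable def πr (i j : ℤ × ℤ) (h : i + a = j) : X.D i ⟶ X.D' j :=
  eqToHom (by rw [← h, add_sub_cancel_right]) ≫ X.π' j

instance (i j : ℤ × ℤ) (h : i + a = j) : Epi (X.πr i j h) := by unfold πr; infer_instance

lemma α_congr_left {i i' : ℤ × ℤ} (h : i = i') (j : ℤ × ℤ) :
    eqToHom (by rw [h]) ≫ X.α i' j = X.α i j := by
  subst h; simp

@[reassoc (attr := simp)]
lemma πr_ι' (i j : ℤ × ℤ) (h : i + a = j) : X.πr i j h ≫ X.ι' j = X.α i j := by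
  unfold πr
  rw [Category.assoc, π'_ι']
  exact X.α_congr_left (by rw [← h, add_sub_cancel_right]) j

lemma πr_self (j : ℤ × ℤ) : X.πr (j - a) j (sub_add_cancel j a) = X.π' j := by
  rw [← cancel_mono (X.ι' j), πr_ι', π'_ι']

@[reassoc (attr := simp)]
lemma ι'_β (j k : ℤ × ℤ) : X.ι' j ≫ X.β j k = 0 := by
  rw [← cancel_epi (X.π' j), π'_ι'_assoc, X.αβ, comp_zero]

@[reassoc (attr := simp)]
lemma γ_πr (m i j : ℤ × ℤ) (h : i + a = j) : X.γ m i ≫ X.πr i j h = 0 := by
  rw [← cancel_mono (X.ι' j), Category.assoc, πr_ι', X.γα, zero_comp]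

/-- the exact short complex `D' j ⟶ D j ⟶ E k` -/
lemma exact_ι'_β (j k : ℤ × ℤ) (hk : j + X.b = k) :
    (ShortComplex.mk (X.ι' j) (X.β j k) (X.ι'_β j k)).Exact := by
  have h := X.ex_αβ (j - a) j k (sub_add_cancel j a) hk
  rw [ShortComplex.exact_iff_exact_up_to_refinements] at h ⊢
  intro A x₂ hx₂
  obtain ⟨A', π, hπ, x₁, fac⟩ := h x₂ hx₂
  exact ⟨A', π, hπ, x₁ ≫ X.π' j, by rw [fac, Category.assoc, π'_ι']⟩

/-- the exact short complex `E m ⟶ D i ⟶ D' j` -/
lemma exact_γ_πr (m i j : ℤ × ℤ) (hm : m + c = i) (h : i + a = j) :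
    (ShortComplex.mk (X.γ m i) (X.πr i j h) (X.γ_πr m i j h)).Exact := by
  have h' := X.ex_γα m i j hm h
  rw [ShortComplex.exact_iff_exact_up_to_refinements] at h' ⊢
  intro A x₂ hx₂
  refine h' x₂ ?_
  have e : x₂ ≫ X.α i j = (x₂ ≫ X.πr i j h) ≫ X.ι' j := by rw [Category.assoc, πr_ι']
  exact e.trans (by rw [hx₂, zero_comp])

/-- `α'` -/
noncomputable def α' (i j : ℤ × ℤ) : X.D' i ⟶ X.D' j :=
  (X.exact_ι'_β j (j + X.b) rfl).lift (X.ι' i ≫ X.α i j) (by
    dsimp; rw [Category.assoc, X.αβ, comp_zero])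

@[reassoc (attr := simp)]
lemma α'_ι' (i j : ℤ × ℤ) : X.α' i j ≫ X.ι' j = X.ι' i ≫ X.α i j :=
  (X.exact_ι'_β j (j + X.b) rfl).lift_f _ _

lemma α'_shape (i j : ℤ × ℤ) (h : i + a ≠ j) : X.α' i j = 0 := by
  rw [← cancel_mono (X.ι' j), α'_ι', X.α_shape i j h, comp_zero, zero_comp]

@[reassoc]
lemma πr_α' (m i j : ℤ × ℤ) (hm : m + a = i) (h : i + a = j) :
    X.πr m i hm ≫ X.α' i j = X.α m i ≫ X.πr i j h := by
  rw [← cancel_mono (X.ι' j), Category.assoc, α'_ι', πr_ι'_assoc, Category.assoc, πr_ι']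

lemma iCycles_dm (i m k : ℤ × ℤ) : (X.sc i).iCycles ≫ X.dm i m k = 0 := by
  by_cases h1 : i + c = m
  · by_cases h2 : i + (c + X.b) = k
    · subst h2
      rw [X.dm_eq_d i m _ h1]
      exact (X.sc i).iCycles_g
    · rw [X.dm_eq_d i m _ h1, X.d_shape _ _ h2, comp_zero]
  · unfold dm
    rw [X.γ_shape _ _ h1, zero_comp, comp_zero]

lemma d_liftCycles_homologyπ (m j : ℤ × ℤ) :
    (X.sc j).liftCycles (X.d m j) (X.d_comp_d _ _ _) ≫ (X.sc j).homologyπ = 0 := by
  by_cases h : m + (c + X.b) = j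
  · obtain rfl : m = j - (c + X.b) := eq_sub_of_add_eq h
    exact (X.sc j).toCycles_comp_homologyπ
  · have : (X.sc j).liftCycles (X.d m j) (X.d_comp_d _ _ _) = 0 := by
      rw [← cancel_mono (X.sc j).iCycles, ShortComplex.liftCycles_i, zero_comp]
      exact X.d_shape _ _ h
    rw [this, zero_comp]

/-- the map `D m ⟶ E' j`, `y ↦ [β y]` -/
noncomputable def φ (m j : ℤ × ℤ) : X.D m ⟶ (X.sc j).homology :=
  (X.sc j).liftCycles (X.β m j) (X.β_comp_d _ _ _) ≫ (X.sc j).homologyπ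

lemma γ_φ (l m j : ℤ × ℤ) : X.γ l m ≫ X.φ m j = 0 := by
  unfold φ
  by_cases h : l + c = m
  · have e : X.γ l m ≫ (X.sc j).liftCycles (X.β m j) (X.β_comp_d _ _ _) =
        (X.sc j).liftCycles (X.d l j) (X.d_comp_d _ _ _) := by
      rw [← cancel_mono (X.sc j).iCycles, Category.assoc, ShortComplex.liftCycles_i,
        ShortComplex.liftCycles_i]
      exact X.dm_eq_d l m j h
    rw [reassoc_of% e, d_liftCycles_homologyπ]
  · rw [X.γ_shape _ _ h, zero_comp]

/-- `β'` -/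
noncomputable def β' (i j : ℤ × ℤ) : X.D' i ⟶ (X.sc j).homology :=
  (X.exact_γ_πr (i - a - c) (i - a) i (sub_add_cancel _ _) (sub_add_cancel _ _)).desc
    (X.φ (i - a) j) (X.γ_φ _ _ _)

@[reassoc]
lemma πr_β' (m i j : ℤ × ℤ) (h : m + a = i) : X.πr m i h ≫ X.β' i j = X.φ m j := by
  obtain rfl : m = i - a := eq_sub_of_add_eq h
  exact (X.exact_γ_πr (i - a - c) (i - a) i (sub_add_cancel _ _) (sub_add_cancel _ _)).g_desc _ _

/-- `γ'` -/
noncomputable def γ' (i j : ℤ × ℤ) : (X.sc i).homology ⟶ X.D' j :=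
  (X.sc i).descHomology
    ((X.exact_ι'_β j (j + X.b) rfl).lift ((X.sc i).iCycles ≫ X.γ i j) (by
      dsimp; rw [Category.assoc]; exact X.iCycles_dm i j _)) (by
      rw [← cancel_mono (X.ι' j), Category.assoc, ShortComplex.Exact.lift_f, zero_comp,
        ShortComplex.toCycles_i_assoc]
      exact X.d_comp_γ _ _ _)

@[reassoc (attr := simp)]
lemma homologyπ_γ'_ι' (i j : ℤ × ℤ) :
    (X.sc i).homologyπ ≫ X.γ' i j ≫ X.ι' j = (X.sc i).iCycles ≫ X.γ i j := by
  unfold γ'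
  rw [ShortComplex.π_descHomology_assoc, ShortComplex.Exact.lift_f]

lemma φ_shape (m j : ℤ × ℤ) (h : m + X.b ≠ j) : X.φ m j = 0 := by
  unfold φ
  have : (X.sc j).liftCycles (X.β m j) (X.β_comp_d _ _ _) = 0 := by
    rw [← cancel_mono (X.sc j).iCycles, ShortComplex.liftCycles_i, zero_comp]
    exact X.β_shape _ _ h
  rw [this, zero_comp]

lemma α_φ (l m j : ℤ × ℤ) : X.α l m ≫ X.φ m j = 0 := by
  unfold φ
  have : X.α l m ≫ (X.sc j).liftCycles (X.β m j) (X.β_comp_d _ _ _) = 0 := by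
    rw [← cancel_mono (X.sc j).iCycles, Category.assoc, ShortComplex.liftCycles_i, zero_comp]
    exact X.αβ _ _ _
  rw [reassoc_of% this, zero_comp]

lemma β'_shape (i j : ℤ × ℤ) (h : i + (X.b - a) ≠ j) : X.β' i j = 0 := by
  rw [← cancel_epi (X.π' i), ← X.πr_self i, πr_β', comp_zero]
  apply φ_shape
  intro h'
  apply h
  rw [← h']
  abel

lemma γ'_shape (i j : ℤ × ℤ) (h : i + c ≠ j) : X.γ' i j = 0 := by
  rw [← cancel_epi (X.sc i).homologyπ, ← cancel_mono (X.ι' j), Category.assoc, homologyπ_γ'_ι',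
    X.γ_shape _ _ h, comp_zero, comp_zero, zero_comp]

lemma α'β' (i j k : ℤ × ℤ) : X.α' i j ≫ X.β' j k = 0 := by
  by_cases h : i + a = j
  · rw [← cancel_epi (X.π' i), ← X.πr_self i, X.πr_α'_assoc _ _ _ _ h, πr_β', α_φ, comp_zero]
  · rw [X.α'_shape _ _ h, zero_comp]

lemma φ_γ'_ι' (m j k : ℤ × ℤ) : X.φ m j ≫ X.γ' j k ≫ X.ι' k = 0 := by
  unfold φ
  rw [Category.assoc, homologyπ_γ'_ι', ShortComplex.liftCycles_i_assoc, X.βγ]

lemma β'γ' (i j k : ℤ × ℤ) : X.β' i j ≫ X.γ' j k = 0 := by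
  rw [← cancel_epi (X.π' i), ← X.πr_self i, πr_β'_assoc, ← cancel_mono (X.ι' k), Category.assoc,
    φ_γ'_ι', comp_zero, zero_comp]

lemma γ'α' (i j k : ℤ × ℤ) : X.γ' i j ≫ X.α' j k = 0 := by
  rw [← cancel_epi (X.sc i).homologyπ, ← cancel_mono (X.ι' k), Category.assoc, Category.assoc,
    α'_ι', homologyπ_γ'_ι'_assoc, X.γα, comp_zero, comp_zero, zero_comp]

lemma ex_α'β' (i j k : ℤ × ℤ) (hi : i + a = j) (hk : j + (X.b - a) = k) :
    (ShortComplex.mk (X.α' i j) (X.β' j k) (X.α'β' i j k)).Exact := by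
  obtain rfl : i = j - a := eq_sub_of_add_eq hi
  rw [ShortComplex.exact_iff_exact_up_to_refinements]
  intro A x hx
  dsimp at x hx
  obtain ⟨A₁, π₁, _, y, hy⟩ := surjective_up_to_refinements_of_epi (X.π' j) x
  have hy0 : y ≫ X.φ (j - a) k = 0 := by
    rw [← X.πr_β' (j - a) j k (sub_add_cancel j a), X.πr_self, ← reassoc_of% hy, hx, comp_zero]
  have hβd : (y ≫ X.β (j - a) k) ≫ X.d k (k + (c + X.b)) = 0 := by
    rw [Category.assoc, X.β_comp_d, comp_zero]
  have hy1 : (X.sc k).liftCycles (y ≫ X.β (j - a) k) hβd ≫ (X.sc k).homologyπ = 0 := by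
    have e : (X.sc k).liftCycles (y ≫ X.β (j - a) k) hβd =
        y ≫ (X.sc k).liftCycles (X.β (j - a) k) (X.β_comp_d _ _ _) := by
      rw [← cancel_mono (X.sc k).iCycles, Category.assoc, ShortComplex.liftCycles_i,
        ShortComplex.liftCycles_i]
    rw [e, Category.assoc]
    exact hy0
  obtain ⟨A₂, π₂, _, w, hw⟩ :=
    ((X.sc k).liftCycles_comp_homologyπ_eq_zero_iff_up_to_refinements _ hβd).1 hy1
  have hidx : k - (c + X.b) + c = j - a := by rw [← hk]; abel
  have hd : X.d (k - (c + X.b)) k = X.γ (k - (c + X.b)) (j - a) ≫ X.β (j - a) k :=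
    (X.dm_eq_d _ _ _ hidx).symm
  have h0 : (π₂ ≫ y - w ≫ X.γ (k - (c + X.b)) (j - a)) ≫ X.β (j - a) k = 0 := by
    rw [Preadditive.sub_comp, Category.assoc, Category.assoc, hw, ← hd]
    exact sub_self _
  obtain ⟨A₃, π₃, _, z, hz⟩ := (X.ex_αβ (j - a - a) (j - a) k (sub_add_cancel _ _)
    (by rw [← hk]; abel)).exact_up_to_refinements _ h0
  refine ⟨A₃, π₃ ≫ π₂ ≫ π₁, inferInstance, z ≫ X.πr (j - a - a) (j - a) (sub_add_cancel _ _), ?_⟩
  dsimp at hz ⊢
  have hγπ : X.γ (k - (c + X.b)) (j - a) ≫ X.π' j = 0 := by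
    rw [← X.πr_self]; exact X.γ_πr _ _ _ _
  rw [Category.assoc (z), X.πr_α' _ _ _ _ (sub_add_cancel j a), X.πr_self, ← reassoc_of% hz,
    Category.assoc, Category.assoc, hy, Preadditive.sub_comp, Preadditive.comp_sub,
    Category.assoc, Category.assoc, hγπ, comp_zero, comp_zero, sub_zero]

lemma ex_β'γ' (i j k : ℤ × ℤ) (hi : i + (X.b - a) = j) (hk : j + c = k) :
    (ShortComplex.mk (X.β' i j) (X.γ' j k) (X.β'γ' i j k)).Exact := by
  rw [ShortComplex.exact_iff_exact_up_to_refinements]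
  intro A x hx
  dsimp at x hx
  obtain ⟨A₁, π₁, _, z, hz, hx'⟩ := (X.sc j).eq_liftCycles_homologyπ_up_to_refinements x
  have hzγ : z ≫ X.γ j k = 0 := by
    have h1 : π₁ ≫ (x ≫ X.γ' j k) ≫ X.ι' k = 0 := by rw [hx, zero_comp, comp_zero]
    rw [Category.assoc, reassoc_of% hx', homologyπ_γ'_ι',
      ShortComplex.liftCycles_i_assoc] at h1
    exact h1
  obtain ⟨A₂, π₂, _, y, hy⟩ := (X.ex_βγ (j - X.b) j k (sub_add_cancel _ _)
    hk).exact_up_to_refinements z hzγ
  have hh : j - X.b + a = i := by rw [← hi]; abel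
  refine ⟨A₂, π₂ ≫ π₁, inferInstance, y ≫ X.πr (j - X.b) i hh, ?_⟩
  dsimp at hy ⊢
  rw [Category.assoc, Category.assoc, X.πr_β', hx']
  unfold φ
  rw [← Category.assoc, ← Category.assoc]
  congr 1
  rw [← cancel_mono (X.sc j).iCycles, Category.assoc, Category.assoc,
    ShortComplex.liftCycles_i, ShortComplex.liftCycles_i, hy]

lemma ex_γ'α' (i j k : ℤ × ℤ) (hi : i + c = j) (hk : j + a = k) :
    (ShortComplex.mk (X.γ' i j) (X.α' j k) (X.γ'α' i j k)).Exact := by
  rw [ShortComplex.exact_iff_exact_up_to_refinements]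
  intro A x hx
  dsimp at x hx
  have hy : (x ≫ X.ι' j) ≫ X.α j k = 0 := by
    rw [Category.assoc, ← α'_ι', reassoc_of% hx, zero_comp]
  obtain ⟨A₁, π₁, _, w, hw⟩ := (X.ex_γα i j k hi hk).exact_up_to_refinements _ hy
  have hwd : w ≫ X.d i (i + (c + X.b)) = 0 := by
    rw [← X.dm_eq_d i j _ hi]
    unfold dm
    rw [← reassoc_of% hw, ι'_β, comp_zero, comp_zero]
  refine ⟨A₁, π₁, inferInstance, (X.sc i).liftCycles w hwd ≫ (X.sc i).homologyπ, ?_⟩
  dsimp
  rw [← cancel_mono (X.ι' j), Category.assoc, Category.assoc, Category.assoc, homologyπ_γ'_ι',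
    ShortComplex.liftCycles_i_assoc, hw]

/-- The derived couple. -/
@[reducible] noncomputable def derive : Couple C c where
  b := X.b - a
  D := X.D'
  E j := (X.sc j).homology
  α := X.α'
  β := X.β'
  γ := X.γ'
  α_shape := X.α'_shape
  β_shape := X.β'_shape
  γ_shape := X.γ'_shape
  αβ := X.α'β'
  βγ := X.β'γ'
  γα := X.γ'α'
  ex_αβ := X.ex_α'β'
  ex_βγ := X.ex_β'γ'
  ex_γα := X.ex_γ'α'

/-! ### Iteration and the spectral sequence -/

/-- the iterated derived couples -/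
@[reducible] noncomputable def stage : ℕ → Couple C c
  | 0 => X
  | k + 1 => (stage k).derive

@[simp] lemma stage_zero : X.stage 0 = X := rfl

lemma stage_succ (k : ℕ) : X.stage (k + 1) = (X.stage k).derive := rfl

lemma stage_b (k : ℕ) : (X.stage k).b = X.b + ((k : ℤ), -(k : ℤ)) := by
  induction k with
  | zero => simp
  | succ k ih =>
    rw [stage_succ]
    change (X.stage k).b - a = _
    rw [ih]
    ext <;> simp <;> omega

/-- the page of a couple, as a homological complex of shape `up' v` where `v = c + b` -/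
noncomputable def page (v : ℤ × ℤ) (hv : c + X.b = v) :
    HomologicalComplex C (ComplexShape.up' v) where
  X i := X.E i
  d i j := X.d i j
  shape i j h := X.d_shape i j (by rw [hv]; exact h)
  d_comp_d' i j k _ _ := X.d_comp_d i j k

/-- the homology of the page is the `E` of the derived couple -/
noncomputable def pageHomologyIso (v : ℤ × ℤ) (hv : c + X.b = v) (j : ℤ × ℤ) :
    (X.page v hv).homology j ≅ X.derive.E j := by
  subst hv
  have h1 : (ComplexShape.up' (c + X.b)).prev j = j - (c + X.b) :=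
    (ComplexShape.up' (c + X.b)).prev_eq' (sub_add_cancel _ _)
  have h2 : (ComplexShape.up' (c + X.b)).next j = j + (c + X.b) :=
    (ComplexShape.up' (c + X.b)).next_eq' rfl
  exact (X.page (c + X.b) rfl).homologyIsoSc' _ j _ h1 h2

/-- auxiliary form of the isomorphism between the homology of a page and the next page -/
noncomputable def stageIso (k k' : ℕ) (h : k' = k + 1) (v : ℤ × ℤ) (hv : c + (X.stage k).b = v)
    (j : ℤ × ℤ) : ((X.stage k).page v hv).homology j ≅ (X.stage k').E j := by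
  subst h
  exact (X.stage k).pageHomologyIso v hv j

end Couple

/-- The spectral sequence of an exact couple with `β` of bidegree `0` and `γ` of bidegree
`(r₀, 1 - r₀)`: its first page is `r₀`. -/
noncomputable def Couple.ss {C : Type u} [Category.{v} C] [Abelian C] {r₀ : ℤ}
    (X : Couple C (r₀, 1 - r₀)) (hb : X.b = 0) : CohomologicalSpectralSequence C r₀ where
  page r hr := (X.stage (r - r₀).toNat).page (r, 1 - r) (by
    rw [X.stage_b, hb]
    ext <;> simp <;> omega)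
  iso r r' pq hrr' hr := (X.stageIso (r - r₀).toNat (r' - r₀).toNat (by omega) _ _ pq)

end Groth.Agent.Lib.Helper33.EC
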