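import Groth.Agent.Lib.Helper33.ExactCouple
import Groth.Prelude.Def_SpSeq
import Mathlib.Order.Interval.Finset.Defs
import Mathlib.Order.Interval.Finset.Basic
import Mathlib.Data.Int.Interval

/-!
# The abutment of the spectral sequence of a first-quadrant exact couple (helper33)

For a bigraded exact couple `X : Couple C (r₀, 1 - r₀)` with `β` of bidegree `0`, such that
`E^{p,q} = 0` for `p < 0` or `q < 0` and `D^{p,q} = 0` for `q < 0`, the spectral sequence `X.ss hb`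
abuts to `n ↦ D^{0,n}`, filtered by the images of `D^{p,n-p} ⟶ D^{0,n}`.
-/

set_option autoImplicit false

universe v u

open CategoryTheory CategoryTheory.Limits

namespace Groth.Agent.Lib.Helper33.EC

variable {C : Type u} [Category.{v} C] [Abelian C]

/-! ### General lemmas on subquotients -/

/-- the cokernel of an inclusion of subobjects `mk (g ≫ f) ≤ mk f` is the cokernel of `g` -/
lemma subquot_iso_cokernel {X Y Z : C} (f : Y ⟶ X) (g : Z ⟶ Y) [Mono f] [Mono g]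
    (S T : Subobject X) (hS : S = Subobject.mk (g ≫ f)) (hT : T = Subobject.mk f) (h : S ≤ T) :
    Nonempty (cokernel (S.ofLE T h) ≅ cokernel g) := by
  subst hS hT
  refine ⟨cokernel.mapIso _ _ (Subobject.underlyingIso (g ≫ f)) (Subobject.underlyingIso f) ?_⟩
  rw [← cancel_mono f, Category.assoc, Category.assoc, Subobject.underlyingIso_hom_comp_eq_mk,
    Subobject.ofLE_arrow, Subobject.underlyingIso_hom_comp_eq_mk]

omit [Abelian C] in
lemma isIso_ofLE_of_eq {X : C} (S T : Subobject X) (h : S ≤ T) (e : S = T) :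
    IsIso (S.ofLE T h) := by
  subst e
  rw [Subobject.ofLE_refl]
  infer_instance

lemma grPiece_isZero_of_eq {X : C} (F : ℤ → Subobject X) (hF : Antitone F) (p : ℤ)
    (h : F (p + 1) = F p) : IsZero (SpSeq.grPiece F hF p) := by
  unfold SpSeq.grPiece SpSeq.subquot
  have := isIso_ofLE_of_eq _ _ (hF (Int.le_add_one le_rfl)) h
  exact isZero_cokernel_of_epi _

lemma exact_congr {X Y Z : C} {f f' : X ⟶ Y} {g g' : Y ⟶ Z} (hf : f = f') (hg : g = g')
    (w : f ≫ g = 0) (w' : f' ≫ g' = 0) (h : (ShortComplex.mk f' g' w').Exact) :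
    (ShortComplex.mk f g w).Exact := by
  subst hf hg
  exact h

namespace Couple

variable {c : ℤ × ℤ} (X : Couple C c)

/-! ### Propagation of zero objects -/

lemma isZero_derive_E (i : ℤ × ℤ) (h : IsZero (X.E i)) : IsZero (X.derive.E i) :=
  ShortComplex.isZero_homology_of_isZero_X₂ (X.sc i) h

lemma isZero_stage_E (k : ℕ) (i : ℤ × ℤ) (h : IsZero (X.E i)) : IsZero ((X.stage k).E i) := by
  induction k with
  | zero => exact h
  | succ k ih => exact (X.stage k).isZero_derive_E i ih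

lemma isZero_D' (i j : ℤ × ℤ) (hj : i + a = j) (h : IsZero (X.D i)) : IsZero (X.D' j) :=
  IsZero.of_epi (X.πr i j hj) h

lemma isZero_stage_D (k : ℕ) : ∀ (i i' : ℤ × ℤ), i' = (i.1 + k, i.2 - k) → IsZero (X.D i') →
    IsZero ((X.stage k).D i) := by
  induction k with
  | zero =>
    intro i i' hi h
    obtain rfl : i' = i := by rw [hi]; ext <;> simp
    exact h
  | succ k ih =>
    intro i i' hi h
    refine (X.stage k).isZero_D' (i - a) i (sub_add_cancel _ _) (ih (i - a) i' ?_ h)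
    rw [hi]
    ext <;> simp <;> omega

/-! ### The monomorphisms `D_k ⟶ D` -/

/-- the inclusion of `D` of the `k`-th derived couple into `D` -/
noncomputable def J : ∀ (k : ℕ) (i : ℤ × ℤ), (X.stage k).D i ⟶ X.D i
  | 0, _ => 𝟙 _
  | k + 1, i => (X.stage k).ι' i ≫ J k i

lemma J_zero (i : ℤ × ℤ) : X.J 0 i = 𝟙 _ := rfl

lemma J_succ (k : ℕ) (i : ℤ × ℤ) : X.J (k + 1) i = (X.stage k).ι' i ≫ X.J k i := rfl

instance mono_J (k : ℕ) (i : ℤ × ℤ) : Mono (X.J k i) := by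
  induction k with
  | zero => rw [J_zero]; infer_instance
  | succ k ih => rw [J_succ]; infer_instance

lemma α_J (k : ℕ) (i j : ℤ × ℤ) : (X.stage k).α i j ≫ X.J k j = X.J k i ≫ X.α i j := by
  induction k with
  | zero => simp [J_zero]
  | succ k ih =>
    rw [J_succ, J_succ, Category.assoc, ← ih]
    exact (X.stage k).α'_ι'_assoc i j _

lemma mono_stage_α (k : ℕ) (i j : ℤ × ℤ) [Mono (X.α i j)] : Mono ((X.stage k).α i j) := by
  have : Mono ((X.stage k).α i j ≫ X.J k j) := by rw [α_J]; infer_instance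
  exact mono_of_mono _ (X.J k j)

lemma J_factors (k d : ℕ) (i : ℤ × ℤ) : ∃ g : (X.stage (k + d)).D i ⟶ (X.stage k).D i,
    g ≫ X.J k i = X.J (k + d) i := by
  induction d with
  | zero => exact ⟨𝟙 _, Category.id_comp _⟩
  | succ d ih =>
    obtain ⟨g, hg⟩ := ih
    exact ⟨(X.stage (k + d)).ι' i ≫ g, by rw [Category.assoc, hg]; rfl⟩

/-! ### Cokernels of the inclusions `D' ⟶ D` -/

lemma α'_eq (i j : ℤ × ℤ) (h : i + a = j) : X.α' i j = X.ι' i ≫ X.πr i j h := by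
  rw [← cancel_mono (X.ι' j), α'_ι', Category.assoc, πr_ι']

lemma isIso_πr (i j : ℤ × ℤ) (h : i + a = j) [Mono (X.α i j)] : IsIso (X.πr i j h) := by
  have : Mono (X.πr i j h ≫ X.ι' j) := by rw [πr_ι']; infer_instance
  have : Mono (X.πr i j h) := mono_of_mono _ (X.ι' j)
  exact isIso_of_mono_of_epi _

lemma mono_α' (i j : ℤ × ℤ) [Mono (X.α i j)] : Mono (X.α' i j) := by
  have : Mono (X.α' i j ≫ X.ι' j) := by rw [α'_ι']; infer_instance
  exact mono_of_mono _ (X.ι' j)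

lemma coker_step (i j : ℤ × ℤ) (h : i + a = j) [Mono (X.α i j)] :
    Nonempty (cokernel (X.ι' i) ≅ cokernel (X.derive.ι' j)) := by
  have h1 := X.isIso_πr i j h
  have : Mono (X.derive.α i j) := X.mono_α' i j
  have h2 := X.derive.isIso_πr i j h
  refine ⟨cokernel.mapIso _ _ (asIso (X.derive.πr i j h)) (asIso (X.πr i j h)) ?_⟩
  dsimp only [asIso_hom]
  rw [X.derive.πr_ι' i j h]
  exact (X.α'_eq i j h).symm

lemma coker_iter (k d : ℕ) (j : ℤ × ℤ)
    (hm : ∀ e : ℕ, e < d → Mono (X.α (j.1 - e, j.2 + e) (j.1 - e - 1, j.2 + e + 1))) :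
    ∀ j' : ℤ × ℤ, j' = (j.1 - d, j.2 + d) →
    Nonempty (cokernel ((X.stage k).ι' j) ≅ cokernel ((X.stage (k + d)).ι' j')) := by
  induction d with
  | zero =>
    intro j' hj'
    obtain rfl : j' = j := by rw [hj']; ext <;> simp
    exact ⟨Iso.refl _⟩
  | succ d ih =>
    intro j' hj'
    obtain ⟨e₁⟩ := ih (fun e he => hm e (by omega)) (j.1 - d, j.2 + d) rfl
    have := hm d (by omega)
    have hrel : ((j.1 - (d : ℤ), j.2 + (d : ℤ)) : ℤ × ℤ) + a = j' := by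
      rw [hj']; ext <;> simp <;> omega
    have hj'' : j' = (j.1 - (d : ℤ) - 1, j.2 + (d : ℤ) + 1) := by
      rw [hj']; ext <;> simp <;> omega
    rw [← hj''] at this
    have := X.mono_stage_α (k + d) (j.1 - d, j.2 + d) j'
    obtain ⟨e₂⟩ := (X.stage (k + d)).coker_step _ j' hrel
    exact ⟨e₁ ≪≫ e₂⟩

/-- if the target of `γ` vanishes, `E` is the cokernel of the inclusion `D' ⟶ D` -/
lemma E_iso_coker (i j : ℤ × ℤ) (hj : j + X.b = i) (hz : IsZero (X.D (i + c))) :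
    Nonempty (X.E i ≅ cokernel (X.ι' j)) := by
  have h1 := X.exact_ι'_β j i hj
  have h2 := X.ex_βγ j i (i + c) hj rfl
  have : Epi (X.β j i) := h2.epi_f (hz.eq_of_tgt _ _)
  have : Epi (ShortComplex.mk (X.ι' j) (X.β j i) (X.ι'_β j i)).g := this
  have hc : IsColimit (CokernelCofork.ofπ (X.β j i) (X.ι'_β j i)) := h1.gIsCokernel
  exact ⟨hc.coconePointUniqueUpToIso (colimit.isColimit _)⟩

/-! ### The filtration on `D (0, n)` -/

/-- the filtration on `D (0, n)`, indexed by `ℕ`: `F^k` is the image of `D (k, n - k)` -/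
noncomputable def filN (n : ℤ) (k : ℕ) : Subobject (X.D (0, n)) := Subobject.mk (X.J k (0, n))

/-- the filtration on `D (0, n)`: `F^p` is the image of `D (p, n - p)` -/
noncomputable def fil (n p : ℤ) : Subobject (X.D (0, n)) := X.filN n p.toNat

lemma filN_le (n : ℤ) (k d : ℕ) : X.filN n (k + d) ≤ X.filN n k := by
  obtain ⟨g, hg⟩ := X.J_factors k d (0, n)
  exact Subobject.mk_le_mk_of_comm g hg

lemma fil_anti (n : ℤ) : Antitone (X.fil n) := by
  intro p p' h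
  have h' : p.toNat ≤ p'.toNat := Int.toNat_le_toNat h
  obtain ⟨d, hd⟩ := Nat.exists_eq_add_of_le h'
  unfold fil
  rw [hd]
  exact X.filN_le n _ d

lemma fil_eq_of_toNat_eq (n p p' : ℤ) (h : p.toNat = p'.toNat) : X.fil n p = X.fil n p' := by
  unfold fil; rw [h]

lemma fil_top (n p : ℤ) (hp : p ≤ 0) : X.fil n p = ⊤ := by
  unfold fil
  rw [Int.toNat_eq_zero.2 hp]
  have : IsIso (X.J 0 (0, n)) := by rw [J_zero]; infer_instance
  exact Subobject.mk_eq_top_of_isIso _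

lemma fil_bot (hD : ∀ i : ℤ × ℤ, i.2 < 0 → IsZero (X.D i)) (n p : ℤ) (hp : 0 ≤ p) (hn : n < p) :
    X.fil n p = ⊥ := by
  unfold fil filN
  rw [Subobject.mk_eq_bot_iff_zero]
  refine (X.isZero_stage_D p.toNat (0, n) (0 + p.toNat, n - p.toNat) rfl (hD _ ?_)).eq_of_src _ _
  simp only
  omega

lemma grPiece_iso (n : ℤ) (p : ℕ) :
    Nonempty (SpSeq.grPiece (X.fil n) (X.fil_anti n) (p : ℤ) ≅
      cokernel ((X.stage p).ι' (0, n))) := by
  unfold SpSeq.grPiece SpSeq.subquot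
  refine subquot_iso_cokernel (X.J p (0, n)) ((X.stage p).ι' (0, n)) _ _ ?_ ?_ _
  · unfold fil
    rw [show ((p : ℤ) + 1).toNat = p + 1 by omega]
    rfl
  · unfold fil
    rw [Int.toNat_natCast]
    rfl

end Couple

/-! ### The abutment -/

section Abut

variable {r₀ : ℤ} (X : Couple C (r₀, 1 - r₀)) (hb : X.b = 0)

namespace Couple

include hb in
lemma stage_b' (k : ℕ) : (X.stage k).b = ((k : ℤ), -(k : ℤ)) := by
  rw [X.stage_b, hb, zero_add]

lemma page_iso (r : ℤ) (hr : r₀ ≤ r) (k : ℕ) (hk : (r - r₀).toNat = k) (pq : ℤ × ℤ) :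
    Nonempty (((X.ss hb).page r hr).X pq ≅ (X.stage k).E pq) := by
  subst hk
  exact ⟨Iso.refl _⟩

lemma page_isZero (r : ℤ) (hr : r₀ ≤ r) (pq : ℤ × ℤ) (h : IsZero (X.E pq)) :
    IsZero (((X.ss hb).page r hr).X pq) :=
  X.isZero_stage_E _ pq h

include hb in
lemma limit_iso (hr₀ : 1 ≤ r₀) (hE1 : ∀ i : ℤ × ℤ, i.1 < 0 → IsZero (X.E i))
    (hD : ∀ i : ℤ × ℤ, i.2 < 0 → IsZero (X.D i)) (p : ℕ) (q : ℤ) :
    Nonempty ((X.stage (p + (q.toNat + 1))).E ((p : ℤ), q) ≅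
      SpSeq.grPiece (X.fil ((p : ℤ) + q)) (X.fil_anti _) (p : ℤ)) := by
  obtain ⟨e₃⟩ := X.grPiece_iso ((p : ℤ) + q) p
  have hm : ∀ e : ℕ, e < q.toNat + 1 →
      Mono (X.α (((0 : ℤ), (p : ℤ) + q).1 - e, ((0 : ℤ), (p : ℤ) + q).2 + e)
        (((0 : ℤ), (p : ℤ) + q).1 - e - 1, ((0 : ℤ), (p : ℤ) + q).2 + e + 1)) := by
    intro e _
    have hex := X.ex_γα ((0 : ℤ) - e - r₀, (p : ℤ) + q + e - (1 - r₀)) ((0 : ℤ) - e, (p : ℤ) + q + e)
      ((0 : ℤ) - e - 1, (p : ℤ) + q + e + 1) (by ext <;> simp) (by ext <;> simp <;> omega)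
    exact hex.mono_g ((hE1 _ (by simp only; omega)).eq_of_src _ _)
  obtain ⟨e₂⟩ := X.coker_iter p (q.toNat + 1) ((0 : ℤ), (p : ℤ) + q) hm _ rfl
  obtain ⟨e₁⟩ := (X.stage (p + (q.toNat + 1))).E_iso_coker ((p : ℤ), q)
    (((0 : ℤ), (p : ℤ) + q).1 - ((q.toNat + 1 : ℕ) : ℤ), ((0 : ℤ), (p : ℤ) + q).2 + ((q.toNat + 1 : ℕ) : ℤ))
    (by rw [X.stage_b' hb]; ext <;> simp <;> omega)
    (X.isZero_stage_D _ _ _ rfl (hD _ (by simp; omega)))
  exact ⟨e₁ ≪≫ e₂.symm ≪≫ e₃.symm⟩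

end Couple

/-- the page from which position `pq` is stationary -/
noncomputable def rk (r₀ : ℤ) (pq : ℤ × ℤ) : ℤ :=
  if 0 ≤ pq.1 then r₀ + ((pq.1.toNat + (pq.2.toNat + 1) : ℕ) : ℤ) else r₀

namespace Couple

lemma stat (hr₀ : 1 ≤ r₀) (hE1 : ∀ i : ℤ × ℤ, i.1 < 0 → IsZero (X.E i))
    (hE2 : ∀ i : ℤ × ℤ, i.2 < 0 → IsZero (X.E i)) (pq : ℤ × ℤ) :
    SpSeq.StationaryAt (X.ss hb) pq (rk r₀ pq) := by
  refine ⟨by unfold rk; split_ifs <;> omega, fun r' h₀ hr' => ⟨?_, ?_⟩⟩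
  · by_cases hp : 0 ≤ pq.1
    · refine (X.page_isZero hb r' h₀ _ (hE1 _ ?_)).eq_of_src _ _
      unfold rk at hr'
      rw [if_pos hp] at hr'
      simp only [Prod.fst_sub]
      omega
    · exact (X.page_isZero hb r' h₀ _ (hE1 _ (not_le.1 hp))).eq_of_tgt _ _
  · by_cases hp : 0 ≤ pq.1
    · refine (X.page_isZero hb r' h₀ _ (hE2 _ ?_)).eq_of_tgt _ _
      unfold rk at hr'
      rw [if_pos hp] at hr'
      simp only [Prod.snd_add]
      omega
    · exact (X.page_isZero hb r' h₀ _ (hE1 _ (not_le.1 hp))).eq_of_src _ _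

lemma beta_iso (hr₀ : 1 ≤ r₀) (hE1 : ∀ i : ℤ × ℤ, i.1 < 0 → IsZero (X.E i))
    (hD : ∀ i : ℤ × ℤ, i.2 < 0 → IsZero (X.D i)) (pq : ℤ × ℤ) (hr : r₀ ≤ rk r₀ pq) :
    Nonempty (((X.ss hb).page (rk r₀ pq) hr).X pq ≅
      SpSeq.grPiece (X.fil (pq.1 + pq.2)) (X.fil_anti (pq.1 + pq.2)) pq.1) := by
  by_cases hp : 0 ≤ pq.1
  · obtain ⟨p1, q⟩ := pq
    obtain ⟨p, rfl⟩ := Int.eq_ofNat_of_zero_le hp
    obtain ⟨e₁⟩ := X.page_iso hb (rk r₀ ((p : ℤ), q)) hr (p + (q.toNat + 1)) (by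
      unfold rk
      rw [if_pos hp]
      dsimp only
      omega) ((p : ℤ), q)
    obtain ⟨e₂⟩ := X.limit_iso hb hr₀ hE1 hD p q
    exact ⟨e₁ ≪≫ e₂⟩
  · refine ⟨(X.page_isZero hb _ hr _ (hE1 _ (not_le.1 hp))).iso
      (grPiece_isZero_of_eq _ _ _ (X.fil_eq_of_toNat_eq _ _ _ ?_))⟩
    omega

/-- the abutment of the spectral sequence of a first-quadrant exact couple -/
noncomputable def abut (hr₀ : 1 ≤ r₀) (hE1 : ∀ i : ℤ × ℤ, i.1 < 0 → IsZero (X.E i))
    (hE2 : ∀ i : ℤ × ℤ, i.2 < 0 → IsZero (X.E i))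
    (hD : ∀ i : ℤ × ℤ, i.2 < 0 → IsZero (X.D i)) :
    SpSeq.Abutment (X.ss hb) (fun n => X.D (0, n)) where
  fil n := X.fil n
  anti n := X.fil_anti n
  rk := rk r₀
  stat := X.stat hb hr₀ hE1 hE2
  β pq := Classical.choice (X.beta_iso hb hr₀ hE1 hD pq _)

theorem exists_abutment (hr₀ : 1 ≤ r₀) (hE1 : ∀ i : ℤ × ℤ, i.1 < 0 → IsZero (X.E i))
    (hE2 : ∀ i : ℤ × ℤ, i.2 < 0 → IsZero (X.E i))
    (hD : ∀ i : ℤ × ℤ, i.2 < 0 → IsZero (X.D i)) :
    ∃ a : SpSeq.Abutment (X.ss hb) (fun n => X.D (0, n)),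
      (∀ n, a.IsFinite n) ∧ SpSeq.IsBounded (X.ss hb) ∧
        ∀ pq, Nonempty (((X.ss hb).page r₀ le_rfl).X pq ≅ X.E pq) := by
  refine ⟨X.abut hb hr₀ hE1 hE2 hD, fun n => ⟨⟨0, X.fil_top n 0 le_rfl⟩,
    ⟨max (n + 1) 0, X.fil_bot hD n _ (le_max_right _ _) ?_⟩⟩, ?_, ?_⟩
  · have := le_max_left (n + 1) 0
    omega
  · intro n
    refine (Set.finite_Icc 0 n).subset ?_
    intro p hp
    simp only [Set.mem_ofPred_eq] at hp
    rw [Set.mem_Icc]
    by_contra hcon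
    apply hp
    by_cases h0 : 0 ≤ p
    · exact X.page_isZero hb _ _ _ (hE2 _ (by simp only; omega))
    · exact X.page_isZero hb _ _ _ (hE1 _ (by simp only; omega))
  · intro pq
    exact X.page_iso hb r₀ le_rfl 0 (by simp) pq

end Couple

end Abut

/-! ### Transport of abutments along isomorphisms -/

section Transport

omit [Abelian C] in
lemma mk_congr {A X : C} {f f' : A ⟶ X} [Mono f] [Mono f'] (h : f = f') :
    Subobject.mk f = Subobject.mk f' := by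
  subst h; rfl

omit [Abelian C] in
lemma map_obj_eq_mk {X Y : C} (S : Subobject X) (f : X ⟶ Y) [Mono f] :
    (Subobject.map f).obj S = Subobject.mk (S.arrow ≫ f) := by
  conv_lhs => rw [← Subobject.mk_arrow S]
  exact Subobject.map_mk _ _

lemma grPiece_map_iso {X Y : C} (e : X ≅ Y) (F : ℤ → Subobject X) (hF : Antitone F)
    (hF' : Antitone (fun p => (Subobject.map e.hom).obj (F p))) (p : ℤ) :
    Nonempty (SpSeq.grPiece (fun p => (Subobject.map e.hom).obj (F p)) hF' p ≅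
      SpSeq.grPiece F hF p) := by
  unfold SpSeq.grPiece SpSeq.subquot
  refine subquot_iso_cokernel ((F p).arrow ≫ e.hom)
    ((F (p + 1)).ofLE (F p) (hF (Int.le_add_one le_rfl))) _ _ ?_ ?_ _
  · exact (map_obj_eq_mk _ _).trans (mk_congr (by rw [Subobject.ofLE_arrow_assoc]))
  · exact map_obj_eq_mk _ _

variable {r₀ : ℤ} {E : CohomologicalSpectralSequence C r₀} {H H' : ℤ → C}

/-- transport of an abutment along isomorphisms of the limit objects -/
noncomputable def abutmentTransport (a : SpSeq.Abutment E H) (e : ∀ n, H n ≅ H' n) :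
    SpSeq.Abutment E H' where
  fil n p := (Subobject.map (e n).hom).obj (a.fil n p)
  anti n := fun _ _ h => (Subobject.map (e n).hom).monotone (a.anti n h)
  rk := a.rk
  stat := a.stat
  β pq := a.β pq ≪≫ (Classical.choice (grPiece_map_iso (e (pq.1 + pq.2)) (a.fil (pq.1 + pq.2))
    (a.anti (pq.1 + pq.2))
    (fun _ _ h => (Subobject.map (e (pq.1 + pq.2)).hom).monotone (a.anti (pq.1 + pq.2) h))
    pq.1)).symm

lemma abutmentTransport_isFinite (a : SpSeq.Abutment E H) (e : ∀ n, H n ≅ H' n) (n : ℤ)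
    (h : a.IsFinite n) : (abutmentTransport a e).IsFinite n := by
  obtain ⟨⟨x, hx⟩, ⟨y, hy⟩⟩ := h
  refine ⟨⟨x, ?_⟩, ⟨y, ?_⟩⟩
  · show (Subobject.map (e n).hom).obj (a.fil n x) = ⊤
    have hx' : a.fil n x = ⊤ := hx
    rw [hx', Subobject.map_top]
    exact Subobject.mk_eq_top_of_isIso _
  · show (Subobject.map (e n).hom).obj (a.fil n y) = ⊥
    have hy' : a.fil n y = ⊥ := hy
    rw [hy', Subobject.map_bot]

end Transport

/-- **The spectral sequence of a first-quadrant exact couple, with its abutment.**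
`X` is a bigraded exact couple with `α` of bidegree `(-1, 1)`, `β` of bidegree `0` and `γ` of
bidegree `(r₀, 1 - r₀)`, `1 ≤ r₀`, such that `E^{p,q} = 0` if `p < 0` or `q < 0` and `D^{p,q} = 0`
if `q < 0`.  Then there is a spectral sequence starting at page `r₀` with `E_{r₀}^{p,q} ≅ E^{p,q}`,
abutting to `D^{0,n}` with a finite filtration. -/
theorem Couple.exists_ss {r₀ : ℤ} (X : Couple C (r₀, 1 - r₀)) (hb : X.b = 0) (hr₀ : 1 ≤ r₀)
    (hE1 : ∀ i : ℤ × ℤ, i.1 < 0 → IsZero (X.E i))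
    (hE2 : ∀ i : ℤ × ℤ, i.2 < 0 → IsZero (X.E i))
    (hD : ∀ i : ℤ × ℤ, i.2 < 0 → IsZero (X.D i))
    (H : ℤ → C) (eH : ∀ n, Nonempty (X.D (0, n) ≅ H n))
    (E₀ : ℤ × ℤ → C) (eE : ∀ pq, Nonempty (X.E pq ≅ E₀ pq)) :
    ∃ (E : CohomologicalSpectralSequence C r₀) (a : SpSeq.Abutment E H),
      (∀ n, a.IsFinite n) ∧ SpSeq.IsBounded E ∧
        ∀ pq, Nonempty ((E.page r₀ le_rfl).X pq ≅ E₀ pq) := by
  obtain ⟨a, ha, hbd, hpage⟩ := X.exists_abutment hb hr₀ hE1 hE2 hD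
  refine ⟨X.ss hb, abutmentTransport a (fun n => Classical.choice (eH n)),
    fun n => abutmentTransport_isFinite a _ n (ha n), hbd, fun pq => ?_⟩
  obtain ⟨e₁⟩ := hpage pq
  obtain ⟨e₂⟩ := eE pq
  exact ⟨e₁ ≪≫ e₂⟩

end Groth.Agent.Lib.Helper33.EC
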