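import Groth.Agent.Lib.Helper33.ExactCoupleAbut

/-!
# First-quadrant exact couples from half-plane data (helper33)

A `HalfCouple` is the data of an `E₂`-exact couple in the region `p ≥ 0`, indexed by `ℕ × ℤ`, in
successor style.  `HalfCouple.toCouple` extends it constantly to `p < 0` and gives a
`Couple C (2, 1 - 2)` to which `Couple.exists_ss` applies.
-/

set_option autoImplicit false

universe v u

open CategoryTheory CategoryTheory.Limits

namespace Groth.Agent.Lib.Helper33.EC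

variable {C : Type u} [Category.{v} C] [Abelian C]

/-- half-plane data for an `E₂` exact couple: `Dn k q = D^{k,q}`, `En k q = E^{k,q}` (`k ≥ 0`),
`αn : D^{k+1,q} ⟶ D^{k,q+1}`, `βn : D^{k,q} ⟶ E^{k,q}`, `γn : E^{k,q+1} ⟶ D^{k+2,q}`. -/
structure HalfCouple (C : Type u) [Category.{v} C] [Abelian C] where
  Dn : ℕ → ℤ → C
  En : ℕ → ℤ → C
  αn : ∀ (k : ℕ) (q : ℤ), Dn (k + 1) q ⟶ Dn k (q + 1)
  βn : ∀ (k : ℕ) (q : ℤ), Dn k q ⟶ En k q
  γn : ∀ (k : ℕ) (q : ℤ), En k (q + 1) ⟶ Dn (k + 2) q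
  αβ : ∀ k q, αn k q ≫ βn k (q + 1) = 0
  βγ : ∀ k q, βn k (q + 1) ≫ γn k q = 0
  γα : ∀ k q, γn k q ≫ αn (k + 1) q = 0
  ex_αβ : ∀ k q, (ShortComplex.mk _ _ (αβ k q)).Exact
  ex_βγ : ∀ k q, (ShortComplex.mk _ _ (βγ k q)).Exact
  ex_γα : ∀ k q, (ShortComplex.mk _ _ (γα k q)).Exact
  mono_α0 : ∀ q, Mono (αn 0 q)
  En_neg : ∀ k q, q < 0 → IsZero (En k q)
  Dn_neg : ∀ k q, q < 0 → IsZero (Dn k q)

namespace HalfCouple

variable (H : HalfCouple C)

/-! ### All-pairs versions of the maps -/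

/-- all-pairs version of `αn` -/
noncomputable def αA (k k' : ℕ) (q q' : ℤ) : H.Dn k q ⟶ H.Dn k' q' :=
  if h : k = k' + 1 ∧ q + 1 = q' then
    eqToHom (by rw [h.1]) ≫ H.αn k' q ≫ eqToHom (by rw [h.2]) else 0

/-- all-pairs version of the identity of `Dn` -/
noncomputable def idA (k k' : ℕ) (q q' : ℤ) : H.Dn k q ⟶ H.Dn k' q' :=
  if h : k = k' ∧ q = q' then eqToHom (by rw [h.1, h.2]) else 0

/-- all-pairs version of `βn` -/
noncomputable def βA (k k' : ℕ) (q q' : ℤ) : H.Dn k q ⟶ H.En k' q' :=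
  if h : k = k' ∧ q = q' then eqToHom (by rw [h.1, h.2]) ≫ H.βn k' q' else 0

/-- all-pairs version of `γn` -/
noncomputable def γA (k k' : ℕ) (q q' : ℤ) : H.En k q ⟶ H.Dn k' q' :=
  if h : k + 2 = k' ∧ q' + 1 = q then
    eqToHom (by rw [← h.2]) ≫ H.γn k q' ≫ eqToHom (by rw [h.1]) else 0

lemma αA_eq (k : ℕ) (q : ℤ) : H.αA (k + 1) k q (q + 1) = H.αn k q := by simp [αA]

lemma idA_eq (k : ℕ) (q : ℤ) : H.idA k k q q = 𝟙 _ := by simp [idA]

lemma βA_eq (k : ℕ) (q : ℤ) : H.βA k k q q = H.βn k q := by simp [βA]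

lemma γA_eq (k : ℕ) (q : ℤ) : H.γA k (k + 2) (q + 1) q = H.γn k q := by simp [γA]

lemma αAβA (k k' k'' : ℕ) (q q' q'' : ℤ) : H.αA k k' q q' ≫ H.βA k' k'' q' q'' = 0 := by
  unfold αA βA
  split_ifs with h1 h2
  · obtain ⟨rfl, rfl⟩ := h1
    obtain ⟨rfl, rfl⟩ := h2
    simp [H.αβ]
  all_goals simp

lemma βAγA (k k' k'' : ℕ) (q q' q'' : ℤ) : H.βA k k' q q' ≫ H.γA k' k'' q' q'' = 0 := by
  unfold βA γA
  split_ifs with h1 h2
  · obtain ⟨rfl, rfl⟩ := h2
    obtain ⟨rfl, rfl⟩ := h1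
    simp [H.βγ]
  all_goals simp

lemma γAαA (k k' k'' : ℕ) (q q' q'' : ℤ) : H.γA k k' q q' ≫ H.αA k' k'' q' q'' = 0 := by
  unfold γA αA
  split_ifs with h1 h2
  · obtain ⟨rfl, rfl⟩ := h1
    obtain ⟨h2, rfl⟩ := h2
    obtain rfl : k'' = k + 1 := by omega
    simp [H.γα]
  all_goals simp

lemma exA_αβ (k k' k'' : ℕ) (q q' q'' : ℤ) (h1 : k = k' + 1) (h2 : q + 1 = q') (h3 : k' = k'')
    (h4 : q' = q'') :
    (ShortComplex.mk _ _ (H.αAβA k k' k'' q q' q'')).Exact := by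
  subst h1 h2 h3 h4
  exact exact_congr (H.αA_eq _ _) (H.βA_eq _ _) _ _ (H.ex_αβ k' q)

lemma exA_βγ (k k' k'' : ℕ) (q q' q'' : ℤ) (h1 : k = k') (h2 : q = q') (h3 : k' + 2 = k'')
    (h4 : q'' + 1 = q') :
    (ShortComplex.mk _ _ (H.βAγA k k' k'' q q' q'')).Exact := by
  subst h1 h3 h4 h2
  exact exact_congr (H.βA_eq _ _) (H.γA_eq _ _) _ _ (H.ex_βγ k q'')

lemma exA_γα (k k' k'' : ℕ) (q q' q'' : ℤ) (h1 : k + 2 = k') (h2 : q' + 1 = q) (h3 : k' = k'' + 1)
    (h4 : q' + 1 = q'') :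
    (ShortComplex.mk _ _ (H.γAαA k k' k'' q q' q'')).Exact := by
  subst h1 h2 h4
  obtain rfl : k'' = k + 1 := by omega
  exact exact_congr (H.γA_eq _ _) (H.αA_eq _ _) _ _ (H.ex_γα k q')

lemma isIso_idA (k k' : ℕ) (q q' : ℤ) (h1 : k = k') (h2 : q = q') : IsIso (H.idA k k' q q') := by
  subst h1 h2
  rw [idA_eq]
  infer_instance

lemma mono_αA (k k' : ℕ) (q q' : ℤ) (h1 : k = 1) (h2 : k' = 0) (h3 : q + 1 = q') :
    Mono (H.αA k k' q q') := by
  subst h1 h2 h3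
  rw [H.αA_eq 0 q]
  exact H.mono_α0 q

/-! ### The couple -/

/-- the `ℕ`-index of `D` and `E` at a position -/
def kD (i : ℤ × ℤ) : ℕ := i.1.toNat

/-- the `ℤ`-index of `D` at a position -/
def qD (i : ℤ × ℤ) : ℤ := i.2 - (-i.1).toNat

/-- the `ℤ`-index of `E` at a position -/
def qE (i : ℤ × ℤ) : ℤ := if i.1 < 0 then -1 else i.2

/-- `α` of the couple -/
noncomputable def α (i j : ℤ × ℤ) : H.Dn (kD i) (qD i) ⟶ H.Dn (kD j) (qD j) :=
  if i + a = j then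
    (if 0 < i.1 then H.αA (kD i) (kD j) (qD i) (qD j) else H.idA (kD i) (kD j) (qD i) (qD j))
  else 0

/-- `β` of the couple -/
noncomputable def β (i j : ℤ × ℤ) : H.Dn (kD i) (qD i) ⟶ H.En (kD j) (qE j) :=
  if i = j ∧ 0 ≤ i.1 then H.βA (kD i) (kD j) (qD i) (qE j) else 0

/-- `γ` of the couple -/
noncomputable def γ (i j : ℤ × ℤ) : H.En (kD i) (qE i) ⟶ H.Dn (kD j) (qD j) :=
  if i + ((2 : ℤ), (1 : ℤ) - 2) = j ∧ 0 ≤ i.1 then H.γA (kD i) (kD j) (qE i) (qD j) else 0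

lemma rel_a {i j : ℤ × ℤ} (h : i + a = j) : j.1 = i.1 - 1 ∧ j.2 = i.2 + 1 := by
  subst h
  constructor <;> simp <;> omega

lemma rel_c {i j : ℤ × ℤ} (h : i + ((2 : ℤ), (1 : ℤ) - 2) = j) : j.1 = i.1 + 2 ∧ j.2 = i.2 - 1 := by
  subst h
  constructor <;> simp <;> omega

lemma α_comp_β (i j k : ℤ × ℤ) : H.α i j ≫ H.β j k = 0 := by
  unfold α β
  split_ifs with h1 h2 h3 h3
  · exact H.αAβA _ _ _ _ _ _
  · exact comp_zero
  · exfalso
    have := rel_a h1
    omega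
  · exact comp_zero
  · exact zero_comp
  · exact zero_comp

lemma β_comp_γ (i j k : ℤ × ℤ) : H.β i j ≫ H.γ j k = 0 := by
  unfold β γ
  split_ifs
  · exact H.βAγA _ _ _ _ _ _
  · exact comp_zero
  · exact zero_comp
  · exact zero_comp

lemma γ_comp_α (i j k : ℤ × ℤ) : H.γ i j ≫ H.α j k = 0 := by
  unfold γ α
  split_ifs with h1 h2 h3
  · exact H.γAαA _ _ _ _ _ _
  · exfalso
    have := rel_c h1.1
    omega
  · exact comp_zero
  · exact zero_comp
  · exact zero_comp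
  · exact zero_comp

/-- the couple attached to half-plane data -/
noncomputable def toCouple : Couple C ((2 : ℤ), (1 : ℤ) - 2) where
  b := 0
  D i := H.Dn (kD i) (qD i)
  E i := H.En (kD i) (qE i)
  α := H.α
  β := H.β
  γ := H.γ
  α_shape i j h := by unfold α; rw [if_neg h]
  β_shape i j h := by
    unfold β
    rw [if_neg]
    rintro ⟨rfl, -⟩
    exact h (add_zero _)
  γ_shape i j h := by
    unfold γ
    rw [if_neg]
    rintro ⟨h', -⟩
    exact h h'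
  αβ := H.α_comp_β
  βγ := H.β_comp_γ
  γα := H.γ_comp_α
  ex_αβ i j k hi hk := by
    obtain rfl : j = k := by rw [← hk, add_zero]
    have hr := rel_a hi
    by_cases hp : 0 < i.1
    · refine exact_congr (f' := H.αA (kD i) (kD j) (qD i) (qD j))
        (g' := H.βA (kD j) (kD j) (qD j) (qE j)) ?_ ?_ _ (H.αAβA _ _ _ _ _ _) ?_
      · unfold α; rw [if_pos hi, if_pos hp]
      · unfold β; rw [if_pos ⟨rfl, by omega⟩]
      · refine H.exA_αβ _ _ _ _ _ _ ?_ ?_ rfl ?_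
        · unfold kD; omega
        · unfold qD; omega
        · unfold qD qE; rw [if_neg (by omega)]; omega
    · have hβ : H.β j j = 0 := by
        unfold β
        rw [if_neg]
        rintro ⟨-, h⟩
        omega
      have hα : H.α i j = H.idA (kD i) (kD j) (qD i) (qD j) := by
        unfold α; rw [if_pos hi, if_neg hp]
      have : IsIso (H.α i j) := by
        rw [hα]
        exact H.isIso_idA _ _ _ _ (by unfold kD; omega) (by unfold qD; omega)
      rw [ShortComplex.exact_iff_epi _ hβ]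
      dsimp only
      infer_instance
  ex_βγ i j k hi hk := by
    obtain rfl : i = j := by rw [← hi, add_zero]
    have hr := rel_c hk
    by_cases hp : 0 ≤ i.1
    · refine exact_congr (f' := H.βA (kD i) (kD i) (qD i) (qE i))
        (g' := H.γA (kD i) (kD k) (qE i) (qD k)) ?_ ?_ _ (H.βAγA _ _ _ _ _ _) ?_
      · unfold β; rw [if_pos ⟨rfl, hp⟩]
      · unfold γ; rw [if_pos ⟨hk, hp⟩]
      · refine H.exA_βγ _ _ _ _ _ _ rfl ?_ ?_ ?_
        · unfold qD qE; rw [if_neg (by omega)]; omega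
        · unfold kD; omega
        · unfold qD qE; rw [if_neg (by omega)]; omega
    · refine ShortComplex.exact_of_isZero_X₂ _ (H.En_neg _ _ ?_)
      unfold qE
      rw [if_pos (by omega)]
      omega
  ex_γα i j k hi hk := by
    have hr := rel_c hi
    have hr' := rel_a hk
    by_cases hp : 0 ≤ i.1
    · refine exact_congr (f' := H.γA (kD i) (kD j) (qE i) (qD j))
        (g' := H.αA (kD j) (kD k) (qD j) (qD k)) ?_ ?_ _ (H.γAαA _ _ _ _ _ _) ?_
      · unfold γ; rw [if_pos ⟨hi, hp⟩]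
      · unfold α; rw [if_pos hk, if_pos (by omega)]
      · refine H.exA_γα _ _ _ _ _ _ ?_ ?_ ?_ ?_
        · unfold kD; omega
        · unfold qD qE; rw [if_neg (by omega)]; omega
        · unfold kD; omega
        · unfold qD; omega
    · have hγ : H.γ i j = 0 := by
        unfold γ
        rw [if_neg]
        rintro ⟨-, h⟩
        exact hp h
      rw [ShortComplex.exact_iff_mono _ hγ]
      dsimp only
      by_cases hj : 0 < j.1
      · have hα : H.α j k = H.αA (kD j) (kD k) (qD j) (qD k) := by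
          unfold α; rw [if_pos hk, if_pos hj]
        rw [hα]
        exact H.mono_αA _ _ _ _ (by unfold kD; omega) (by unfold kD; omega) (by unfold qD; omega)
      · have hα : H.α j k = H.idA (kD j) (kD k) (qD j) (qD k) := by
          unfold α; rw [if_pos hk, if_neg hj]
        have : IsIso (H.α j k) := by
          rw [hα]
          exact H.isIso_idA _ _ _ _ (by unfold kD; omega) (by unfold qD; omega)
        infer_instance

lemma toCouple_b : H.toCouple.b = 0 := rfl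

lemma toCouple_E_isZero_fst (i : ℤ × ℤ) (h : i.1 < 0) : IsZero (H.toCouple.E i) := by
  refine H.En_neg _ _ ?_
  unfold qE
  rw [if_pos h]
  omega

lemma toCouple_E_isZero_snd (i : ℤ × ℤ) (h : i.2 < 0) : IsZero (H.toCouple.E i) := by
  refine H.En_neg _ _ ?_
  unfold qE
  split_ifs <;> omega

lemma toCouple_D_isZero (i : ℤ × ℤ) (h : i.2 < 0) : IsZero (H.toCouple.D i) := by
  refine H.Dn_neg _ _ ?_
  unfold qD
  omega

lemma toCouple_D_iso (n : ℤ) : Nonempty (H.toCouple.D (0, n) ≅ H.Dn 0 n) := by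
  show Nonempty (H.Dn (kD (0, n)) (qD (0, n)) ≅ H.Dn 0 n)
  have h1 : kD ((0 : ℤ), n) = 0 := rfl
  have h2 : qD ((0 : ℤ), n) = n := by unfold qD; simp
  rw [h1, h2]
  exact ⟨Iso.refl _⟩

lemma toCouple_E_iso (p : ℕ) (q : ℤ) : Nonempty (H.toCouple.E ((p : ℤ), q) ≅ H.En p q) := by
  show Nonempty (H.En (kD ((p : ℤ), q)) (qE ((p : ℤ), q)) ≅ H.En p q)
  have h1 : kD ((p : ℤ), q) = p := by unfold kD; simp
  have h2 : qE ((p : ℤ), q) = q := by unfold qE; rw [if_neg (by simp)]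
  rw [h1, h2]
  exact ⟨Iso.refl _⟩

/-- **The spectral sequence of half-plane `E₂` data.** -/
theorem exists_ss (H' : ℤ → C) (eH : ∀ n, Nonempty (H.Dn 0 n ≅ H' n))
    (E₀ : ℤ × ℤ → C) (eE : ∀ (p : ℕ) (q : ℤ), Nonempty (H.En p q ≅ E₀ ((p : ℤ), q)))
    (hE₀ : ∀ pq : ℤ × ℤ, pq.1 < 0 → IsZero (E₀ pq)) :
    ∃ (E : E₂CohomologicalSpectralSequence C) (a : SpSeq.Abutment E H'),
      (∀ n, a.IsFinite n) ∧ SpSeq.IsBounded E ∧
        ∀ pq, Nonempty ((E.page 2 le_rfl).X pq ≅ E₀ pq) := by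
  refine H.toCouple.exists_ss H.toCouple_b (by norm_num) H.toCouple_E_isZero_fst
    H.toCouple_E_isZero_snd H.toCouple_D_isZero H' (fun n => ?_) E₀ (fun pq => ?_)
  · obtain ⟨e₁⟩ := H.toCouple_D_iso n
    obtain ⟨e₂⟩ := eH n
    exact ⟨e₁ ≪≫ e₂⟩
  · by_cases hp : 0 ≤ pq.1
    · obtain ⟨p1, q⟩ := pq
      obtain ⟨p, rfl⟩ := Int.eq_ofNat_of_zero_le hp
      obtain ⟨e₁⟩ := H.toCouple_E_iso p q
      obtain ⟨e₂⟩ := eE p q
      exact ⟨e₁ ≪≫ e₂⟩
    · exact ⟨(H.toCouple_E_isZero_fst pq (not_le.1 hp)).iso (hE₀ pq (not_le.1 hp))⟩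

end HalfCouple

end Groth.Agent.Lib.Helper33.EC
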