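import Groth.Prelude.Def_LocCohZ
import Groth.Agent.Lib.Helper33.GrothSSAb
import Groth.Agent.S19245
import Groth.Agent.S0452
import Groth.Agent.S0454

/-!
# Spectral sequences for cohomology with supports on topological spaces (helper33)
-/

set_option autoImplicit false

universe v u

open CategoryTheory CategoryTheory.Limits TopologicalSpace Opposite

namespace Groth.Agent.Lib.Helper33.LocCohSS

section General

variable {C : Type u} [Category.{v} C] [Preadditive C]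

/-- a functor to abelian groups with natural additive bijections `F Y ≃ Hom(W, Y)` is isomorphic
to `Hom(W, -)` -/
noncomputable def natIsoCoyonedaOfAddEquiv (F : C ⥤ AddCommGrpCat.{v}) (W : C)
    (e : ∀ Y, (F.obj Y) ≃+ (W ⟶ Y))
    (nat : ∀ {Y Y' : C} (f : Y ⟶ Y') (x : F.obj Y), e Y' (F.map f x) = e Y x ≫ f) :
    F ≅ preadditiveCoyoneda.obj (op W) :=
  NatIso.ofComponents (fun Y => (e Y).toAddCommGrpIso) (by
    intro Y Y' f
    ext x
    exact nat f x)

end General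

open LocCohZ Groth.Agent.Lib.Helper96 Groth.Agent.S19245

variable {X : TopCat.{u}}

local notation "J" => Opens.grothendieckTopology X

/-- evaluation at the generator is natural in the sheaf -/
lemma evalGen_comp (V : Opens X) {F G : CohTop.Ab X} (χ : CohCx.freeSheaf (Opens.grothendieckTopology X) V ⟶ F)
    (ψ : F ⟶ G) :
    CohFree.evalGen (Opens.grothendieckTopology X) V G (χ ≫ ψ) =
      (TowerLim.Γ V).map ψ (CohFree.evalGen (Opens.grothendieckTopology X) V F χ) := rfl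

lemma eq_zero_of_evalGen_eq_zero (V : Opens X) {F : CohTop.Ab X}
    (χ : CohCx.freeSheaf (Opens.grothendieckTopology X) V ⟶ F)
    (h : CohFree.evalGen (Opens.grothendieckTopology X) V F χ = 0) : χ = 0 := by
  apply (CohFree.homEquivSect (Opens.grothendieckTopology X) V F).injective
  rw [CohFree.homEquivSect_apply, h, map_zero]

/-- a morphism `ℤ_X ⟶ F` is killed by the unit `F ⟶ j_* j⁻¹ F` iff it vanishes on `ℤ_U` -/
lemma comp_eta_eq_zero_iff (U : Opens X) (F : CohTop.Ab X)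
    (χ : CohCx.freeSheaf (Opens.grothendieckTopology X) (⊤ : Opens X) ⟶ F) :
    χ ≫ eta F U = 0 ↔
      CohCx.freeSheafMap (Opens.grothendieckTopology X) (homOfLE (le_top : U ≤ ⊤)) ≫ χ = 0 := by
  set s := CohFree.evalGen (Opens.grothendieckTopology X) ⊤ F χ with hs
  have h1 : CohFree.evalGen (Opens.grothendieckTopology X) ⊤ _ (χ ≫ eta F U) =
      (TowerLim.Γ ⊤).map (eta F U) s := evalGen_comp ⊤ χ (eta F U)
  have h2 : CohFree.evalGen (Opens.grothendieckTopology X) U F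
      (CohCx.freeSheafMap (Opens.grothendieckTopology X) (homOfLE (le_top : U ≤ ⊤)) ≫ χ) =
      TowerLim.res F (le_top : U ≤ ⊤) s :=
    CohFree.evalGen_freeSheafMap_comp _ _ _ _
  constructor
  · intro h
    apply eq_zero_of_evalGen_eq_zero
    rw [h2]
    apply eq_zero_of_eta_eq_zero F U (le_refl U)
    rw [← TowerLim.res_naturality, ← h1, h, map_zero, map_zero]
  · intro h
    apply eq_zero_of_evalGen_eq_zero
    rw [h1]
    apply res_push_injective U _ ⊤
    rw [TowerLim.res_naturality, map_zero]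
    have h3 : TowerLim.res F (inf_le_left : (⊤ : Opens X) ⊓ U ≤ ⊤) s =
        TowerLim.res F (inf_le_right : (⊤ : Opens X) ⊓ U ≤ U) (TowerLim.res F (le_top : U ≤ ⊤) s) := by
      rw [res_res]
    rw [h3, ← h2, h, map_zero, map_zero, map_zero]

/-- the inclusion `Γ_Z F ⟶ F` -/
noncomputable def ιZ (U : Opens X) (F : CohTop.Ab X) : (sectSuppF U).obj F ⟶ F :=
  kernel.ι (eta F U)

instance (U : Opens X) (F : CohTop.Ab X) : Mono (ιZ U F) :=
  inferInstanceAs (Mono (kernel.ι (eta F U)))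

lemma ιZ_eta (U : Opens X) (F : CohTop.Ab X) : ιZ U F ≫ eta F U = 0 := kernel.condition _

/-- lifting to `Γ_Z F` -/
noncomputable def liftZ (U : Opens X) (F : CohTop.Ab X) {W : CohTop.Ab X} (χ : W ⟶ F)
    (h : χ ≫ eta F U = 0) : W ⟶ (sectSuppF U).obj F :=
  kernel.lift (eta F U) χ h

lemma liftZ_ι (U : Opens X) (F : CohTop.Ab X) {W : CohTop.Ab X} (χ : W ⟶ F)
    (h : χ ≫ eta F U = 0) : liftZ U F χ h ≫ ιZ U F = χ :=
  kernel.lift_ι _ _ _

lemma sectSuppF_map_ι (U : Opens X) {F G : CohTop.Ab X} (f : F ⟶ G) :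
    (sectSuppF U).map f ≫ ιZ U G = ιZ U F ≫ f :=
  kernel.lift_ι _ _ _

/-- `Hom(ℤ_X, Γ_Z F) ≃ Hom(ℤ_X/ℤ_U, F)` -/
noncomputable def homSectSuppEquiv (U : Opens X) (F : CohTop.Ab X) :
    (CohCx.freeSheaf (Opens.grothendieckTopology X) (⊤ : Opens X) ⟶ (sectSuppF U).obj F) ≃+
      (zq (le_top : U ≤ ⊤) ⟶ F) where
  toFun φ := cokernel.desc _ (φ ≫ ιZ U F)
    ((comp_eta_eq_zero_iff U F _).1 (by rw [Category.assoc, ιZ_eta, comp_zero]))
  invFun ψ := liftZ U F (cokernel.π _ ≫ ψ)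
    ((comp_eta_eq_zero_iff U F _).2 (by rw [cokernel.condition_assoc, zero_comp]))
  left_inv φ := by
    apply (cancel_mono (ιZ U F)).1
    rw [liftZ_ι, cokernel.π_desc]
  right_inv ψ := by
    apply (cancel_epi (cokernel.π _)).1
    rw [cokernel.π_desc, liftZ_ι]
  map_add' φ φ' := by
    apply (cancel_epi (cokernel.π _)).1
    rw [cokernel.π_desc, Preadditive.comp_add, cokernel.π_desc, cokernel.π_desc,
      Preadditive.add_comp]

lemma π_homSectSuppEquiv (U : Opens X) (F : CohTop.Ab X)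
    (φ : CohCx.freeSheaf (Opens.grothendieckTopology X) (⊤ : Opens X) ⟶ (sectSuppF U).obj F) :
    cokernel.π _ ≫ homSectSuppEquiv U F φ = φ ≫ ιZ U F :=
  cokernel.π_desc _ _ _

lemma homSectSuppEquiv_naturality (U : Opens X) {F G : CohTop.Ab X} (f : F ⟶ G)
    (φ : CohCx.freeSheaf (Opens.grothendieckTopology X) (⊤ : Opens X) ⟶ (sectSuppF U).obj F) :
    homSectSuppEquiv U G (φ ≫ (sectSuppF U).map f) = homSectSuppEquiv U F φ ≫ f := by
  apply (cancel_epi (cokernel.π _)).1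
  rw [π_homSectSuppEquiv, ← Category.assoc, π_homSectSuppEquiv, Category.assoc, sectSuppF_map_ι,
    Category.assoc]

/-- `Hom(ℤ_X, Γ_Z -) ≅ Hom(ℤ_X/ℤ_U, -)` -/
noncomputable def sectSuppCoyonedaIso (U : Opens X) :
    sectSuppF U ⋙ preadditiveCoyoneda.obj
        (op (CohCx.freeSheaf (Opens.grothendieckTopology X) (⊤ : Opens X))) ≅
      preadditiveCoyoneda.obj (op (zq (le_top : U ≤ ⊤))) :=
  natIsoCoyonedaOfAddEquiv _ _ (fun F => homSectSuppEquiv U F)
    (fun f φ => homSectSuppEquiv_naturality U f φ)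

/-- `Γ_Z` of an injective sheaf is acyclic for global sections -/
lemma subsingleton_HU_sectSuppF_of_injective (U : Opens X) (Q : CohTop.Ab X) [Injective Q] (n : ℕ)
    (V : Opens X) : Subsingleton (CohTop.HU ((sectSuppF U).obj Q) (n + 1) V) := by
  have h1 : TopCat.Sheaf.IsFlasque Q := Groth.Agent.S0454.result Q
  have h2 : TopCat.Sheaf.IsFlasque ((sectSuppF U).obj Q) := Groth.Agent.S19245.result Q U
  exact Groth.Agent.S0452.result _ V n

/-- **The spectral sequence `H^p(X, ℋ^q_Z(F)) ⇒ H^{p+q}_Z(X, F)`.** -/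
theorem exists_ss_HU_HZsh (F : CohTop.Ab X) (U : Opens X) :
    ∃ (E : E₂CohomologicalSpectralSequence AddCommGrpCat.{u})
      (a : SpSeq.Abutment E (fun n : ℤ =>
        if 0 ≤ n then AddCommGrpCat.of (LocCohZ.HZc F n.toNat U)
          else AddCommGrpCat.of PUnit.{u + 1})),
      (∀ n : ℤ, a.IsFinite n) ∧ SpSeq.IsBounded E ∧
      ∀ p q : ℤ, Nonempty ((E.page 2 le_rfl).X (p, q) ≅
        (if 0 ≤ p ∧ 0 ≤ q then
          AddCommGrpCat.of (CohTop.HU ((LocCohZ.HZsh U q.toNat).obj F) p.toNat ⊤)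
          else AddCommGrpCat.of PUnit.{u + 1})) := by
  refine GrothSS.grothendieck_ss_ext (sectSuppF U)
    (CohCx.freeSheaf (Opens.grothendieckTopology X) (⊤ : Opens X)) (zq (le_top : U ≤ ⊤))
    (sectSuppCoyonedaIso U) ?_ F
  intro Q hQ q hq
  obtain ⟨n, rfl⟩ : ∃ n, q = n + 1 := ⟨q - 1, by omega⟩
  exact subsingleton_HU_sectSuppF_of_injective U Q n ⊤

/-! ### Vanishing of cohomology with supports for flasque sheaves -/

lemma evalGen_injective (V : Opens X) (F : CohTop.Ab X) :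
    Function.Injective (CohFree.evalGen (Opens.grothendieckTopology X) V F) :=
  (CohFree.homEquivSect (Opens.grothendieckTopology X) V F).injective

/-- morphisms `ℤ_W ⟶ G` extend to `ℤ_V` when `G` is flasque -/
lemma exists_extension_of_isFlasque (G : CohTop.Ab X) [TopCat.Sheaf.IsFlasque G]
    {W V : Opens X} (h : W ≤ V) (χ₁ : CohCx.freeSheaf (Opens.grothendieckTopology X) W ⟶ G) :
    ∃ χ₂ : CohCx.freeSheaf (Opens.grothendieckTopology X) V ⟶ G,
      CohCx.freeSheafMap (Opens.grothendieckTopology X) (homOfLE h) ≫ χ₂ = χ₁ := by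
  have hsurj : Function.Surjective (TowerLim.res G h) :=
    (AddCommGrpCat.epi_iff_surjective _).mp
      (TopCat.Presheaf.IsFlasque.epi (F := G.obj) (homOfLE h).op)
  obtain ⟨s₂, hs₂⟩ := hsurj (CohFree.evalGen (Opens.grothendieckTopology X) W G χ₁)
  refine ⟨CohFree.ofSect (Opens.grothendieckTopology X) V G s₂, ?_⟩
  apply evalGen_injective
  refine (CohFree.evalGen_freeSheafMap_comp _ (homOfLE h) G _).trans ?_
  rw [CohFree.evalGen_ofSect]
  exact hs₂

open Abelian in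
/-- `H^i_{V∖W}(V, G) = 0` for `i > 0` and `G` flasque -/
theorem subsingleton_HZ_of_isFlasque (G : CohTop.Ab X) [TopCat.Sheaf.IsFlasque G]
    {W V : Opens X} (h : W ≤ V) (i : ℕ) (hi : 0 < i) : Subsingleton (LocCohZ.HZ G i h) := by
  obtain ⟨n, rfl⟩ : ∃ n, i = n + 1 := ⟨i - 1, by omega⟩
  have hS := zqSeq_shortExact h
  refine ⟨fun a b => ?_⟩
  suffices H : ∀ x : Ext.{u} (zq h) G (n + 1), x = 0 by rw [H a, H b]
  intro x₃
  have hV : Subsingleton (CohTop.HU G (n + 1) V) := Groth.Agent.S0452.result G V n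
  have h0 : (Ext.mk₀ (zqSeq h).g).comp x₃ (zero_add (n + 1)) = 0 := hV.elim _ _
  obtain ⟨x₁, rfl⟩ := Ext.contravariant_sequence_exact₃ hS G x₃ h0 (add_comm 1 n)
  cases n with
  | succ k =>
    have hW : Subsingleton (CohTop.HU G (k + 1) W) := Groth.Agent.S0452.result G W k
    have hx : x₁ = (0 : Ext.{u} (zqSeq h).X₁ G (k + 1)) := hW.elim _ _
    rw [hx]
    exact Ext.comp_zero ..
  | zero =>
    obtain ⟨χ₁, rfl⟩ := (Ext.mk₀_bijective _ _).2 x₁
    obtain ⟨χ₂, hχ⟩ := exists_extension_of_isFlasque G h χ₁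
    let χ₂' : (zqSeq h).X₂ ⟶ G := χ₂
    have hχ' : χ₁ = (zqSeq h).f ≫ χ₂' := hχ.symm
    rw [hχ', ← Ext.mk₀_comp_mk₀, ← Ext.comp_assoc_of_third_deg_zero, hS.extClass_comp]
    exact Ext.zero_comp ..

/-! ### `Hom(ℤ_V/ℤ_W, -)` as sections with supports -/

/-- `Hom(ℤ_V/ℤ_W, F) ≃ Γ_{V∖W}(V, F)` -/
noncomputable def homZqEquiv (F : CohTop.Ab X) {W V : Opens X} (h : W ≤ V) :
    (zq h ⟶ F) ≃+ sectZ F h :=
  (Abelian.Ext.addEquiv₀ (X := zq h) (Y := F)).symm.trans (sect0Equiv F h)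

lemma homZqEquiv_apply_coe (F : CohTop.Ab X) {W V : Opens X} (h : W ≤ V) (ψ : zq h ⟶ F) :
    ((homZqEquiv F h ψ : sectZ F h) : F.obj.obj (op V)) =
      CohFree.evalGen (Opens.grothendieckTopology X) V F (cokernel.π _ ≫ ψ) := by
  change CohFree.evalGen (Opens.grothendieckTopology X) V F
    (cokernel.π _ ≫ Abelian.Ext.addEquiv₀ (Abelian.Ext.addEquiv₀.symm ψ)) = _
  rw [AddEquiv.apply_symm_apply]

variable {Y : TopCat.{u}}

/-- `Hom(ℤ_Y/ℤ_V, f_* F) ≃ Hom(ℤ_X/ℤ_{f⁻¹V}, F)` -/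
noncomputable def homZqPushEquiv (f : X ⟶ Y) (V : Opens Y) (F : CohTop.Ab X) :
    (zq (le_top : V ≤ ⊤) ⟶ (CohTop.push f).obj F) ≃+
      (zq (le_top : (Opens.map f).obj V ≤ ⊤) ⟶ F) :=
  (homZqEquiv ((CohTop.push f).obj F) (le_top : V ≤ ⊤)).trans
    (homZqEquiv F (le_top : (Opens.map f).obj V ≤ ⊤)).symm

lemma homZqPushEquiv_coe (f : X ⟶ Y) (V : Opens Y) (F : CohTop.Ab X)
    (ψ : zq (le_top : V ≤ ⊤) ⟶ (CohTop.push f).obj F) :
    (homZqEquiv F (le_top : (Opens.map f).obj V ≤ ⊤) (homZqPushEquiv f V F ψ)).1 =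
      (homZqEquiv ((CohTop.push f).obj F) (le_top : V ≤ ⊤) ψ).1 :=
  congrArg Subtype.val ((homZqEquiv F (le_top : (Opens.map f).obj V ≤ ⊤)).apply_symm_apply
    (homZqEquiv ((CohTop.push f).obj F) (le_top : V ≤ ⊤) ψ))

lemma homZqEquiv_comp_coe {F G : CohTop.Ab X} {W V : Opens X} (h : W ≤ V) (ψ : zq h ⟶ F)
    (g : F ⟶ G) :
    ((homZqEquiv G h (ψ ≫ g) : sectZ G h) : G.obj.obj (op V)) =
      (TowerLim.Γ V).map g ((homZqEquiv F h ψ : sectZ F h) : F.obj.obj (op V)) := by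
  rw [homZqEquiv_apply_coe, homZqEquiv_apply_coe, ← Category.assoc]
  exact evalGen_comp _ _ _

lemma homZqPushEquiv_naturality (f : X ⟶ Y) (V : Opens Y) {F G : CohTop.Ab X} (g : F ⟶ G)
    (ψ : zq (le_top : V ≤ ⊤) ⟶ (CohTop.push f).obj F) :
    homZqPushEquiv f V G (ψ ≫ (CohTop.push f).map g) = homZqPushEquiv f V F ψ ≫ g := by
  apply (homZqEquiv G (le_top : (Opens.map f).obj V ≤ ⊤)).injective
  apply Subtype.ext
  refine (homZqPushEquiv_coe f V G _).trans ?_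
  refine (homZqEquiv_comp_coe (le_top : V ≤ ⊤) ψ ((CohTop.push f).map g)).trans ?_
  refine Eq.trans ?_ (homZqEquiv_comp_coe (le_top : (Opens.map f).obj V ≤ ⊤) _ g).symm
  exact congrArg (fun x => (TowerLim.Γ (⊤ : Opens X)).map g x) (homZqPushEquiv_coe f V F ψ).symm

/-- `Hom(ℤ_Y/ℤ_V, f_* -) ≅ Hom(ℤ_X/ℤ_{f⁻¹V}, -)` -/
noncomputable def pushCoyonedaIso (f : X ⟶ Y) (V : Opens Y) :
    CohTop.push f ⋙ preadditiveCoyoneda.obj (op (zq (le_top : V ≤ ⊤))) ≅
      preadditiveCoyoneda.obj (op (zq (le_top : (Opens.map f).obj V ≤ ⊤))) :=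
  natIsoCoyonedaOfAddEquiv _ _ (fun F => homZqPushEquiv f V F)
    (fun g ψ => homZqPushEquiv_naturality f V g ψ)

/-- **The spectral sequence `H^p_{Y'}(Y, R^q f_* F) ⇒ H^{p+q}_{f⁻¹Y'}(X, F)`.** -/
theorem exists_ss_HZc_Rpush (f : X ⟶ Y) (V : Opens Y) (F : CohTop.Ab X) :
    ∃ (E : E₂CohomologicalSpectralSequence AddCommGrpCat.{u})
      (a : SpSeq.Abutment E (fun n : ℤ =>
        if 0 ≤ n then AddCommGrpCat.of (LocCohZ.HZc F n.toNat ((Opens.map f).obj V))
          else AddCommGrpCat.of PUnit.{u + 1})),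
      (∀ n : ℤ, a.IsFinite n) ∧ SpSeq.IsBounded E ∧
      ∀ p q : ℤ, Nonempty ((E.page 2 le_rfl).X (p, q) ≅
        (if 0 ≤ p ∧ 0 ≤ q then
          AddCommGrpCat.of (LocCohZ.HZc ((CohTop.Rpush f q.toNat).obj F) p.toNat V)
          else AddCommGrpCat.of PUnit.{u + 1})) := by
  refine GrothSS.grothendieck_ss_ext (CohTop.push f) (zq (le_top : V ≤ ⊤))
    (zq (le_top : (Opens.map f).obj V ≤ ⊤)) (pushCoyonedaIso f V) ?_ F
  intro Q hQ q hq
  have h1 : TopCat.Sheaf.IsFlasque Q := Groth.Agent.S0454.result Q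
  have h2 : TopCat.Sheaf.IsFlasque ((CohTop.push f).obj Q) :=
    TopCat.Sheaf.IsFlasque.pushforward_isFlasque Q f
  exact subsingleton_HZ_of_isFlasque _ _ q hq

end Groth.Agent.Lib.Helper33.LocCohSS
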