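import Groth.Agent.Lib.Helper33.DeltaPrecomp
import Groth.Agent.Lib.Helper33.LocCohSS
import Groth.Agent.S0854

/-!
# Excision for cohomology with supports, naturally in the sheaf (helper33)

`Ext^i_X(ℤ_V/ℤ_W, F) ≅ Ext^i_V(ℤ_V/ℤ_{W ∩ V}, F|_V)` as functors of `F`.
-/

set_option autoImplicit false

universe u

open CategoryTheory CategoryTheory.Limits TopologicalSpace Opposite Abelian

namespace Groth.Agent.Lib.Helper33.LocCohSS

open LocCohZ Groth.Agent.Lib.Helper96 Groth.Agent.S19245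

variable {X : TopCat.{u}}

/-- transport of sections with supports along equalities of opens -/
noncomputable def sectZCongr (F : CohTop.Ab X) {A B A' B' : Opens X} (h : A ≤ B) (h' : A' ≤ B')
    (hA : A = A') (hB : B = B') : sectZ F h ≃+ sectZ F h' where
  toFun s := ⟨TowerLim.res F (hB ▸ le_rfl : B' ≤ B) s.1, by
    subst hA hB
    rw [AddMonoidHom.mem_ker]
    have := s.2
    rw [AddMonoidHom.mem_ker] at this
    rw [res_self]
    exact this⟩
  invFun t := ⟨TowerLim.res F (hB ▸ le_rfl : B ≤ B') t.1, by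
    subst hA hB
    rw [AddMonoidHom.mem_ker]
    have := t.2
    rw [AddMonoidHom.mem_ker] at this
    rw [res_self]
    exact this⟩
  left_inv s := by
    apply Subtype.ext
    change TowerLim.res F _ (TowerLim.res F _ s.1) = s.1
    rw [res_res, res_self]
  right_inv t := by
    apply Subtype.ext
    change TowerLim.res F _ (TowerLim.res F _ t.1) = t.1
    rw [res_res, res_self]
  map_add' s t := by
    apply Subtype.ext
    change TowerLim.res F _ (s.1 + t.1) = TowerLim.res F _ s.1 + TowerLim.res F _ t.1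
    rw [map_add]

lemma sectZCongr_coe (F : CohTop.Ab X) {A B A' B' : Opens X} (h : A ≤ B) (h' : A' ≤ B')
    (hA : A = A') (hB : B = B') (s : sectZ F h) :
    ((sectZCongr F h h' hA hB s : sectZ F h') : F.obj.obj (op B')) =
      TowerLim.res F (hB ▸ le_rfl : B' ≤ B) s.1 := rfl

variable {W V : Opens X} (h : W ≤ V)

include h in
lemma jU_map_eq : (Groth.Agent.Lib.Helper5.jU V).obj ((Opens.map (CohCx.incl V)).obj W) = W := by
  ext x
  constructor
  · rintro ⟨y, hy, rfl⟩
    exact hy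
  · intro hx
    exact ⟨⟨x, h hx⟩, hx, rfl⟩

lemma jU_top_eq : (Groth.Agent.Lib.Helper5.jU V).obj ⊤ = V := by
  ext x
  constructor
  · rintro ⟨y, -, rfl⟩
    exact y.2
  · intro hx
    exact ⟨⟨x, hx⟩, trivial, rfl⟩

/-- `Hom_X(ℤ_V/ℤ_W, F) ≃ Hom_V(ℤ_V/ℤ_{W ∩ V}, F|_V)` -/
noncomputable def homZqRestrEquiv (F : CohTop.Ab X) :
    (zq h ⟶ F) ≃+
      (zq (le_top : (Opens.map (CohCx.incl V)).obj W ≤ ⊤) ⟶ (CohTop.restrFunctor V).obj F) :=
  (homZqEquiv F h).trans
    ((sectZCongr F h
      ((Groth.Agent.Lib.Helper5.jU V).monotone (le_top : (Opens.map (CohCx.incl V)).obj W ≤ ⊤))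
      (jU_map_eq h).symm (jU_top_eq (V := V)).symm).trans
      (homZqEquiv ((CohTop.restrFunctor V).obj F)
        (le_top : (Opens.map (CohCx.incl V)).obj W ≤ ⊤)).symm)

lemma homZqRestrEquiv_coe (F : CohTop.Ab X) (ψ : zq h ⟶ F) :
    (homZqEquiv ((CohTop.restrFunctor V).obj F)
        (le_top : (Opens.map (CohCx.incl V)).obj W ≤ ⊤) (homZqRestrEquiv h F ψ)).1 =
      TowerLim.res F ((jU_top_eq (V := V)).symm ▸ le_rfl :
        (Groth.Agent.Lib.Helper5.jU V).obj ⊤ ≤ V) (homZqEquiv F h ψ).1 :=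
  congrArg Subtype.val ((homZqEquiv ((CohTop.restrFunctor V).obj F)
    (le_top : (Opens.map (CohCx.incl V)).obj W ≤ ⊤)).apply_symm_apply _)

lemma homZqRestrEquiv_naturality {F G : CohTop.Ab X} (g : F ⟶ G) (ψ : zq h ⟶ F) :
    homZqRestrEquiv h G (ψ ≫ g) = homZqRestrEquiv h F ψ ≫ (CohTop.restrFunctor V).map g := by
  apply (homZqEquiv ((CohTop.restrFunctor V).obj G)
    (le_top : (Opens.map (CohCx.incl V)).obj W ≤ ⊤)).injective
  apply Subtype.ext
  refine (homZqRestrEquiv_coe h G _).trans ?_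
  refine Eq.trans ?_ (homZqEquiv_comp_coe (le_top : (Opens.map (CohCx.incl V)).obj W ≤ ⊤) _
    ((CohTop.restrFunctor V).map g)).symm
  rw [homZqEquiv_comp_coe h ψ g, TowerLim.res_naturality]
  exact congrArg (fun x => (TowerLim.Γ ((Groth.Agent.Lib.Helper5.jU V).obj ⊤)).map g x)
    (homZqRestrEquiv_coe h F ψ).symm

/-- `Hom_X(ℤ_V/ℤ_W, -) ≅ Hom_V(ℤ_V/ℤ_{W ∩ V}, (-)|_V)` -/
noncomputable def restrCoyonedaIso :
    preadditiveCoyoneda.obj (op (zq h)) ≅
      CohTop.restrFunctor V ⋙ preadditiveCoyoneda.obj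
        (op (zq (le_top : (Opens.map (CohCx.incl V)).obj W ≤ ⊤))) :=
  NatIso.ofComponents (fun F => (homZqRestrEquiv h F).toAddCommGrpIso) (by
    intro F G g
    ext ψ
    exact homZqRestrEquiv_naturality h g ψ)

open Groth.Agent.Lib.Helper33.ExtDelta DeltaF in
/-- **Excision, as an isomorphism of functors.** -/
theorem nonempty_extFunctor_restr_iso (i : ℕ) :
    Nonempty ((extFunctor.{u} i).obj (op (zq h)) ≅
      CohTop.restrFunctor V ⋙ (extFunctor.{u} i).obj
        (op (zq (le_top : (Opens.map (CohCx.incl V)).obj W ≤ ⊤)))) := by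
  have : EnoughInjectives (CohTop.Ab X) := ExtRD.enoughInjectives
  have : EnoughInjectives (CohTop.Ab (TopCat.of V)) := ExtRD.enoughInjectives
  have hT' : (precompDelta (CohTop.restrFunctor V)
      (extDelta.{u} (zq (le_top : (Opens.map (CohCx.incl V)).obj W ≤ ⊤)))).IsUniversal := by
    apply Groth.Agent.S6773.result
    rw [Groth.Agent.S14349.result]
    intro n I hI
    have : Injective ((CohTop.restrFunctor V).obj I) := (CohTop.restrFunctor V).injective_obj I
    have : Subsingleton (Ext.{u} (zq (le_top : (Opens.map (CohCx.incl V)).obj W ≤ ⊤))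
        ((CohTop.restrFunctor V).obj I) (n + 1)) :=
      subsingleton_of_forall_eq 0 (fun x => Ext.eq_zero_of_injective x)
    exact AddCommGrpCat.isZero_of_subsingleton (AddCommGrpCat.of
      (Ext.{u} (zq (le_top : (Opens.map (CohCx.incl V)).obj W ≤ ⊤))
        ((CohTop.restrFunctor V).obj I) (n + 1)))
  exact nonempty_iso_of_isUniversal (extDelta.{u} (zq h)) _ (extDelta_isUniversal _) hT'
    ((coyonedaIsoExtZero (zq h)).symm ≪≫ restrCoyonedaIso h ≪≫
      Functor.isoWhiskerLeft _ (coyonedaIsoExtZero _)) i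

end Groth.Agent.Lib.Helper33.LocCohSS
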