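import Groth.Prelude.Def_DeltaF
import Groth.Prelude.Def_RDerDelta
import Groth.Agent.Lib.Helper83.DerivedLES
import Groth.Agent.S6773
import Groth.Agent.S6774
import Groth.Agent.S16465
import Mathlib.Algebra.Homology.DerivedCategory.Ext.ExactSequences
import Mathlib.Algebra.Homology.DerivedCategory.Ext.EnoughInjectives
import Mathlib.CategoryTheory.Preadditive.Yoneda.Limits
import Mathlib.Algebra.Category.Grp.Zero
import Groth.Agent.Lib.Helper33.ExtRightDerived

/-!
# `Ext^•(Z, -)` as a universal delta-functor; natural isomorphism with the right derived functors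
of `Hom(Z, -)` (helper33)
-/

set_option autoImplicit false

universe w v u

open CategoryTheory CategoryTheory.Limits Opposite Abelian

namespace Groth.Agent.Lib.Helper33.ExtDelta

variable {C : Type u} [Category.{v} C] [Abelian C] [HasExt.{w} C] (Z : C)

/-- `Ext^•(Z, -)` as a cohomological delta-functor -/
noncomputable def extDelta : DeltaF.CohDeltaFunctor C AddCommGrpCat.{w} ℕ where
  F n := (extFunctor n).obj (op Z)
  additive n := inferInstanceAs (extFunctorObj Z n).Additive
  δ S hS n₀ n₁ h := AddCommGrpCat.ofHom (hS.extClass.postcomp Z h)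
  δ_natural {S S'} hS hS' φ n₀ n₁ h := by
    ext x
    change ((x.comp (Ext.mk₀ φ.τ₃) (add_zero n₀)).comp hS'.extClass h) =
      (x.comp hS.extClass h).comp (Ext.mk₀ φ.τ₁) (add_zero n₁)
    rw [Ext.comp_assoc_of_second_deg_zero, ← ShortComplex.ShortExact.extClass_naturality hS hS' φ,
      Ext.comp_assoc_of_third_deg_zero]
  exact₂ S hS n := Ext.covariant_sequence_exact₂' Z hS n
  comp_δ S hS n₀ n₁ h := by
    ext x
    change (x.comp (Ext.mk₀ S.g) (add_zero n₀)).comp hS.extClass h = 0
    rw [Ext.comp_assoc_of_second_deg_zero, hS.comp_extClass, Ext.comp_zero]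
  exact₃ S hS n₀ n₁ h := Ext.covariant_sequence_exact₃' Z hS n₀ n₁ h
  δ_comp S hS n₀ n₁ h := by
    ext x
    change (x.comp hS.extClass h).comp (Ext.mk₀ S.f) (add_zero n₁) = 0
    rw [Ext.comp_assoc_of_third_deg_zero, hS.extClass_comp, Ext.comp_zero]
  exact₁ S hS n₀ n₁ h := Ext.covariant_sequence_exact₁' Z hS n₀ n₁ h

lemma extDelta_isEffaceable [EnoughInjectives C] : (extDelta.{w} Z).IsEffaceable := by
  intro n X
  refine ⟨Injective.under X, Injective.ι X, inferInstance, ?_⟩
  have hz : IsZero (((extDelta.{w} Z).F (n + 1)).obj (Injective.under X)) := by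
    have : Subsingleton (Ext.{w} Z (Injective.under X) (n + 1)) :=
      subsingleton_of_forall_eq 0 (fun x => Ext.eq_zero_of_injective x)
    exact AddCommGrpCat.isZero_of_subsingleton (AddCommGrpCat.of (Ext.{w} Z (Injective.under X) (n + 1)))
  exact hz.eq_of_tgt _ _

theorem extDelta_isUniversal [EnoughInjectives C] : (extDelta.{w} Z).IsUniversal :=
  Groth.Agent.S6773.result _ (extDelta_isEffaceable Z)

end Groth.Agent.Lib.Helper33.ExtDelta

namespace Groth.Agent.Lib.Helper33.ExtDelta

open DeltaF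

section

universe v' u'

variable {A : Type u} [Category.{v} A] [Abelian A] {B : Type u'} [Category.{v'} B] [Abelian B]

/-- the components of an isomorphism of delta-functors -/
def isoApp {T T' : CohDeltaFunctor A B ℕ} (φ : T ≅ T') (n : ℕ) : T.F n ≅ T'.F n where
  hom := φ.hom.app n
  inv := φ.inv.app n
  hom_inv_id := by rw [← CohDeltaFunctor.comp_app, φ.hom_inv_id, CohDeltaFunctor.id_app]
  inv_hom_id := by rw [← CohDeltaFunctor.comp_app, φ.inv_hom_id, CohDeltaFunctor.id_app]

/-- two universal delta-functors with isomorphic degree `0` parts are isomorphic in each degree -/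
theorem nonempty_iso_of_isUniversal (T T' : CohDeltaFunctor A B ℕ) (hT : T.IsUniversal)
    (hT' : T'.IsUniversal) (e : T.F 0 ≅ T'.F 0) (n : ℕ) : Nonempty (T.F n ≅ T'.F n) := by
  obtain ⟨φ, -, -⟩ := Groth.Agent.S6774.result T T' hT hT' e
  exact ⟨isoApp φ n⟩

end

section

variable {C : Type u} [Category.{v} C] [Abelian C] [HasExt.{v} C] [HasInjectiveResolutions C]
  (Z : C)

/-- `Hom(Z, -) ≅ Ext^0(Z, -)` -/
noncomputable def coyonedaIsoExtZero :
    preadditiveCoyoneda.obj (op Z) ≅ (extFunctor.{v} 0).obj (op Z) :=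
  NatIso.ofComponents (fun Y => (Ext.addEquiv₀ (X := Z) (Y := Y)).symm.toAddCommGrpIso) (by
    intro Y Y' f
    ext (g : Z ⟶ Y)
    change Ext.mk₀ (g ≫ f) = (Ext.mk₀ g).comp (Ext.mk₀ f) (add_zero 0)
    rw [Ext.mk₀_comp_mk₀])

open Groth.Agent.Lib.Helper83 in
/-- **`R^n Hom(Z, -) ≅ Ext^n(Z, -)` as functors.** -/
theorem nonempty_rightDerived_coyoneda_iso (n : ℕ) :
    Nonempty ((preadditiveCoyoneda.obj (op Z)).rightDerived n ≅ (extFunctor.{v} n).obj (op Z)) := by
  have : EnoughInjectives C := ExtRD.enoughInjectives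
  exact nonempty_iso_of_isUniversal (derivedLES (preadditiveCoyoneda.obj (op Z))).toCohDeltaFunctor
    (extDelta.{v} Z) (Groth.Agent.S16465.result _ _) (extDelta_isUniversal Z)
    ((preadditiveCoyoneda.obj (op Z)).rightDerivedZeroIsoSelf ≪≫ coyonedaIsoExtZero Z) n

end

end Groth.Agent.Lib.Helper33.ExtDelta
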