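import Mathlib.Algebra.Homology.DerivedCategory.Ext.ExactSequences

/-!
# A Mayer–Vietoris type long exact sequence of `Ext(-, Y)` (helper33)

For a short exact sequence `0 ⟶ Z ⟶ A ⊞ B ⟶ W ⟶ 0` with maps `(a, -b)` and `(c, d)`, the
contravariant long exact sequence of `Ext(-, Y)` written in terms of pairs.
-/

set_option autoImplicit false

universe w v u

open CategoryTheory CategoryTheory.Limits Abelian

namespace Groth.Agent.Lib.Helper33.ExtMV

variable {C : Type u} [Category.{v} C] [Abelian C] [HasExt.{w} C]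

variable {A B Y : C}

/-- the class on `A ⊞ B` attached to a pair of classes -/
noncomputable def pairClass {i : ℕ} (y₁ : Ext A Y i) (y₂ : Ext B Y i) : Ext (A ⊞ B) Y i :=
  (Ext.mk₀ biprod.fst).comp y₁ (zero_add i) + (Ext.mk₀ biprod.snd).comp y₂ (zero_add i)

lemma inl_pairClass {i : ℕ} (y₁ : Ext A Y i) (y₂ : Ext B Y i) :
    (Ext.mk₀ biprod.inl).comp (pairClass y₁ y₂) (zero_add i) = y₁ := by
  unfold pairClass
  rw [Ext.comp_add, Ext.mk₀_comp_mk₀_assoc, Ext.mk₀_comp_mk₀_assoc, biprod.inl_fst,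
    biprod.inl_snd, Ext.mk₀_zero, Ext.zero_comp, Ext.mk₀_id_comp, add_zero]

lemma inr_pairClass {i : ℕ} (y₁ : Ext A Y i) (y₂ : Ext B Y i) :
    (Ext.mk₀ biprod.inr).comp (pairClass y₁ y₂) (zero_add i) = y₂ := by
  unfold pairClass
  rw [Ext.comp_add, Ext.mk₀_comp_mk₀_assoc, Ext.mk₀_comp_mk₀_assoc, biprod.inr_fst,
    biprod.inr_snd, Ext.mk₀_zero, Ext.zero_comp, Ext.mk₀_id_comp, zero_add]

lemma pairClass_eq {i : ℕ} (z : Ext (A ⊞ B) Y i) :
    pairClass ((Ext.mk₀ biprod.inl).comp z (zero_add i))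
      ((Ext.mk₀ biprod.inr).comp z (zero_add i)) = z := by
  unfold pairClass
  rw [Ext.mk₀_comp_mk₀_assoc, Ext.mk₀_comp_mk₀_assoc, ← Ext.add_comp, ← Ext.mk₀_add,
    biprod.total, Ext.mk₀_id_comp]

lemma comp_pairClass {Z : C} (f : Z ⟶ A ⊞ B) {i : ℕ} (y₁ : Ext A Y i) (y₂ : Ext B Y i) :
    (Ext.mk₀ f).comp (pairClass y₁ y₂) (zero_add i) =
      (Ext.mk₀ (f ≫ biprod.fst)).comp y₁ (zero_add i) +
        (Ext.mk₀ (f ≫ biprod.snd)).comp y₂ (zero_add i) := by
  unfold pairClass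
  rw [Ext.comp_add, Ext.mk₀_comp_mk₀_assoc, Ext.mk₀_comp_mk₀_assoc]

lemma comp_eq_pairClass {W : C} (g : A ⊞ B ⟶ W) {i : ℕ} (x : Ext W Y i) :
    (Ext.mk₀ g).comp x (zero_add i) =
      pairClass ((Ext.mk₀ (biprod.inl ≫ g)).comp x (zero_add i))
        ((Ext.mk₀ (biprod.inr ≫ g)).comp x (zero_add i)) := by
  rw [← pairClass_eq ((Ext.mk₀ g).comp x (zero_add i)), Ext.mk₀_comp_mk₀_assoc,
    Ext.mk₀_comp_mk₀_assoc]

/-- **Mayer–Vietoris for `Ext(-, Y)`.** -/
theorem mv {Z W : C} (a : Z ⟶ A) (b : Z ⟶ B) (c : A ⟶ W) (d : B ⟶ W)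
    (w : biprod.lift a (-b) ≫ biprod.desc c d = 0)
    (hT : (ShortComplex.mk (biprod.lift a (-b)) (biprod.desc c d) w).ShortExact) (Y : C) :
    Function.Injective (fun x : Ext W Y 0 =>
      ((Ext.mk₀ c).precomp Y (zero_add 0) x, (Ext.mk₀ d).precomp Y (zero_add 0) x)) ∧
    ∃ δ : ∀ i : ℕ, Ext Z Y i →+ Ext W Y (i + 1),
      ∀ i : ℕ,
        (∀ y : Ext A Y i × Ext B Y i,
          (Ext.mk₀ a).precomp Y (zero_add i) y.1 - (Ext.mk₀ b).precomp Y (zero_add i) y.2 = 0 ↔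
            ∃ x : Ext W Y i, (Ext.mk₀ c).precomp Y (zero_add i) x = y.1 ∧
              (Ext.mk₀ d).precomp Y (zero_add i) x = y.2) ∧
        (∀ z : Ext Z Y i,
          δ i z = 0 ↔ ∃ y : Ext A Y i × Ext B Y i,
            (Ext.mk₀ a).precomp Y (zero_add i) y.1 -
              (Ext.mk₀ b).precomp Y (zero_add i) y.2 = z) ∧
        (∀ x : Ext W Y (i + 1),
          ((Ext.mk₀ c).precomp Y (zero_add (i + 1)) x = 0 ∧
            (Ext.mk₀ d).precomp Y (zero_add (i + 1)) x = 0) ↔ ∃ z : Ext Z Y i, δ i z = x) := by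
  have hac : a ≫ c = b ≫ d := by
    have := w
    rw [biprod.lift_desc, Preadditive.neg_comp, ← sub_eq_add_neg, sub_eq_zero] at this
    exact this
  -- pullback along `f` of a pair class
  have hf : ∀ {i : ℕ} (y₁ : Ext A Y i) (y₂ : Ext B Y i),
      (Ext.mk₀ (biprod.lift a (-b))).comp (pairClass y₁ y₂) (zero_add i) =
        (Ext.mk₀ a).comp y₁ (zero_add i) - (Ext.mk₀ b).comp y₂ (zero_add i) := by
    intro i y₁ y₂
    rw [comp_pairClass, biprod.lift_fst, biprod.lift_snd, Ext.mk₀_neg, Ext.neg_comp,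
      sub_eq_add_neg]
  -- pullback along `g`
  have hg : ∀ {i : ℕ} (x : Ext W Y i),
      (Ext.mk₀ (biprod.desc c d)).comp x (zero_add i) =
        pairClass ((Ext.mk₀ c).comp x (zero_add i)) ((Ext.mk₀ d).comp x (zero_add i)) := by
    intro i x
    rw [comp_eq_pairClass, biprod.inl_desc, biprod.inr_desc]
  have hepi : Epi (biprod.desc c d) := hT.epi_g
  refine ⟨?_, fun i => hT.extClass.precomp Y (add_comm 1 i), fun i => ⟨?_, ?_, ?_⟩⟩
  · intro x x' hxx'
    have h₁ : (Ext.mk₀ c).comp x (zero_add 0) = (Ext.mk₀ c).comp x' (zero_add 0) :=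
      congrArg Prod.fst hxx'
    have h₂ : (Ext.mk₀ d).comp x (zero_add 0) = (Ext.mk₀ d).comp x' (zero_add 0) :=
      congrArg Prod.snd hxx'
    apply Ext.precomp_mk₀_injective_of_epi Y (biprod.desc c d)
    show (Ext.mk₀ (biprod.desc c d)).comp x (zero_add 0) =
      (Ext.mk₀ (biprod.desc c d)).comp x' (zero_add 0)
    rw [hg, hg, h₁, h₂]
  · rintro ⟨y₁, y₂⟩
    show (Ext.mk₀ a).comp y₁ (zero_add i) - (Ext.mk₀ b).comp y₂ (zero_add i) = 0 ↔
      ∃ x : Ext W Y i, (Ext.mk₀ c).comp x (zero_add i) = y₁ ∧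
        (Ext.mk₀ d).comp x (zero_add i) = y₂
    constructor
    · intro h
      rw [← hf] at h
      obtain ⟨x, hx⟩ := Ext.contravariant_sequence_exact₂ hT Y (pairClass y₁ y₂) h
      have hx' : (Ext.mk₀ (biprod.desc c d)).comp x (zero_add i) = pairClass y₁ y₂ := hx
      rw [hg] at hx'
      refine ⟨x, ?_, ?_⟩
      · have := congrArg (fun t => (Ext.mk₀ biprod.inl).comp t (zero_add i)) hx'
        simpa only [inl_pairClass] using this
      · have := congrArg (fun t => (Ext.mk₀ biprod.inr).comp t (zero_add i)) hx'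
        simpa only [inr_pairClass] using this
    · rintro ⟨x, rfl, rfl⟩
      rw [Ext.mk₀_comp_mk₀_assoc, Ext.mk₀_comp_mk₀_assoc, hac, sub_self]
  · intro z
    show hT.extClass.comp z (add_comm 1 i) = 0 ↔ ∃ y : Ext A Y i × Ext B Y i,
      (Ext.mk₀ a).comp y.1 (zero_add i) - (Ext.mk₀ b).comp y.2 (zero_add i) = z
    constructor
    · intro h
      obtain ⟨x₂, hx₂⟩ := Ext.contravariant_sequence_exact₁ hT Y z (add_comm 1 i) h
      have hx₂' : (Ext.mk₀ (biprod.lift a (-b))).comp x₂ (zero_add i) = z := hx₂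
      refine ⟨((Ext.mk₀ biprod.inl).comp x₂ (zero_add i),
        (Ext.mk₀ biprod.inr).comp x₂ (zero_add i)), ?_⟩
      rw [← hf, pairClass_eq, hx₂']
    · rintro ⟨⟨y₁, y₂⟩, rfl⟩
      rw [← hf]
      exact ShortComplex.ShortExact.extClass_comp_assoc hT (pairClass y₁ y₂)
  · intro x
    show ((Ext.mk₀ c).comp x (zero_add (i + 1)) = 0 ∧
      (Ext.mk₀ d).comp x (zero_add (i + 1)) = 0) ↔
        ∃ z : Ext Z Y i, hT.extClass.comp z (add_comm 1 i) = x
    constructor
    · rintro ⟨h₁, h₂⟩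
      have h0 : (Ext.mk₀ (biprod.desc c d)).comp x (zero_add (i + 1)) = 0 := by
        rw [hg, h₁, h₂]
        unfold pairClass
        rw [Ext.comp_zero, Ext.comp_zero, add_zero]
      exact Ext.contravariant_sequence_exact₃ hT Y x h0 (add_comm 1 i)
    · rintro ⟨z, rfl⟩
      have h0 : (Ext.mk₀ (biprod.desc c d)).comp (hT.extClass.comp z (add_comm 1 i))
          (zero_add (i + 1)) = 0 :=
        ShortComplex.ShortExact.comp_extClass_assoc hT z (add_comm 1 i)
      rw [hg] at h0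
      constructor
      · have := congrArg (fun t => (Ext.mk₀ biprod.inl).comp t (zero_add (i + 1))) h0
        simpa only [inl_pairClass, Ext.comp_zero] using this
      · have := congrArg (fun t => (Ext.mk₀ biprod.inr).comp t (zero_add (i + 1))) h0
        simpa only [inr_pairClass, Ext.comp_zero] using this

end Groth.Agent.Lib.Helper33.ExtMV
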