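import Groth.Agent.Lib.Helper33.ExtRightDerived

/-!
# Dimension shifting for the "restriction" maps `Ext^i(Z, Y) → Ext^i(Z', Y)` along a monomorphism
`Z' ⟶ Z` (helper33)
-/

set_option autoImplicit false

universe v u

open CategoryTheory CategoryTheory.Limits Opposite Abelian

namespace Groth.Agent.Lib.Helper33.ExtRD

variable {C : Type u} [Category.{v} C] [Abelian C] [HasExt.{v} C]
  {Z' Z : C} (r : Z' ⟶ Z)

/-- precomposition with `r` on `Ext^i(-, Y)` -/
noncomputable def resExt (Y : C) (i : ℕ) : Ext.{v} Z Y i →+ Ext.{v} Z' Y i :=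
  (Ext.mk₀ r).precomp Y (zero_add i)

lemma resExt_apply (Y : C) (i : ℕ) (x : Ext.{v} Z Y i) :
    resExt r Y i x = (Ext.mk₀ r).comp x (zero_add i) := rfl

variable {S : ShortComplex C} (hS : S.ShortExact)

lemma resExt_extδ (i : ℕ) (x : Ext.{v} Z S.X₃ i) :
    resExt r S.X₁ (i + 1) (extδ Z hS i x) = extδ Z' hS i (resExt r S.X₃ i x) := by
  rw [resExt_apply, resExt_apply, extδ_apply, extδ_apply]
  exact (Ext.comp_assoc _ _ _ (zero_add i) rfl (by omega)).symm

include hS in
/-- bijectivity of the restriction in degree `i + 2` for `S.X₁` gives bijectivity in degree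
`i + 1` for `S.X₃`, when `S.X₂` is injective -/
lemma resExt_bijective_X₃ [Injective S.X₂] (i : ℕ)
    (h : Function.Bijective (resExt r S.X₁ (i + 2))) :
    Function.Bijective (resExt r S.X₃ (i + 1)) := by
  constructor
  · intro x y hxy
    apply extδ_injective Z hS i
    apply h.1
    rw [resExt_extδ, resExt_extδ, hxy]
  · intro x'
    obtain ⟨y, hy⟩ := h.2 (extδ Z' hS (i + 1) x')
    obtain ⟨x, rfl⟩ := extδ_surjective Z hS (i + 1) y
    refine ⟨x, ?_⟩
    apply extδ_injective Z' hS i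
    rw [← resExt_extδ, hy]

include hS in
/-- surjectivity of the restriction in degree `1` for `S.X₁` gives surjectivity in degree `0` for
`S.X₃`, when `S.X₂` is injective and `r` is a monomorphism -/
lemma resExt_zero_surjective_X₃ [Injective S.X₂] [Mono r]
    (h : Function.Surjective (resExt r S.X₁ 1)) :
    Function.Surjective (resExt r S.X₃ 0) := by
  intro x'
  obtain ⟨c, hc⟩ := h (extδ Z' hS 0 x')
  obtain ⟨x, rfl⟩ := extδ_surjective Z hS 0 c
  have h1 : extδ Z' hS 0 (resExt r S.X₃ 0 x - x') = 0 := by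
    rw [map_sub, ← resExt_extδ, hc, sub_self]
  obtain ⟨y', hy'⟩ := Ext.covariant_sequence_exact₃ Z' hS _ rfl h1
  obtain ⟨φ', rfl⟩ := (Ext.mk₀_bijective _ _).2 y'
  let φ : Z ⟶ S.X₂ := Injective.factorThru φ' r
  have hφ : r ≫ φ = φ' := Injective.comp_factorThru φ' r
  refine ⟨x - (Ext.mk₀ φ).comp (Ext.mk₀ S.g) (add_zero 0), ?_⟩
  rw [map_sub, resExt_apply _ _ _ ((Ext.mk₀ φ).comp (Ext.mk₀ S.g) (add_zero 0)),
    Ext.mk₀_comp_mk₀, Ext.mk₀_comp_mk₀, ← Category.assoc, hφ, ← Ext.mk₀_comp_mk₀, hy']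
  abel

end Groth.Agent.Lib.Helper33.ExtRD
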