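import Mathlib
set_option autoImplicit false
set_option linter.unusedSectionVars false
universe u
open CategoryTheory AlgebraicGeometry Limits Opposite

namespace Groth.Agent.Lib.Helper33.FieldPoint

theorem comp_eq_of {C : Type*} [Category C] {A X Y Z : C} (x : A ⟶ X) (m : X ⟶ Y) (y : A ⟶ Y)
    (z : Y ⟶ Z) (w : X ⟶ Z) (h1 : x ≫ m = y) (h2 : m ≫ z = w) : x ≫ w = y ≫ z := by
  subst h1 h2
  simp

section Colim

variable {A : CommRingCat.{u}}
  {J : Type u} [Preorder J] [IsDirected J (· ≤ ·)] [Nonempty J]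
  (R : J → CommRingCat.{u}) (ι : ∀ j, A ⟶ R j) [∀ j, Epi (ι j)]
  (hmap : ∀ i j, i ≤ j → ∃ m : R i ⟶ R j, ι i ≫ m = ι j)

/-- the functor built from a directed family of epimorphic `A`-algebras. -/
noncomputable def Rf : J ⥤ CommRingCat.{u} where
  obj := R
  map {i j} f := (hmap i j (leOfHom f)).choose
  map_id i := (cancel_epi (ι i)).1 ((hmap i i (leOfHom (𝟙 i))).choose_spec.trans
    (Category.comp_id _).symm)
  map_comp {i j k} f g := (cancel_epi (ι i)).1 ((hmap i k (leOfHom (f ≫ g))).choose_spec.trans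
    (((Category.assoc _ _ _).symm.trans
      ((congrArg (· ≫ (hmap j k (leOfHom g)).choose) (hmap i j (leOfHom f)).choose_spec).trans
        (hmap j k (leOfHom g)).choose_spec)).symm))

theorem ι_Rf_map {i j : J} (f : i ⟶ j) : ι i ≫ (Rf R ι hmap).map f = ι j :=
  (hmap i j (leOfHom f)).choose_spec

variable (C : CommRingCat.{u}) (κ : A ⟶ C) [Epi κ]
  (hψ : ∀ j, ∃ ψ : R j ⟶ C, ι j ≫ ψ = κ)

/-- the cocone -/
noncomputable def cc : Cocone (Rf R ι hmap) where
  pt := C
  ι :=
    { app := fun j => (hψ j).choose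
      naturality := fun i j f => (cancel_epi (ι i)).1 (by
        refine ((Category.assoc _ _ _).symm.trans ((congrArg (· ≫ (hψ j).choose)
          (ι_Rf_map R ι hmap f)).trans (hψ j).choose_spec)).trans ?_
        exact ((congrArg (ι i ≫ ·) (Category.comp_id _)).trans (hψ i).choose_spec).symm) }

theorem ι_cc_ι (j : J) : ι j ≫ (cc R ι hmap C κ hψ).ι.app j = κ := (hψ j).choose_spec

variable (huniv : ∀ (B' : CommRingCat.{u}) (g : A ⟶ B'), (∀ j, ∃ h : R j ⟶ B', ι j ≫ h = g) →
    ∃ h : C ⟶ B', κ ≫ h = g)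

theorem compat (s : Cocone (Rf R ι hmap)) (i j : J) :
    (ι i ≫ s.ι.app i : A ⟶ s.pt) = ι j ≫ s.ι.app j := by
  obtain ⟨k, hik, hjk⟩ := exists_ge_ge i j
  have e1 : (ι i ≫ s.ι.app i : A ⟶ s.pt) = ι k ≫ s.ι.app k :=
    comp_eq_of _ _ _ _ _ (ι_Rf_map R ι hmap (homOfLE hik)) (s.w (homOfLE hik))
  have e2 : (ι j ≫ s.ι.app j : A ⟶ s.pt) = ι k ≫ s.ι.app k :=
    comp_eq_of _ _ _ _ _ (ι_Rf_map R ι hmap (homOfLE hjk)) (s.w (homOfLE hjk))
  exact e1.trans e2.symm

/-- the descent morphism -/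
noncomputable def dsc (s : Cocone (Rf R ι hmap)) : C ⟶ s.pt :=
  (huniv s.pt (ι (Classical.arbitrary J) ≫ s.ι.app (Classical.arbitrary J))
    (fun j => ⟨s.ι.app j, compat R ι hmap s _ _⟩)).choose

theorem κ_dsc (s : Cocone (Rf R ι hmap)) (j : J) :
    κ ≫ dsc R ι hmap C κ huniv s = ι j ≫ s.ι.app j :=
  (huniv s.pt (ι (Classical.arbitrary J) ≫ s.ι.app (Classical.arbitrary J))
    (fun j => ⟨s.ι.app j, compat R ι hmap s _ _⟩)).choose_spec.trans (compat R ι hmap s _ _)

/-- the cocone is a colimit -/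
noncomputable def isColimitCc : IsColimit (cc R ι hmap C κ hψ) where
  desc s := dsc R ι hmap C κ huniv s
  fac s j := (cancel_epi (ι j)).1
    (((Category.assoc _ _ _).symm.trans
      (congrArg (· ≫ dsc R ι hmap C κ huniv s) (ι_cc_ι R ι hmap C κ hψ j))).trans
      (κ_dsc R ι hmap C κ huniv s j))
  uniq s m hm := (cancel_epi κ).1
    (((congrArg (· ≫ m) (ι_cc_ι R ι hmap C κ hψ (Classical.arbitrary J))).symm.trans
      ((Category.assoc _ _ _).trans
        (congrArg (ι (Classical.arbitrary J) ≫ ·) (hm _)))).trans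
      (κ_dsc R ι hmap C κ huniv s _).symm)


section Lim

variable {T : Scheme.{u}} (b : Spec A ⟶ T)

/-- the diagram of `T`-schemes -/
noncomputable def DD : Jᵒᵖ ⥤ Over T where
  obj j := Over.mk (Spec.map (ι j.unop) ≫ b)
  map {i j} f := Over.homMk (Spec.map ((Rf R ι hmap).map f.unop)) (by
    have := ι_Rf_map R ι hmap f.unop
    show Spec.map ((Rf R ι hmap).map f.unop) ≫ Spec.map (ι j.unop) ≫ b = Spec.map (ι i.unop) ≫ b
    rw [← Category.assoc, ← Spec.map_comp]
    exact congrArg (fun m => Spec.map m ≫ b) this)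
  map_id i := by
    apply Over.OverMorphism.ext
    show Spec.map ((Rf R ι hmap).map (𝟙 i.unop)) = 𝟙 _
    rw [(Rf R ι hmap).map_id]
    exact Spec.map_id _
  map_comp {i j k} f g := by
    apply Over.OverMorphism.ext
    show Spec.map ((Rf R ι hmap).map (g.unop ≫ f.unop)) = Spec.map ((Rf R ι hmap).map f.unop) ≫ Spec.map ((Rf R ι hmap).map g.unop)
    rw [(Rf R ι hmap).map_comp]
    exact Spec.map_comp _ _

/-- the cone -/
noncomputable def cn : Cone (DD R ι hmap b) where
  pt := Over.mk (Spec.map κ ≫ b)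
  π :=
    { app := fun j => Over.homMk (Spec.map ((cc R ι hmap C κ hψ).ι.app j.unop)) (by
        have := ι_cc_ι R ι hmap C κ hψ j.unop
        show Spec.map ((cc R ι hmap C κ hψ).ι.app j.unop) ≫ Spec.map (ι j.unop) ≫ b = Spec.map κ ≫ b
        rw [← Category.assoc, ← Spec.map_comp]
        exact congrArg (fun m => Spec.map m ≫ b) this)
      naturality := fun i j f => by
        apply Over.OverMorphism.ext
        have := (cc R ι hmap C κ hψ).w f.unop
        show 𝟙 _ ≫ Spec.map ((cc R ι hmap C κ hψ).ι.app j.unop) = Spec.map ((cc R ι hmap C κ hψ).ι.app i.unop) ≫ Spec.map ((Rf R ι hmap).map f.unop)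
        rw [Category.id_comp, ← Spec.map_comp, this] }

include huniv in
/-- the cone is a limit -/
noncomputable def isLimitCn : IsLimit (cn R ι hmap C κ hψ b) := by
  haveI := IsCofiltered.isConnected Jᵒᵖ
  apply isLimitOfReflects (Over.forget T)
  have hl : IsLimit (Scheme.Spec.mapCone (cc R ι hmap C κ hψ).op) :=
    isLimitOfPreserves Scheme.Spec (isColimitCc R ι hmap C κ hψ huniv).op
  let e : (Rf R ι hmap).op ⋙ Scheme.Spec ≅ DD R ι hmap b ⋙ Over.forget T :=
    NatIso.ofComponents (fun j => Iso.refl _) (by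
      intro i j f
      exact (Category.comp_id _).trans (Category.id_comp _).symm)
  refine IsLimit.ofIsoLimit ((IsLimit.postcomposeHomEquiv e _).symm hl) (Cone.ext (Iso.refl _) ?_)
  intro j
  refine Eq.trans ?_ (Category.id_comp _).symm
  exact Category.comp_id _

include hmap hψ huniv in
theorem P_lim (P : ∀ ⦃T' : Scheme.{u}⦄, (T' ⟶ T) → Prop)
    (h2 : ∀ ⦃I : Type u⦄ [SmallCategory I] [IsCofiltered I] (D : I ⥤ Over T) (c : Limits.Cone D)
      (_ : Limits.IsLimit c),
      (∀ (i j : I) (m : i ⟶ j), IsAffineHom (D.map m).left) →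
      (∀ i, CompactSpace (D.obj i).left ∧ QuasiSeparatedSpace (D.obj i).left) →
      (∀ i, P (D.obj i).hom) → P c.pt.hom)
    (hP : ∀ j, P (Spec.map (ι j) ≫ b)) : P (Spec.map κ ≫ b) := by
  have := h2 (DD R ι hmap b) (cn R ι hmap C κ hψ b) (isLimitCn R ι hmap C κ hψ huniv b) ?_ ?_ ?_
  · exact this
  · intro i j m
    show IsAffineHom (Spec.map ((Rf R ι hmap).map m.unop))
    infer_instance
  · intro i
    show CompactSpace (Spec (R i.unop)) ∧ QuasiSeparatedSpace (Spec (R i.unop))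
    exact ⟨inferInstance, inferInstance⟩
  · intro i
    exact hP i.unop

end Lim

end Colim

end Groth.Agent.Lib.Helper33.FieldPoint
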