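import Groth.Agent.Lib.Helper33.FieldPointA
set_option autoImplicit false
set_option linter.unusedSectionVars false
universe u
open CategoryTheory AlgebraicGeometry Limits Opposite

namespace Groth.Agent.Lib.Helper33.FieldPoint

variable {T : Scheme.{u}} (P : ∀ ⦃T' : Scheme.{u}⦄, (T' ⟶ T) → Prop)
  (h1 : ∀ ⦃T' T'' : Scheme.{u}⦄ (a : T' ⟶ T) (t : T'' ⟶ T') [IsClosedImmersion t] [Surjective t]
      [CompactSpace T'] [QuasiSeparatedSpace T'] [CompactSpace T''] [QuasiSeparatedSpace T''],
      P (t ≫ a) ↔ P a)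
  (h2 : ∀ ⦃I : Type u⦄ [SmallCategory I] [IsCofiltered I] (D : I ⥤ Over T) (c : Limits.Cone D)
      (_ : Limits.IsLimit c),
      (∀ (i j : I) (m : i ⟶ j), IsAffineHom (D.map m).left) →
      (∀ i, CompactSpace (D.obj i).left ∧ QuasiSeparatedSpace (D.obj i).left) →
      (∀ i, P (D.obj i).hom) → P c.pt.hom)
  (h3 : ∀ ⦃T' Z V : Scheme.{u}⦄ (a : T' ⟶ T) [CompactSpace T'] [QuasiSeparatedSpace T']
      (i : Z ⟶ T') [IsClosedImmersion i]
      (j : V ⟶ T') [IsOpenImmersion j] [CompactSpace V],
      Set.range j = (Set.range i)ᶜ → P a → P (j ≫ a) ∨ P (i ≫ a))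

include h1 in
theorem iso_inv {T' T'' : Scheme.{u}} (a : T' ⟶ T) (t : T'' ⟶ T') [IsIso t]
    [CompactSpace T'] [QuasiSeparatedSpace T'] [CompactSpace T''] [QuasiSeparatedSpace T''] :
    P (t ≫ a) ↔ P a := h1 a t

include h1 in
theorem ring_iso_inv {A C C' : CommRingCat.{u}} (b : Spec A ⟶ T) (g : A ⟶ C) (g' : A ⟶ C')
    (e : C ≅ C') (he : g ≫ e.hom = g') : P (Spec.map g' ≫ b) ↔ P (Spec.map g ≫ b) := by
  subst he
  rw [Spec.map_comp, Category.assoc]
  exact iso_inv P h1 (Spec.map g ≫ b) (Spec.map e.hom)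

include h1 in
theorem surj_inv {A C : CommRingCat.{u}} (b : Spec A ⟶ T) (g : A ⟶ C)
    (hg : Function.Surjective g.hom) :
    P (Spec.map g ≫ b) ↔
      P (Spec.map (CommRingCat.ofHom (Ideal.Quotient.mk (RingHom.ker g.hom))) ≫ b) := by
  refine ring_iso_inv P h1 b _ g (RingHom.quotientKerEquivOfSurjective hg).toCommRingCatIso ?_
  ext x
  simp

theorem epi_mk {A : CommRingCat.{u}} (I : Ideal A) :
    Epi (CommRingCat.ofHom (Ideal.Quotient.mk I)) :=
  ConcreteCategory.epi_of_surjective _ Ideal.Quotient.mk_surjective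

include h2 in
theorem chain_step {A : CommRingCat.{u}} (b : Spec A ⟶ T) (c : Set (Ideal A))
    (hc : IsChain (· ≤ ·) c) (hne : c.Nonempty)
    (hP : ∀ I ∈ c, P (Spec.map (CommRingCat.ofHom (Ideal.Quotient.mk I)) ≫ b)) :
    P (Spec.map (CommRingCat.ofHom (Ideal.Quotient.mk (sSup c))) ≫ b) := by
  haveI : Nonempty c := hne.to_subtype
  haveI : IsDirected c (· ≤ ·) := ⟨fun x y => (hc.total x.2 y.2).elim
    (fun h => ⟨y, h, le_rfl⟩) (fun h => ⟨x, le_rfl, h⟩)⟩
  haveI : ∀ I : Ideal A, Epi (CommRingCat.ofHom (Ideal.Quotient.mk I)) := epi_mk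
  refine P_lim (J := c) (fun I => CommRingCat.of (A ⧸ I.1))
    (fun I => CommRingCat.ofHom (Ideal.Quotient.mk I.1)) ?_ (CommRingCat.of (A ⧸ sSup c))
    (CommRingCat.ofHom (Ideal.Quotient.mk (sSup c))) ?_ ?_ b P h2 (fun I => hP I.1 I.2)
  · intro i j hij
    refine ⟨CommRingCat.ofHom (Ideal.Quotient.factor (show i.1 ≤ j.1 from hij)), ?_⟩
    ext x
    simp
  · intro j
    refine ⟨CommRingCat.ofHom (Ideal.Quotient.factor (le_sSup j.2)), ?_⟩
    ext x
    simp
  · intro B' g hyp
    have hle : sSup c ≤ RingHom.ker g.hom := by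
      refine sSup_le fun I hI x hx => ?_
      obtain ⟨h, hh⟩ := hyp ⟨I, hI⟩
      rw [RingHom.mem_ker, ← hh]
      have : (Ideal.Quotient.mk I) x = 0 := Ideal.Quotient.eq_zero_iff_mem.2 hx
      simp [this]
    refine ⟨CommRingCat.ofHom (Ideal.Quotient.lift (sSup c) g.hom (fun a ha => hle ha)), ?_⟩
    ext x
    simp

include h1 in
theorem radical_step {A : CommRingCat.{u}} (b : Spec A ⟶ T) (I : Ideal A) :
    P (Spec.map (CommRingCat.ofHom (Ideal.Quotient.mk I.radical)) ≫ b) ↔
      P (Spec.map (CommRingCat.ofHom (Ideal.Quotient.mk I)) ≫ b) := by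
  let φ : CommRingCat.of (A ⧸ I) ⟶ CommRingCat.of (A ⧸ I.radical) :=
    CommRingCat.ofHom (Ideal.Quotient.factor Ideal.le_radical)
  have hφ : CommRingCat.ofHom (Ideal.Quotient.mk I) ≫ φ =
      CommRingCat.ofHom (Ideal.Quotient.mk I.radical) := by
    ext x
    simp [φ]
  have hsurj : Function.Surjective φ.hom :=
    Ideal.Quotient.factor_surjective (Ideal.le_radical (I := I))
  rw [← hφ, Spec.map_comp, Category.assoc]
  haveI : IsClosedImmersion (Spec.map φ) := IsClosedImmersion.spec_of_surjective φ hsurj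
  haveI : Surjective (Spec.map φ) := by
    refine ⟨fun x => ?_⟩
    have hx : x ∈ Set.range (PrimeSpectrum.comap φ.hom) := by
      rw [range_comap_of_surjective _ _ hsurj]
      intro z hz
      obtain ⟨a, rfl⟩ := Ideal.Quotient.mk_surjective z
      have ha : a ∈ I.radical := by
        have : φ.hom (Ideal.Quotient.mk I a) = 0 := hz
        simpa [φ, Ideal.Quotient.eq_zero_iff_mem] using this
      obtain ⟨n, hn⟩ := ha
      have : (Ideal.Quotient.mk I a) ^ n ∈ x.asIdeal := by
        rw [← map_pow, Ideal.Quotient.eq_zero_iff_mem.2 hn]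
        exact x.asIdeal.zero_mem
      exact x.2.mem_of_pow_mem n this
    obtain ⟨y, hy⟩ := hx
    exact ⟨y, hy⟩
  exact h1 _ (Spec.map φ)

include h3 in
theorem away_step {B : CommRingCat.{u}} (a : Spec B ⟶ T) (f : B) (ha : P a) :
    P (Spec.map (CommRingCat.ofHom (algebraMap B (Localization.Away f))) ≫ a) ∨
      P (Spec.map (CommRingCat.ofHom (Ideal.Quotient.mk (Ideal.span {f}))) ≫ a) := by
  haveI : IsClosedImmersion (Spec.map (CommRingCat.ofHom (Ideal.Quotient.mk (Ideal.span {f})))) :=
    IsClosedImmersion.spec_of_surjective _ Ideal.Quotient.mk_surjective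
  refine h3 a (Spec.map (CommRingCat.ofHom (Ideal.Quotient.mk (Ideal.span {f}))))
    (Spec.map (CommRingCat.ofHom (algebraMap B (Localization.Away f)))) ?_ ha
  have r1 : Set.range (Spec.map (CommRingCat.ofHom (algebraMap B (Localization.Away f)))) =
      (PrimeSpectrum.basicOpen f : Set (PrimeSpectrum B)) :=
    PrimeSpectrum.localization_away_comap_range _ f
  have r2 : Set.range (Spec.map (CommRingCat.ofHom (Ideal.Quotient.mk (Ideal.span {f})))) =
      PrimeSpectrum.zeroLocus {f} := by
    have := range_comap_of_surjective _ (Ideal.Quotient.mk (Ideal.span {f}))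
      Ideal.Quotient.mk_surjective
    rw [Ideal.mk_ker, PrimeSpectrum.zeroLocus_span] at this
    exact this
  rw [r1, r2, PrimeSpectrum.basicOpen_eq_zeroLocus_compl]
  rfl

/-- a commutative monoid with its divisibility preorder -/
structure DivOrd (M : Type u) where
  /-- the underlying element -/
  val : M

instance {M : Type u} [CommMonoid M] : Preorder (DivOrd M) where
  le a b := a.val ∣ b.val
  le_refl a := dvd_refl _
  le_trans _ _ _ := dvd_trans

instance {M : Type u} [CommMonoid M] : IsDirected (DivOrd M) (· ≤ ·) :=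
  ⟨fun a b => ⟨⟨a.val * b.val⟩, Dvd.intro _ rfl, Dvd.intro_left _ rfl⟩⟩

instance {M : Type u} [CommMonoid M] : Nonempty (DivOrd M) := ⟨⟨1⟩⟩

include h2 in
theorem loc_step {B : CommRingCat.{u}} (a : Spec B ⟶ T) (S : Submonoid B) (L : Type u)
    [CommRing L] [Algebra B L] [IsLocalization S L]
    (hP : ∀ f ∈ S, P (Spec.map (CommRingCat.ofHom (algebraMap B (Localization.Away f))) ≫ a)) :
    P (Spec.map (CommRingCat.ofHom (algebraMap B L)) ≫ a) := by
  haveI : ∀ f : B, Epi (CommRingCat.ofHom (algebraMap B (Localization.Away f))) :=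
    fun f => IsLocalization.epi (Submonoid.powers f) _
  haveI : Epi (CommRingCat.ofHom (algebraMap B L)) := IsLocalization.epi S L
  refine P_lim (J := DivOrd S) (fun f => CommRingCat.of (Localization.Away (f.val : B)))
    (fun f => CommRingCat.ofHom (algebraMap B (Localization.Away (f.val : B)))) ?_ (CommRingCat.of L)
    (CommRingCat.ofHom (algebraMap B L)) ?_ ?_ a P h2 (fun f => hP f.val.1 f.val.2)
  · intro i j hij
    have hu : IsUnit (algebraMap B (Localization.Away (j.val : B)) (i.val : B)) := by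
      obtain ⟨k, hk⟩ := hij
      have e : (j.val : B) = (i.val : B) * (k : B) := by
        rw [hk]
        rfl
      have hj := IsLocalization.Away.algebraMap_isUnit (S := Localization.Away (j.val : B))
        (j.val : B)
      have e2 : algebraMap B (Localization.Away (j.val : B)) (j.val : B) =
          algebraMap B (Localization.Away (j.val : B)) (i.val : B) *
            algebraMap B (Localization.Away (j.val : B)) (k : B) := by
        rw [← map_mul, ← e]
      rw [e2] at hj
      exact isUnit_of_mul_isUnit_left hj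
    refine ⟨CommRingCat.ofHom (IsLocalization.Away.lift (i.val : B) hu), ?_⟩
    ext x
    simp
  · intro j
    have hu : IsUnit (algebraMap B L (j.val : B)) := IsLocalization.map_units L j.val
    refine ⟨CommRingCat.ofHom (IsLocalization.Away.lift (j.val : B) hu), ?_⟩
    ext x
    simp
  · intro B' g hyp
    have hu : ∀ y : S, IsUnit (g.hom y) := by
      intro y
      obtain ⟨h, hh⟩ := hyp ⟨y⟩
      rw [← hh]
      exact (IsLocalization.Away.algebraMap_isUnit (S := Localization.Away (y : B)) (y : B)).map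
        h.hom
    refine ⟨CommRingCat.ofHom (IsLocalization.lift (S := L) hu), ?_⟩
    ext x
    simp

theorem isIso_away_of_isUnit {B : CommRingCat.{u}} (f : B) (hf : IsUnit f) :
    IsIso (CommRingCat.ofHom (algebraMap B (Localization.Away f))) := by
  let e := IsLocalization.atUnits B (Submonoid.powers f) (S := Localization.Away f)
    (Submonoid.powers_le.2 hf)
  have he : ⇑(algebraMap B (Localization.Away f)) = e := funext fun x => (e.commutes x).symm
  rw [ConcreteCategory.isIso_iff_bijective]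
  show Function.Bijective (algebraMap B (Localization.Away f))
  rw [he]
  exact e.bijective

include h1 h2 h3 in
theorem affine_case (A : CommRingCat.{u}) [Nontrivial A] (b : Spec A ⟶ T) (hb : P b) :
    ∃ (K : Type u) (_ : Field K) (t : Spec (CommRingCat.of K) ⟶ T), P t := by
  classical
  let q : ∀ I : Ideal A, Spec (CommRingCat.of (A ⧸ I)) ⟶ T :=
    fun I => Spec.map (CommRingCat.ofHom (Ideal.Quotient.mk I)) ≫ b
  let s : Set (Ideal A) := {I | I ≠ ⊤ ∧ P (q I)}
  have h0 : RingHom.ker (𝟙 A : A ⟶ A).hom ∈ s := by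
    refine ⟨?_, ?_⟩
    · intro h
      have : (1 : A) ∈ RingHom.ker (𝟙 A : A ⟶ A).hom := h ▸ Submodule.mem_top
      rw [RingHom.mem_ker] at this
      exact one_ne_zero this
    · refine (surj_inv P h1 b (𝟙 A) Function.surjective_id).1 ?_
      rw [Spec.map_id, Category.id_comp]
      exact hb
  obtain ⟨I, -, hI⟩ := zorn_le_nonempty₀ s (by
    intro c hcs hc y hy
    refine ⟨sSup c, ⟨?_, ?_⟩, fun z hz => le_sSup hz⟩
    · intro h
      have h1' : (1 : A) ∈ sSup c := h ▸ Submodule.mem_top
      obtain ⟨J, hJ, h1J⟩ := (Submodule.mem_sSup_of_directed ⟨y, hy⟩ hc.directedOn).1 h1'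
      exact (hcs hJ).1 ((Ideal.eq_top_iff_one J).2 h1J)
    · exact chain_step P h2 b c hc ⟨y, hy⟩ (fun J hJ => (hcs hJ).2)) _ h0
  have hIs : I ∈ s := hI.prop
  -- reducedness
  have hrad : I.radical ≤ I := hI.le_of_ge
    (show I.radical ∈ s from ⟨by rw [Ne, Ideal.radical_eq_top]; exact hIs.1,
      (radical_step P h1 b I).2 hIs.2⟩) Ideal.le_radical
  haveI : IsReduced (A ⧸ I) := (Ideal.isRadical_iff_quotient_reduced I).1 hrad
  haveI : Nontrivial (A ⧸ I) := Ideal.Quotient.nontrivial_iff.2 hIs.1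
  obtain ⟨⟨𝔭, h𝔭⟩⟩ := Ideal.nonempty_minimalPrimes (I := (⊥ : Ideal (A ⧸ I))) bot_ne_top
  haveI : 𝔭.IsPrime := h𝔭.1.1
  haveI : Ring.KrullDimLE 0 (Localization.AtPrime 𝔭) := .of_isLocalization 𝔭 h𝔭 _
  let fld : Field (Localization.AtPrime 𝔭) := Ring.KrullDimLE.isField_of_isReduced.toField
  let a : Spec (CommRingCat.of (A ⧸ I)) ⟶ T := q I
  have hf : ∀ f ∈ 𝔭.primeCompl,
      P (Spec.map (CommRingCat.ofHom (algebraMap (CommRingCat.of (A ⧸ I))
        (Localization.Away (f : CommRingCat.of (A ⧸ I))))) ≫ a) := by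
    intro f hf
    rcases away_step P h3 a f hIs.2 with h | h
    · exact h
    · let g : A ⟶ CommRingCat.of ((A ⧸ I) ⧸ Ideal.span {f}) :=
        CommRingCat.ofHom (Ideal.Quotient.mk I) ≫ CommRingCat.ofHom (Ideal.Quotient.mk (Ideal.span {f}))
      have hg : Function.Surjective g.hom :=
        Ideal.Quotient.mk_surjective.comp Ideal.Quotient.mk_surjective
      have h' : P (Spec.map g ≫ b) := by
        rw [Spec.map_comp, Category.assoc]
        exact h
      rw [surj_inv P h1 b g hg] at h'
      have hle : I ≤ RingHom.ker g.hom := fun x hx => by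
        rw [RingHom.mem_ker]
        show Ideal.Quotient.mk (Ideal.span {f}) (Ideal.Quotient.mk I x) = 0
        rw [Ideal.Quotient.eq_zero_iff_mem.2 hx, map_zero]
      by_cases htop : RingHom.ker g.hom = ⊤
      · have h1' : (1 : A) ∈ RingHom.ker g.hom := htop ▸ Submodule.mem_top
        have h10 : Ideal.Quotient.mk (Ideal.span {f}) (1 : A ⧸ I) = 0 := by
          rw [RingHom.mem_ker] at h1'
          simpa [g] using h1'
        have hu : IsUnit f := by
          rw [← Ideal.span_singleton_eq_top, Ideal.eq_top_iff_one]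
          exact Ideal.Quotient.eq_zero_iff_mem.1 h10
        haveI := isIso_away_of_isUnit (B := CommRingCat.of (A ⧸ I)) f hu
        exact (iso_inv P h1 a (Spec.map _)).2 hIs.2
      · have hk : RingHom.ker g.hom ≤ I := hI.le_of_ge (show RingHom.ker g.hom ∈ s from ⟨htop, h'⟩) hle
        exfalso
        obtain ⟨f', rfl⟩ := Ideal.Quotient.mk_surjective f
        have : f' ∈ RingHom.ker g.hom := by
          rw [RingHom.mem_ker]
          show Ideal.Quotient.mk (Ideal.span {Ideal.Quotient.mk I f'}) (Ideal.Quotient.mk I f') = 0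
          exact Ideal.Quotient.eq_zero_iff_mem.2 (Ideal.subset_span rfl)
        have h0' : Ideal.Quotient.mk I f' = 0 := Ideal.Quotient.eq_zero_iff_mem.2 (hk this)
        apply hf
        rw [h0']
        exact 𝔭.zero_mem
  have := loc_step P h2 a 𝔭.primeCompl (Localization.AtPrime 𝔭) hf
  exact ⟨Localization.AtPrime 𝔭, fld, _, this⟩

end Groth.Agent.Lib.Helper33.FieldPoint
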