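import Groth.Agent.Lib.Helper33.FieldPointB
set_option autoImplicit false
set_option linter.unusedSectionVars false
set_option linter.style.haveILetI false
universe u
open CategoryTheory AlgebraicGeometry Limits Opposite

namespace Groth.Agent.Lib.Helper33.FieldPoint

variable {T : Scheme.{u}} (P : ∀ ⦃T' : Scheme.{u}⦄, (T' ⟶ T) → Prop)
  (h1 : ∀ ⦃T' T'' : Scheme.{u}⦄ (a : T' ⟶ T) (t : T'' ⟶ T') [IsClosedImmersion t] [Surjective t]
      [CompactSpace T'] [QuasiSeparatedSpace T'] [CompactSpace T''] [QuasiSeparatedSpace T''],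
      P (t ≫ a) ↔ P a)
  (h2 : ∀ ⦃I : Type u⦄ [SmallCategory I] [IsCofiltered I] (D : I ⥤ Over T) (c : Limits.Cone D)
      (_ : Limits.IsLimit c),
      (∀ (i j : I) (m : i ⟶ j), IsAffineHom (D.map m).left) →
      (∀ i, CompactSpace (D.obj i).left ∧ QuasiSeparatedSpace (D.obj i).left) →
      (∀ i, P (D.obj i).hom) → P c.pt.hom)
  (h3 : ∀ ⦃T' Z V : Scheme.{u}⦄ (a : T' ⟶ T) [CompactSpace T'] [QuasiSeparatedSpace T']
      (i : Z ⟶ T') [IsClosedImmersion i]
      (j : V ⟶ T') [IsOpenImmersion j] [CompactSpace V],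
      Set.range j = (Set.range i)ᶜ → P a → P (j ≫ a) ∨ P (i ≫ a))

include h1 in
theorem of_isAffine (T' : Scheme.{u}) [IsAffine T'] [Nonempty T'] (a : T' ⟶ T) (ha : P a) :
    ∃ (A : CommRingCat.{u}) (_ : Nontrivial A) (b : Spec A ⟶ T), P b := by
  refine ⟨Γ(T', ⊤), ?_, T'.isoSpec.inv ≫ a, (iso_inv P h1 a T'.isoSpec.inv).2 ha⟩
  have : Nonempty (Spec Γ(T', ⊤)) := ⟨T'.isoSpec.hom (Classical.arbitrary T')⟩
  exact PrimeSpectrum.nonempty_iff_nontrivial.1 this

include h1 h3 in
theorem reduce_affine : ∀ (n : ℕ) (T' : Scheme.{u}) (a : T' ⟶ T) [CompactSpace T']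
    [QuasiSeparatedSpace T'] [Nonempty T'] (U : Fin n → T'.Opens), (∀ i, IsAffineOpen (U i)) →
    (⨆ i, U i = ⊤) → P a → ∃ (A : CommRingCat.{u}) (_ : Nontrivial A) (b : Spec A ⟶ T), P b := by
  intro n
  induction n with
  | zero =>
    intro T' a _ _ _ U hU hcov ha
    exfalso
    have x := Classical.arbitrary T'
    have hx : x ∈ (⊤ : T'.Opens) := trivial
    rw [← hcov] at hx
    obtain ⟨i, _⟩ := TopologicalSpace.Opens.mem_iSup.1 hx
    exact i.elim0
  | succ n ih =>
    intro T' a _ _ _ U hU hcov ha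
    have hmem : ∀ x : T', ∃ k, x ∈ U k := fun x => by
      have hx : x ∈ (⊤ : T'.Opens) := trivial
      rw [← hcov] at hx
      exact TopologicalSpace.Opens.mem_iSup.1 hx
    by_cases h0 : U 0 = ⊥
    · refine ih T' a (fun i => U i.succ) (fun i => hU _) ?_ ha
      refine eq_top_iff.2 fun x _ => ?_
      obtain ⟨k, hk⟩ := hmem x
      refine TopologicalSpace.Opens.mem_iSup.2 ?_
      induction k using Fin.cases with
      | zero =>
        rw [h0] at hk
        exact hk.elim
      | succ k => exact ⟨k, hk⟩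
    · let V := U 0
      let Zc : TopologicalSpace.Closeds T' := ⟨(V : Set T')ᶜ, V.isOpen.isClosed_compl⟩
      let I := Scheme.IdealSheafData.vanishingIdeal Zc
      let i := I.subschemeι
      have hri : Set.range i = (V : Set T')ᶜ := by
        rw [Scheme.IdealSheafData.range_subschemeι]
        simp [I, Zc]
      have hrj : Set.range V.ι = (Set.range i)ᶜ := by
        rw [hri, compl_compl]
        exact Scheme.Opens.range_ι V
      haveI : IsAffine V.toScheme := hU 0
      rcases h3 a i V.ι hrj ha with h | h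
      · obtain ⟨x, hx⟩ := (TopologicalSpace.Opens.ne_bot_iff_nonempty _).1 h0
        haveI : Nonempty V.toScheme := ⟨⟨x, hx⟩⟩
        exact of_isAffine P h1 V.toScheme (V.ι ≫ a) h
      · by_cases hZ : Nonempty I.subscheme
        · haveI := hZ
          haveI : CompactSpace I.subscheme := QuasiCompact.compactSpace_of_compactSpace i
          haveI : QuasiSeparatedSpace I.subscheme := quasiSeparatedSpace_of_quasiSeparated i
          refine ih I.subscheme (i ≫ a) (fun k => i ⁻¹ᵁ U k.succ) (fun k => (hU _).preimage i) ?_ h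
          refine eq_top_iff.2 fun z _ => ?_
          obtain ⟨k, hk⟩ := hmem (i z)
          refine TopologicalSpace.Opens.mem_iSup.2 ?_
          induction k using Fin.cases with
          | zero =>
            exfalso
            have : i z ∈ (V : Set T')ᶜ := hri ▸ Set.mem_range_self z
            exact this hk
          | succ k => exact ⟨k, hk⟩
        · have hV : V = ⊤ := by
            refine eq_top_iff.2 fun x _ => ?_
            by_contra hx
            have : x ∈ Set.range i := hri ▸ hx
            obtain ⟨z, -⟩ := this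
            exact hZ ⟨z⟩
          have hT : IsAffineOpen (⊤ : T'.Opens) := hV ▸ hU 0
          haveI : IsAffine T' := by
            have : IsAffine (⊤ : T'.Opens).toScheme := hT
            exact IsAffine.of_isIso (Scheme.topIso T').inv
          exact of_isAffine P h1 T' a ha

include h1 h2 h3 in
theorem main [CompactSpace T] [QuasiSeparatedSpace T] [Nonempty T] (hT : P (𝟙 T)) :
    ∃ (K : Type u) (_ : Field K) (t : Spec (CommRingCat.of K) ⟶ T), P t := by
  obtain ⟨s, hs, hcov⟩ := (isCompact_iff_finite_and_eq_biUnion_affineOpens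
    (U := (⊤ : T.Opens))).1 (by simpa using isCompact_univ)
  haveI := hs.to_subtype
  let e := Finite.equivFin s
  obtain ⟨A, hA, b, hb⟩ := reduce_affine P h1 h3 (Nat.card s) T (𝟙 T)
    (fun k => ((e.symm k).1 : T.Opens)) (fun k => (e.symm k).1.2) (by
      refine eq_top_iff.2 fun x hx => ?_
      rw [hcov] at hx
      obtain ⟨W, hW⟩ := TopologicalSpace.Opens.mem_iSup.1 hx
      obtain ⟨hWs, hxW⟩ := TopologicalSpace.Opens.mem_iSup.1 hW
      refine TopologicalSpace.Opens.mem_iSup.2 ⟨e ⟨W, hWs⟩, ?_⟩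
      rw [Equiv.symm_apply_apply]
      exact hxW) hT
  exact affine_case P h1 h2 h3 A b hb

end Groth.Agent.Lib.Helper33.FieldPoint
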