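import Mathlib.CategoryTheory.Sites.Sheafification
import Mathlib.CategoryTheory.Sites.LeftExact
import Mathlib.CategoryTheory.Sites.Abelian
import Mathlib.CategoryTheory.Adjunction.Whiskering
import Mathlib.CategoryTheory.Preadditive.Injective.Basic
import Mathlib.Algebra.Category.Grp.Adjunctions
import Mathlib.CategoryTheory.Yoneda

/-!
# Free abelian sheaves on objects of a site, universe polymorphic (helper33)

For a site `(C, J)` with `C : Type u`, `Category.{v} C`, and abelian sheaves with values in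
`AddCommGrpCat.{max w v}`: the free abelian sheaf `ZU J U` on an object `U`, the equivalence
`(ZU J U ⟶ F) ≃ F(U)` natural in `U`, and the consequence that an injective abelian sheaf has
surjective restriction maps along monomorphisms of the site.
-/

set_option autoImplicit false

universe w v u

open CategoryTheory Opposite CategoryTheory.Limits

namespace Groth.Agent.Lib.Helper33.FreeSheafGen

variable {C : Type u} [Category.{v} C] (J : GrothendieckTopology C)
  [HasSheafify J AddCommGrpCat.{max w v}]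

/-- The free abelian presheaf on the representable presheaf of `U`. -/
noncomputable abbrev ZUpre (U : C) : Cᵒᵖ ⥤ AddCommGrpCat.{max w v} :=
  uliftYoneda.{w}.obj U ⋙ AddCommGrpCat.free.{max w v}

/-- The free abelian sheaf on the object `U`. -/
noncomputable abbrev ZU (U : C) : Sheaf J AddCommGrpCat.{max w v} :=
  (presheafToSheaf J AddCommGrpCat.{max w v}).obj (ZUpre.{w} U)

/-- The map of presheaves `ℤ_V^{pre} ⟶ ℤ_U^{pre}` for `f : V ⟶ U`. -/
noncomputable def ZUpreMap {V U : C} (f : V ⟶ U) : ZUpre.{w} V ⟶ ZUpre.{w} U :=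
  Functor.whiskerRight (uliftYoneda.{w}.map f) AddCommGrpCat.free.{max w v}

/-- The map `ℤ_V ⟶ ℤ_U` for `f : V ⟶ U`. -/
noncomputable def ZUmap {V U : C} (f : V ⟶ U) : ZU.{w} J V ⟶ ZU.{w} J U :=
  (presheafToSheaf J AddCommGrpCat.{max w v}).map (ZUpreMap.{w} f)

variable {J}

/-- The adjunction equivalence `(ℤ_U ⟶ F) ≃ F(U)`. -/
noncomputable def ZUequiv (U : C) (F : Sheaf J AddCommGrpCat.{max w v}) :
    (ZU.{w} J U ⟶ F) ≃ (F.obj ⋙ forget AddCommGrpCat.{max w v}).obj (op U) :=
  ((sheafificationAdjunction J AddCommGrpCat.{max w v}).homEquiv (ZUpre.{w} U) F).trans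
    (((Adjunction.whiskerRight Cᵒᵖ AddCommGrpCat.adj.{max w v}).homEquiv
      (uliftYoneda.{w}.obj U) F.obj).trans uliftYonedaEquiv.{w})

lemma ZUequiv_map {V U : C} (f : V ⟶ U) (F : Sheaf J AddCommGrpCat.{max w v})
    (φ : ZU.{w} J U ⟶ F) :
    ZUequiv.{w} V F (ZUmap.{w} J f ≫ φ) =
      (F.obj ⋙ forget AddCommGrpCat.{max w v}).map f.op (ZUequiv.{w} U F φ) := by
  unfold ZUequiv ZUmap
  simp only [Equiv.trans_apply]
  rw [Adjunction.homEquiv_naturality_left]
  have h : ZUpreMap.{w} f = ((Functor.whiskeringRight Cᵒᵖ _ _).obj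
      AddCommGrpCat.free.{max w v}).map (uliftYoneda.{w}.map f) := rfl
  rw [h, Adjunction.homEquiv_naturality_left]
  exact (uliftYonedaEquiv_naturality.{w} _ f.op).symm

instance mono_ZUpreMap {V U : C} (f : V ⟶ U) [Mono f] : Mono (ZUpreMap.{w} f) := by
  have h : ∀ W : Cᵒᵖ, Mono ((ZUpreMap.{w} f).app W) := by
    intro W
    have h1 : Mono ((uliftYoneda.{w}.map f).app W) := by
      rw [mono_iff_injective]
      rintro ⟨a⟩ ⟨b⟩ hab
      have hab' : a ≫ f = b ≫ f := congrArg ULift.down hab
      exact congrArg ULift.up ((cancel_mono f).1 hab')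
    exact inferInstanceAs (Mono (AddCommGrpCat.free.{max w v}.map
      ((uliftYoneda.{w}.map f).app W)))
  exact NatTrans.mono_of_mono_app _

instance mono_ZUmap {V U : C} (f : V ⟶ U) [Mono f] : Mono (ZUmap.{w} J f) := by
  unfold ZUmap
  infer_instance

/-- An injective abelian sheaf has surjective restriction maps along monomorphisms. -/
theorem surjective_map_of_injective_of_mono (I : Sheaf J AddCommGrpCat.{max w v}) [Injective I]
    {V U : C} (f : V ⟶ U) [Mono f] :
    Function.Surjective ((I.obj ⋙ forget AddCommGrpCat.{max w v}).map f.op) := by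
  intro s
  let φ : ZU.{w} J V ⟶ I := (ZUequiv.{w} V I).symm s
  refine ⟨ZUequiv.{w} U I (Injective.factorThru φ (ZUmap.{w} J f)), ?_⟩
  rw [← ZUequiv_map, Injective.comp_factorThru]
  exact (ZUequiv.{w} V I).apply_symm_apply s

end Groth.Agent.Lib.Helper33.FreeSheafGen
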