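import Mathlib
import Groth.Agent.Lib.Helper33.CoskHtpy

/-!
# Sections of "special" morphisms of simplicial sets (helper33)

`f : L ⟶ K` a morphism of simplicial sets, bijective in degrees `< n`, surjective in degree `n`,
`L` the (pointwise) right Kan extension of its `n`-truncation, `K` `n`-separated.  Then `f` has a
section `s` with `f ≫ s` homotopic to the identity; in particular `f` induces isomorphisms on the
homology of the alternating face map complexes after applying any functor to a preadditive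
category.
-/

set_option autoImplicit false
universe v' u' u
open CategoryTheory CategoryTheory.Limits Opposite Simplicial SimplexCategory

namespace Groth.Agent.Lib.Helper33.SSetSec

section Degenerate

variable (X : SSet.{u})

lemma map_mem_degenerate {m : ℕ} {Δ : SimplexCategory} (θ : ⦋m⦌ ⟶ Δ) (hθ : ¬ Mono θ)
    (y : X.obj (op Δ)) : X.map θ.op y ∈ X.degenerate m := by
  have h1 : (image θ).len ≤ m := len_le_of_epi (factorThruImage θ)
  have hlt : (image θ).len < m := by
    by_contra h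
    have h' : m ≤ (image θ).len := not_lt.1 h
    have : IsIso (factorThruImage θ) := by
      rw [isIso_iff_of_epi]
      exact le_antisymm h' h1
    apply hθ
    rw [← image.fac θ]
    infer_instance
  refine ⟨(image θ).len, hlt, factorThruImage θ, X.map (image.ι θ).op y, ?_⟩
  rw [← Functor.map_comp_apply, ← op_comp, image.fac]

end Degenerate

variable {L K : SSet.{u}} (f : L ⟶ K) (n : ℕ)
  (h1 : ∀ p, p < n → Function.Bijective (f.app (op ⦋p⦌)))

include h1 in
lemma app_mem_nonDegenerate {m : ℕ} (hm : m < n) (c : L _⦋m⦌) (hc : c ∈ L.nonDegenerate m) :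
    f.app _ c ∈ K.nonDegenerate m := by
  intro hdeg
  obtain ⟨j, hj, g, z, hz⟩ := hdeg
  obtain ⟨w, rfl⟩ := (h1 j (hj.trans hm)).2 z
  apply hc
  refine ⟨j, hj, g, w, ?_⟩
  apply (h1 m hm).1
  rw [← hz]
  exact NatTrans.naturality_apply f g.op w

include h1 in
lemma eq_of_degenerate {m : ℕ} (hm : m ≤ n) (a b : L _⦋m⦌) (ha : a ∈ L.degenerate m)
    (hb : b ∈ L.degenerate m) (hab : f.app _ a = f.app _ b) : a = b := by
  obtain ⟨ma, πa, hπa, ca, rfl⟩ := L.exists_nonDegenerate a
  obtain ⟨mb, πb, hπb, cb, rfl⟩ := L.exists_nonDegenerate b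
  have hma : ma < m := by
    have h : ma ≤ m := le_of_epi πa
    rcases h.lt_or_eq with h | h
    · exact h
    · exfalso
      subst h
      obtain rfl : πa = 𝟙 _ := eq_id_of_epi πa
      simp only [op_id, Functor.map_id_apply] at ha
      exact ca.2 ha
  have hmb : mb < m := by
    have h : mb ≤ m := le_of_epi πb
    rcases h.lt_or_eq with h | h
    · exact h
    · exfalso
      subst h
      obtain rfl : πb = 𝟙 _ := eq_id_of_epi πb
      simp only [op_id, Functor.map_id_apply] at hb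
      exact cb.2 hb
  have ea : f.app _ (L.map πa.op ca) = K.map πa.op (f.app _ ca) :=
    NatTrans.naturality_apply f πa.op ca
  have eb : f.app _ (L.map πb.op cb) = K.map πb.op (f.app _ cb) :=
    NatTrans.naturality_apply f πb.op cb
  have hca := app_mem_nonDegenerate f n h1 (hma.trans_le hm) ca ca.2
  have hcb := app_mem_nonDegenerate f n h1 (hmb.trans_le hm) cb cb.2
  have hdim : ma = mb := K.unique_nonDegenerate_dim (f.app _ (L.map πa.op ca)) πa ⟨_, hca⟩ ea
    πb ⟨_, hcb⟩ (hab.trans eb)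
  subst hdim
  have hs := K.unique_nonDegenerate_simplex _ πa ⟨_, hca⟩ ea πb ⟨_, hcb⟩ (hab.trans eb)
  have hπ := K.unique_nonDegenerate_map _ πa ⟨_, hca⟩ ea πb ⟨_, hcb⟩ (hab.trans eb)
  have hc : ca = cb := by
    apply Subtype.ext
    apply (h1 ma (hma.trans_le hm)).1
    exact congrArg Subtype.val hs
  rw [hπ, hc]

variable (h2 : Function.Surjective (f.app (op ⦋n⦌)))

include h1 h2 in
lemma surj {m : ℕ} (hm : m ≤ n) : Function.Surjective (f.app (op ⦋m⦌)) := by
  rcases hm.lt_or_eq with h | rfl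
  · exact (h1 m h).2
  · exact h2

include h1 h2 in
lemma exists_sec {m : ℕ} (hm : m ≤ n) (x : K _⦋m⦌) :
    ∃ y : L _⦋m⦌, f.app _ y = x ∧
      ((∃ a ∈ L.degenerate m, f.app _ a = x) → y ∈ L.degenerate m) := by
  by_cases h : ∃ a ∈ L.degenerate m, f.app _ a = x
  · obtain ⟨a, ha, hax⟩ := h
    exact ⟨a, hax, fun _ => ha⟩
  · obtain ⟨y, hy⟩ := surj f n h1 h2 hm x
    exact ⟨y, hy, fun h' => absurd h' h⟩

/-- the chosen section in degrees `≤ n` -/
noncomputable def sec {m : ℕ} (hm : m ≤ n) (x : K _⦋m⦌) : L _⦋m⦌ :=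
  (exists_sec f n h1 h2 hm x).choose

lemma f_sec {m : ℕ} (hm : m ≤ n) (x : K _⦋m⦌) : f.app _ (sec f n h1 h2 hm x) = x :=
  (exists_sec f n h1 h2 hm x).choose_spec.1

lemma sec_eq_of_degenerate {m : ℕ} (hm : m ≤ n) (x : K _⦋m⦌) (a : L _⦋m⦌)
    (ha : a ∈ L.degenerate m) (hax : f.app _ a = x) : sec f n h1 h2 hm x = a :=
  eq_of_degenerate f n h1 hm _ _ ((exists_sec f n h1 h2 hm x).choose_spec.2 ⟨a, ha, hax⟩) ha
    ((f_sec f n h1 h2 hm x).trans hax.symm)

lemma sec_f_of_lt {m : ℕ} (hm : m < n) (y : L _⦋m⦌) :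
    sec f n h1 h2 hm.le (f.app _ y) = y :=
  (h1 m hm).1 (f_sec f n h1 h2 hm.le _)

lemma sec_natural {m m' : ℕ} (hm : m ≤ n) (hm' : m' ≤ n) (θ : ⦋m'⦌ ⟶ ⦋m⦌) (x : K _⦋m⦌) :
    L.map θ.op (sec f n h1 h2 hm x) = sec f n h1 h2 hm' (K.map θ.op x) := by
  have key : f.app _ (L.map θ.op (sec f n h1 h2 hm x)) = K.map θ.op x := by
    rw [NatTrans.naturality_apply, f_sec]
  rcases hm'.lt_or_eq with h | h
  · exact (h1 m' h).1 (key.trans (f_sec f n h1 h2 hm' _).symm)
  · by_cases hθ : Mono θ
    · have h3 : m' ≤ m := le_of_mono θ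
      obtain rfl : m = m' := le_antisymm (hm.trans h.ge) h3
      obtain rfl : θ = 𝟙 _ := eq_id_of_mono θ
      simp
    · exact (sec_eq_of_degenerate f n h1 h2 hm' _ _ (map_mem_degenerate L θ hθ _) key).symm

/-- the section on `n`-truncations -/
noncomputable def τ : (Truncated.inclusion n).op ⋙ K ⟶ (Truncated.inclusion n).op ⋙ L where
  app j := TypeCat.ofHom (sec f n h1 h2 (m := j.unop.obj.len) j.unop.property)
  naturality j j' u := by
    ext x
    exact (sec_natural f n h1 h2 j.unop.property j'.unop.property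
      ((Truncated.inclusion n).map u.unop) x).symm

variable (hL : (Functor.RightExtension.mk L
    (𝟙 ((Truncated.inclusion n).op ⋙ L))).IsPointwiseRightKanExtension)

include hL in
lemma exists_section :
    ∃ s : K ⟶ L, ∀ (m : ℕ) (hm : m ≤ n) (x : K _⦋m⦌),
      s.app (op ⦋m⦌) x = sec f n h1 h2 hm x := by
  have : L.IsRightKanExtension (𝟙 ((Truncated.inclusion n).op ⋙ L)) :=
    hL.isRightKanExtension
  refine ⟨L.liftOfIsRightKanExtension (𝟙 ((Truncated.inclusion n).op ⋙ L)) K (τ f n h1 h2), ?_⟩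
  intro m hm x
  have h := L.liftOfIsRightKanExtension_fac (𝟙 ((Truncated.inclusion n).op ⋙ L)) K (τ f n h1 h2)
  rw [Category.comp_id] at h
  have h' := congrArg (fun t => t.app (op (⟨⦋m⦌, hm⟩ : SimplexCategory.Truncated n))) h
  exact congrFun (congrArg (fun t => (ConcreteCategory.hom t : _ → _)) h') x

include hL h1 h2 in
theorem exists_section_homotopy
    (hK : ∀ (a b : K ⟶ K), (∀ m, m ≤ n → a.app (op ⦋m⦌) = b.app (op ⦋m⦌)) → a = b) :
    ∃ s : K ⟶ L, s ≫ f = 𝟙 K ∧ Nonempty (SimplicialObject.Homotopy (𝟙 L) (f ≫ s)) := by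
  obtain ⟨s, hs⟩ := exists_section f n h1 h2 hL
  refine ⟨s, ?_, ?_⟩
  · refine hK _ _ (fun m hm => ?_)
    ext x
    show f.app _ (s.app _ x) = x
    rw [hs m hm, f_sec]
  · have hfg : ∀ p : ℕ, p < n → (𝟙 L : L ⟶ L).app (op ⦋p⦌) = (f ≫ s).app (op ⦋p⦌) := by
      intro p hp
      ext y
      show y = s.app _ (f.app _ y)
      rw [hs p hp.le, sec_f_of_lt f n h1 h2 hp]
    exact ⟨CoskHtpy.htpy (𝟙 _) (𝟙 _) hL (𝟙 L) (f ≫ s) hfg (𝟙 L) (f ≫ s) rfl rfl⟩

include hL h1 h2 in
/-- A special morphism of simplicial sets induces isomorphisms in homology, after any functor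
to a preadditive category with homology. -/
theorem isIso_homologyMap
    (hK : ∀ (a b : K ⟶ K), (∀ m, m ≤ n → a.app (op ⦋m⦌) = b.app (op ⦋m⦌)) → a = b)
    {A : Type u'} [Category.{v'} A] [Preadditive A] [CategoryWithHomology A]
    (F : Type u ⥤ A) (i : ℕ) :
    IsIso (HomologicalComplex.homologyMap
      ((AlgebraicTopology.alternatingFaceMapComplex A).map (Functor.whiskerRight f F)) i) := by
  obtain ⟨s, hs, ⟨H⟩⟩ := exists_section_homotopy f n h1 h2 hL hK
  have e1 := (H.whiskerRight F).map_homology_eq i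
  refine ⟨HomologicalComplex.homologyMap
      ((AlgebraicTopology.alternatingFaceMapComplex A).map (Functor.whiskerRight s F)) i, ?_, ?_⟩
  · rw [← HomologicalComplex.homologyMap_comp, ← Functor.map_comp, ← Functor.whiskerRight_comp]
    have e2 : ((SimplicialObject.whiskering (Type u) A).obj F).map (f ≫ s) =
        Functor.whiskerRight (f ≫ s) F := rfl
    have e3 : ((SimplicialObject.whiskering (Type u) A).obj F).map (𝟙 L) = 𝟙 _ :=
      CategoryTheory.Functor.map_id _ _
    rw [e2, e3] at e1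
    refine e1.symm.trans ?_
    rw [CategoryTheory.Functor.map_id, CategoryTheory.Functor.map_id]
    rfl
  · rw [← HomologicalComplex.homologyMap_comp, ← Functor.map_comp, ← Functor.whiskerRight_comp,
      hs]
    simp

end Groth.Agent.Lib.Helper33.SSetSec
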