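import Mathlib
import Groth.Agent.Lib.Helper33.SSetSec
import Groth.Agent.Lib.Helper33.AcycGen

/-!
# Verdier's acyclicity lemma for special morphisms of simplicial presheaves (helper33)
-/

set_option autoImplicit false
universe u
open CategoryTheory CategoryTheory.Limits Opposite Simplicial SimplexCategory

namespace Groth.Agent.Lib.Helper33.HyperAcyc

variable {C : Type u} [SmallCategory C]
  {L K : SimplicialObject (Cᵒᵖ ⥤ Type u)} (f : L ⟶ K) (n : ℕ)

/-- all `n`-faces of `x` lift to `L` -/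
def Good (Δ : SimplexCategoryᵒᵖ) (U : Cᵒᵖ) (x : (K.obj Δ).obj U) : Prop :=
  ∀ θ : ⦋n⦌ ⟶ Δ.unop, ∃ y : (L.obj (op ⦋n⦌)).obj U,
    (f.app (op ⦋n⦌)).app U y = (K.map θ.op).app U x

variable {f n}

lemma good_res {Δ : SimplexCategoryᵒᵖ} {U V : Cᵒᵖ} (g : U ⟶ V) (x : (K.obj Δ).obj U)
    (hx : Good f n Δ U x) : Good f n Δ V ((K.obj Δ).map g x) := by
  intro θ
  obtain ⟨y, hy⟩ := hx θ
  refine ⟨(L.obj _).map g y, ?_⟩
  rw [NatTrans.naturality_apply, hy, NatTrans.naturality_apply]

lemma good_map {Δ Δ' : SimplexCategoryᵒᵖ} (φ : Δ ⟶ Δ') (U : Cᵒᵖ) (x : (K.obj Δ).obj U)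
    (hx : Good f n Δ U x) : Good f n Δ' U ((K.map φ).app U x) := by
  intro θ
  obtain ⟨y, hy⟩ := hx (θ ≫ φ.unop)
  refine ⟨y, hy.trans ?_⟩
  rw [op_comp, Quiver.Hom.op_unop, K.map_comp]
  rfl

lemma good_app (Δ : SimplexCategoryᵒᵖ) (U : Cᵒᵖ) (y : (L.obj Δ).obj U) :
    Good f n Δ U ((f.app Δ).app U y) := by
  intro θ
  refine ⟨(L.map θ.op).app U y, ?_⟩
  have := congrArg (fun t => t.app U) (f.naturality θ.op)
  exact congrFun (congrArg (fun t => (ConcreteCategory.hom t : _ → _)) this) y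

variable (f n)

/-- the presheaf of good simplices -/
def K'obj (Δ : SimplexCategoryᵒᵖ) : Cᵒᵖ ⥤ Type u where
  obj U := {x : (K.obj Δ).obj U // Good f n Δ U x}
  map {U V} g := TypeCat.ofHom (fun x => ⟨(K.obj Δ).map g x.1, good_res g x.1 x.2⟩)
  map_id U := by
    ext x
    simp
  map_comp g g' := by
    ext x
    simp

/-- the simplicial presheaf of good simplices -/
def K' : SimplicialObject (Cᵒᵖ ⥤ Type u) where
  obj Δ := K'obj f n Δ
  map {Δ Δ'} φ :=
    { app := fun U => TypeCat.ofHom (fun x => ⟨(K.map φ).app U x.1, good_map φ U x.1 x.2⟩)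
      naturality := fun U V g => by
        ext x
        apply Subtype.ext
        exact NatTrans.naturality_apply (K.map φ) g x.1 }
  map_id Δ := by
    ext U x
    apply Subtype.ext
    simp
  map_comp φ φ' := by
    ext U x
    apply Subtype.ext
    simp

/-- the inclusion -/
def ι : K' f n ⟶ K where
  app Δ :=
    { app := fun U => TypeCat.ofHom (fun x => x.1)
      naturality := fun U V g => rfl }
  naturality Δ Δ' φ := rfl

/-- the corestriction -/
def f' : L ⟶ K' f n where
  app Δ :=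
    { app := fun U => TypeCat.ofHom (fun y => ⟨(f.app Δ).app U y, good_app Δ U y⟩)
      naturality := fun U V g => by
        ext y
        apply Subtype.ext
        exact NatTrans.naturality_apply (f.app Δ) g y }
  naturality Δ Δ' φ := by
    ext U y
    apply Subtype.ext
    have := congrArg (fun t => t.app U) (f.naturality φ)
    exact congrFun (congrArg (fun t => (ConcreteCategory.hom t : _ → _)) this) y

lemma f'_ι : f' f n ≫ ι f n = f := rfl

variable (J : GrothendieckTopology C)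

/-- the functor `P ↦ ℤ[P]^#` -/
noncomputable abbrev freeSh : (Cᵒᵖ ⥤ Type u) ⥤ Sheaf J AddCommGrpCat.{u} :=
  (Functor.whiskeringRight Cᵒᵖ (Type u) AddCommGrpCat.{u}).obj AddCommGrpCat.free.{u} ⋙
    presheafToSheaf J AddCommGrpCat.{u}

lemma ι_locSurj (h2 : Presheaf.IsLocallySurjective J (f.app (op ⦋n⦌))) (Δ : SimplexCategoryᵒᵖ) :
    Presheaf.IsLocallySurjective J ((ι f n).app Δ) where
  imageSieve_mem {U} x := by
    refine J.superset_covering ?_ (AcycGen.interSieve_mem J
      (fun θ : ⦋n⦌ ⟶ Δ.unop => Presheaf.imageSieve (f.app (op ⦋n⦌)) ((K.map θ.op).app (op U) x))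
      (fun θ => Presheaf.imageSieve_mem J _ _))
    intro V g hg
    refine ⟨⟨(K.obj Δ).map g.op x, fun θ => ?_⟩, rfl⟩
    obtain ⟨t, ht⟩ := hg θ
    exact ⟨t, ht.trans (NatTrans.naturality_apply (K.map θ.op) g.op x).symm⟩

lemma ι_locInj (Δ : SimplexCategoryᵒᵖ) : Presheaf.IsLocallyInjective J ((ι f n).app Δ) :=
  Presheaf.isLocallyInjective_of_injective J _ (fun _ => Subtype.val_injective)

lemma isIso_freeSh_ι (h2 : Presheaf.IsLocallySurjective J (f.app (op ⦋n⦌)))
    (Δ : SimplexCategoryᵒᵖ) : IsIso ((freeSh J).map ((ι f n).app Δ)) := by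
  have := ι_locSurj f n J h2 Δ
  have := ι_locInj f n J Δ
  have hW : J.W ((ι f n).app Δ) := J.W_of_isLocallyBijective _
  exact J.W_isInvertedBy_whiskeringRight_presheafToSheaf AddCommGrpCat.free.{u} _ hW

section Sep

open Functor in
/-- simplices of an `n`-coskeletal simplicial set are determined by their `n`-skeleton -/
lemma elt_hom_ext {n : ℕ} {X : SSet.{u}}
    (hX : (RightExtension.mk X
      (𝟙 ((Truncated.inclusion n).op ⋙ X))).IsPointwiseRightKanExtension)
    {Δ : SimplexCategory} (x y : X.obj (op Δ))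
    (h : ∀ (m : ℕ) (_ : m ≤ n) (θ : ⦋m⦌ ⟶ Δ), X.map θ.op x = X.map θ.op y) : x = y := by
  have := CoskHtpy.hom_ext (𝟙 ((Truncated.inclusion n).op ⋙ X)) hX (Z := PUnit.{u + 1})
    (TypeCat.ofHom (fun _ => x)) (TypeCat.ofHom (fun _ => y)) (fun Kt θ => by
      ext ⟨⟩
      simp only [CoskHtpy.ρ]
      exact h Kt.obj.len Kt.property θ)
  exact congrFun (congrArg (fun t => (ConcreteCategory.hom t : _ → _)) this) PUnit.unit

end Sep

section Main

open Functor

variable (hL : (RightExtension.mk L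
    (𝟙 ((Truncated.inclusion n).op ⋙ L))).IsPointwiseRightKanExtension)
  (hK : (RightExtension.mk K
    (𝟙 ((Truncated.inclusion n).op ⋙ K))).IsPointwiseRightKanExtension)
  (h1 : ∀ i : ℕ, i < n → IsIso (f.app (op ⦋i⦌)))

/-- evaluation at `U` -/
abbrev ev (U : Cᵒᵖ) : (Cᵒᵖ ⥤ Type u) ⥤ Type u := (evaluation Cᵒᵖ (Type u)).obj U

/-- `f'` evaluated at `U` -/
abbrev f'U (U : Cᵒᵖ) : (L ⋙ ev U : SSet.{u}) ⟶ (K' f n ⋙ ev U : SSet.{u}) :=
  Functor.whiskerRight (f' f n) (ev U)

include h1 in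
lemma f'U_bij (U : Cᵒᵖ) (p : ℕ) (hp : p < n) :
    Function.Bijective ((f'U f n U).app (op ⦋p⦌)) := by
  have := h1 p hp
  have hb : Function.Bijective ((f.app (op ⦋p⦌)).app U) :=
    (isIso_iff_bijective _).1 inferInstance
  constructor
  · intro y y' hy
    exact hb.1 (congrArg Subtype.val hy)
  · intro x
    obtain ⟨y, hy⟩ := hb.2 x.1
    exact ⟨y, Subtype.ext hy⟩

lemma f'U_surj (U : Cᵒᵖ) : Function.Surjective ((f'U f n U).app (op ⦋n⦌)) := by
  intro x
  obtain ⟨y, hy⟩ := x.2 (𝟙 _)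
  refine ⟨y, Subtype.ext (hy.trans ?_)⟩
  simp

include hK in
lemma K'U_sep (U : Cᵒᵖ) (a b : (K' f n ⋙ ev U : SSet.{u}) ⟶ (K' f n ⋙ ev U : SSet.{u}))
    (hab : ∀ m, m ≤ n → a.app (op ⦋m⦌) = b.app (op ⦋m⦌)) : a = b := by
  ext Δ z
  induction Δ using Opposite.rec with | _ Δ
  apply Subtype.ext
  refine elt_hom_ext (X := (K ⋙ ev U : SSet.{u})) (AcycGen.isPointwiseRKEComp n K hK (ev U))
    _ _ (fun m hm θ => ?_)
  have ha := congrArg Subtype.val (NatTrans.naturality_apply a θ.op z)
  have hb := congrArg Subtype.val (NatTrans.naturality_apply b θ.op z)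
  rw [hab m hm] at ha
  exact ha.symm.trans hb

include hL hK h1 in
theorem quasiIso_f'_presheaf :
    QuasiIso ((AlgebraicTopology.alternatingFaceMapComplex (Cᵒᵖ ⥤ AddCommGrpCat.{u})).map
      (Functor.whiskerRight (f' f n)
        ((Functor.whiskeringRight Cᵒᵖ (Type u) AddCommGrpCat.{u}).obj AddCommGrpCat.free.{u}))) := by
  apply AcycGen.quasiIso_of_evaluation
  intro U
  rw [AcycGen.quasiIso_map_AFMC_iff, quasiIso_iff]
  intro i
  rw [quasiIsoAt_iff_isIso_homologyMap]
  exact SSetSec.isIso_homologyMap (f'U f n U) n (f'U_bij f n h1 U) (f'U_surj f n U)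
    (AcycGen.isPointwiseRKEComp n L hL (ev U)) (K'U_sep f n hK U) AddCommGrpCat.free.{u} i

include hL hK h1 in
/-- **Verdier's lemma**: a special morphism of simplicial presheaves induces a quasi-isomorphism
of the sheafified free chain complexes. -/
theorem quasiIso_sheafify (h2 : Presheaf.IsLocallySurjective J (f.app (op ⦋n⦌))) :
    QuasiIso ((AlgebraicTopology.alternatingFaceMapComplex (Sheaf J AddCommGrpCat.{u})).map
      (Functor.whiskerRight f (freeSh J))) := by
  have e : Functor.whiskerRight f (freeSh J) =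
      Functor.whiskerRight (f' f n) (freeSh J) ≫ Functor.whiskerRight (ι f n) (freeSh J) := by
    rw [← Functor.whiskerRight_comp]
    rfl
  rw [e, Functor.map_comp]
  have : IsIso (Functor.whiskerRight (ι f n) (freeSh J)) := by
    have : ∀ Δ, IsIso ((Functor.whiskerRight (ι f n) (freeSh J)).app Δ) :=
      fun Δ => isIso_freeSh_ι f n J h2 Δ
    exact NatIso.isIso_of_isIso_app _
  have q1 : QuasiIso ((AlgebraicTopology.alternatingFaceMapComplex
      (Sheaf J AddCommGrpCat.{u})).map (Functor.whiskerRight (f' f n) (freeSh J))) := by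
    have := quasiIso_f'_presheaf f n hL hK h1
    have e' : Functor.whiskerRight (f' f n) (freeSh J) =
        Functor.whiskerRight (Functor.whiskerRight (f' f n)
          ((Functor.whiskeringRight Cᵒᵖ (Type u) AddCommGrpCat.{u}).obj AddCommGrpCat.free.{u}))
          (presheafToSheaf J AddCommGrpCat.{u}) := rfl
    rw [e', ← AcycGen.quasiIso_map_AFMC_iff]
    infer_instance
  infer_instance

include hL hK h1 in
/-- a special morphism is locally surjective in every degree -/
theorem locSurj_all (h2 : Presheaf.IsLocallySurjective J (f.app (op ⦋n⦌)))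
    (Δ : SimplexCategoryᵒᵖ) : Presheaf.IsLocallySurjective J (f.app Δ) := by
  have e : f.app Δ = (f' f n).app Δ ≫ (ι f n).app Δ := rfl
  rw [e]
  have := ι_locSurj f n J h2 Δ
  have : Presheaf.IsLocallySurjective J ((f' f n).app Δ) := by
    apply Presheaf.isLocallySurjective_of_surjective
    intro U x
    obtain ⟨s, hs, -⟩ := SSetSec.exists_section_homotopy (f'U f n U) n (f'U_bij f n h1 U)
      (f'U_surj f n U) (AcycGen.isPointwiseRKEComp n L hL (ev U)) (K'U_sep f n hK U)
    refine ⟨s.app Δ x, ?_⟩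
    have := congrArg (fun t => t.app Δ) hs
    exact congrFun (congrArg (fun t => (ConcreteCategory.hom t : _ → _)) this) x
  infer_instance

end Main

end Groth.Agent.Lib.Helper33.HyperAcyc
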