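import Mathlib
import Groth.Agent.Lib.Helper5.CechSES
import Groth.Prelude.Def_Hyper
import Groth.Prelude.Def_DeltaF

/-!
# Čech cohomology of presheaves with respect to a simplicial formal coproduct, as a
cohomological δ-functor (helper33)
-/

set_option autoImplicit false
universe u
open CategoryTheory CategoryTheory.Limits Opposite Simplicial

namespace Groth.Agent.Lib.Helper33.HyperCechDelta

variable {C : Type u} [SmallCategory C] (K : SimplicialObject (FormalCoproduct.{u} C))

/-- the Čech complex functor -/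
noncomputable abbrev cxF : (Cᵒᵖ ⥤ AddCommGrpCat.{u}) ⥤ CochainComplex AddCommGrpCat.{u} ℕ :=
  FormalCoproduct.cochainComplexFunctor K

lemma cxF_map_f {P Q : Cᵒᵖ ⥤ AddCommGrpCat.{u}} (φ : P ⟶ Q) (n : ℕ) :
    ((cxF K).map φ).f n =
      Limits.Pi.map (fun i : (K _⦋n⦌).I => φ.app (op ((K _⦋n⦌).obj i))) := rfl

instance cxF_additive : (cxF K).Additive where
  map_add {P Q} {φ ψ} := by
    ext n : 1
    change Limits.Pi.map (fun i : (K _⦋n⦌).I => (φ + ψ).app (op ((K _⦋n⦌).obj i))) =
      Limits.Pi.map (fun i : (K _⦋n⦌).I => φ.app (op ((K _⦋n⦌).obj i))) +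
        Limits.Pi.map (fun i : (K _⦋n⦌).I => ψ.app (op ((K _⦋n⦌).obj i)))
    apply Limits.Pi.hom_ext
    intro x
    rw [Limits.Pi.map_π, Preadditive.add_comp, Limits.Pi.map_π, Limits.Pi.map_π, NatTrans.app_add,
      Preadditive.comp_add]

/-- A short exact sequence of presheaves gives a short exact sequence of Čech complexes. -/
theorem cx_shortExact (S : ShortComplex (Cᵒᵖ ⥤ AddCommGrpCat.{u})) (hS : S.ShortExact) :
    (S.map (cxF K)).ShortExact := by
  apply HomologicalComplex.shortExact_of_degreewise_shortExact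
  intro n
  exact Groth.Agent.Lib.Helper5.shortExact_piMap
    (fun i : (K _⦋n⦌).I => S.f.app (op ((K _⦋n⦌).obj i)))
    (fun i => S.g.app (op ((K _⦋n⦌).obj i)))
    (fun i => (S.map ((evaluation Cᵒᵖ AddCommGrpCat.{u}).obj (op ((K _⦋n⦌).obj i)))).zero)
    (fun i => hS.map_of_exact ((evaluation Cᵒᵖ AddCommGrpCat.{u}).obj (op ((K _⦋n⦌).obj i))))

/-- Čech cohomology of presheaves as a cohomological δ-functor. -/
noncomputable def cechDelta :
    DeltaF.CohDeltaFunctor (Cᵒᵖ ⥤ AddCommGrpCat.{u}) AddCommGrpCat.{u} ℕ where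
  F n := cxF K ⋙ HomologicalComplex.homologyFunctor _ _ n
  additive n := inferInstance
  δ S hS n₀ n₁ h := (cx_shortExact K S hS).δ n₀ n₁ h
  δ_natural {S S'} hS hS' φ n₀ n₁ h :=
    (HomologicalComplex.HomologySequence.δ_naturality ((cxF K).mapShortComplex.map φ)
      (cx_shortExact K S hS) (cx_shortExact K S' hS') n₀ n₁ h).symm
  exact₂ S hS n := (cx_shortExact K S hS).homology_exact₂ n
  comp_δ S hS n₀ n₁ h := (cx_shortExact K S hS).comp_δ n₀ n₁ h
  exact₃ S hS n₀ n₁ h := (cx_shortExact K S hS).homology_exact₃ n₀ n₁ h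
  δ_comp S hS n₀ n₁ h := (cx_shortExact K S hS).δ_comp n₀ n₁ h
  exact₁ S hS n₀ n₁ h := (cx_shortExact K S hS).homology_exact₁ n₀ n₁ h

/-- `Ȟ⁰` is left exact on presheaves. -/
instance cechH0_preservesFiniteLimits : PreservesFiniteLimits ((cechDelta K).F 0) := by
  refine ((Functor.preservesFiniteLimits_tfae ((cechDelta K).F 0)).out 0 3).1 ?_
  intro S hS
  have hT := cx_shortExact K S hS
  haveI := hT.mono_f
  refine ⟨hT.homology_exact₂ 0, ?_⟩
  exact HomologicalComplex.mono_homologyMap_of_mono_of_not_rel (S.map (cxF K)).f 0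
    (by simp)

end Groth.Agent.Lib.Helper33.HyperCechDelta
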