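import Mathlib
import Groth.Agent.Lib.Helper15.HyperH0
import Groth.Agent.Lib.Helper33.HyperCechDelta

/-!
# `Ȟ⁰(K, -)` on sheaves is naturally the functor of global sections (helper33)
-/

set_option autoImplicit false
universe u
open CategoryTheory CategoryTheory.Limits Opposite Simplicial

namespace Groth.Agent.Lib.Helper33.HyperH0Nat

open Groth.Agent.Lib.Helper15.HyperH0 Groth.Agent.Lib.Helper33.HyperCechDelta

variable {C : Type u} [SmallCategory C] {J : GrothendieckTopology C}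
  {K : SimplicialObject (FormalCoproduct.{u} C)}

section Kernel

variable {P : Cᵒᵖ ⥤ AddCommGrpCat.{u}}

lemma iota_d (c : Cone P) : iota c (K _⦋0⦌) ≫ (Cx P K).d 0 1 = 0 := by
  have hzero' : iota c (K _⦋0⦌) ≫ d01 P K = 0 := by
    rw [d01, Preadditive.comp_sub, iota_map, iota_map, sub_self]
  rw [d_zero_one]
  exact hzero'

/-- copied from the proof of `Helper15.HyperH0.h0_iso` -/
theorem iota_mono (hP : Presheaf.IsSheaf J P) (h0 : Cov0 K J)
    (c : Cone P) (hc : IsLimit c) : Mono (iota c (K _⦋0⦌)) := by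
  rw [AddCommGrpCat.mono_iff_injective]
  intro y y' hyy
  apply Concrete.isLimit_ext _ hc
  intro ⟨Y⟩
  obtain ⟨S, hS, H⟩ := h0 Y
  apply sep hP S hS
  intro Y' g hg
  obtain ⟨m⟩ := H g hg
  have e1 : P.map g.op (c.π.app (op Y) y) = c.π.app (op Y') y := by
    have := c.w g.op
    rw [← this]; rfl
  have e2 : P.map g.op (c.π.app (op Y) y') = c.π.app (op Y') y' := by
    have := c.w g.op
    rw [← this]; rfl
  rw [e1, e2, ← iota_ev_apply c m, ← iota_ev_apply c m, hyy]

/-- copied from the proof of `Helper15.HyperH0.h0_iso` -/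
theorem iota_exact (hP : Presheaf.IsSheaf J P) (h0 : Cov0 K J) (h1 : Cov1 K J)
    (c : Cone P) (hc : IsLimit c) : (ShortComplex.mk _ _ (iota_d (K := K) c)).Exact := by
  classical
  rw [ShortComplex.ab_exact_iff]
  intro s hs0
  have hs : (E P).map (K.δ 0).op s = (E P).map (K.δ 1).op s := by
    have : ((Cx P K).d 0 1) s = 0 := hs0
    rw [d_zero_one] at this
    exact sub_eq_zero.1 ((d01_apply P K s).symm.trans this)
  have hσ := fun {Y : C} (a b : (FormalCoproduct.incl C).obj Y ⟶ K _⦋0⦌) =>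
    sigma_eq hP h1 s hs a b
  have key : ∀ Y : C, ∃ t : P.obj (op Y), ∀ ⦃Y' : C⦄ (g : Y' ⟶ Y)
      (m : (FormalCoproduct.incl C).obj Y' ⟶ K _⦋0⦌), P.map g.op t = ev P m s := by
    intro Y
    obtain ⟨S, hS, H⟩ := h0 Y
    obtain ⟨t, ht⟩ := glue hP S hS (fun Y' g hg => ev P (H g hg).some s) (by
      intro Y' Y'' g h hg
      rw [ev_res_apply]
      exact hσ _ _)
    refine ⟨t, fun Y' g m => ?_⟩
    apply sep hP (S.pullback g) (J.pullback_stable g hS)
    intro Y'' h hh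
    have h1' : P.map h.op (P.map g.op t) = P.map (h ≫ g).op t := by
      rw [op_comp, P.map_comp]; rfl
    rw [h1', ht (h ≫ g) hh, ev_res_apply]
    exact hσ _ _
  choose t ht using key
  have hnat : ∀ ⦃Y Z : C⦄ (f : Z ⟶ Y), P.map f.op (t Y) = t Z := by
    intro Y Z f
    obtain ⟨S, hS, H⟩ := h0 Z
    apply sep hP S hS
    intro Z' g hg
    obtain ⟨m⟩ := H g hg
    have h1' : P.map g.op (P.map f.op (t Y)) = P.map (g ≫ f).op (t Y) := by
      rw [op_comp, P.map_comp]; rfl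
    rw [h1', ht Y (g ≫ f) m, ht Z g m]
  let sec : (P ⋙ forget AddCommGrpCat.{u}).sections :=
    ⟨fun Y => t Y.unop, fun {Y Z} f => hnat f.unop⟩
  let y : c.pt := (Types.isLimitEquivSections
    (isLimitOfPreserves (forget AddCommGrpCat.{u}) hc)).symm sec
  have hy : ∀ Y : C, c.π.app (op Y) y = t Y := fun Y =>
    Types.isLimitEquivSections_symm_apply
      (isLimitOfPreserves (forget AddCommGrpCat.{u}) hc) sec (op Y)
  refine ⟨y, ?_⟩
  apply E_ext
  intro i
  have e1 := iota_ev_apply c (FormalCoproduct.Hom.fromIncl i (𝟙 ((K _⦋0⦌).obj i))) y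
  have e2 := ht ((K _⦋0⦌).obj i) (𝟙 _) (FormalCoproduct.Hom.fromIncl i (𝟙 ((K _⦋0⦌).obj i)))
  have e3 : P.map (𝟙 ((K _⦋0⦌).obj i)).op (t ((K _⦋0⦌).obj i)) = t ((K _⦋0⦌).obj i) := by
    rw [op_id, P.map_id]; rfl
  have e4 : ev P (FormalCoproduct.Hom.fromIncl i (𝟙 ((K _⦋0⦌).obj i))) (iota c (K _⦋0⦌) y) =
      ev P (FormalCoproduct.Hom.fromIncl i (𝟙 ((K _⦋0⦌).obj i))) s := by
    rw [e1, hy, ← e3, e2]
  rw [ev_fromIncl_id] at e4
  exact e4

end Kernel

section Tau

variable (K)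

/-- the natural map `lim P ⟶ Ȟ⁰(K, P)` -/
noncomputable def tauApp (P : Cᵒᵖ ⥤ AddCommGrpCat.{u}) : limit P ⟶ (Cx P K).homology 0 :=
  (Cx P K).liftCycles (iota (limit.cone P) (K _⦋0⦌)) 1 (by simp) (iota_d _) ≫
    (Cx P K).homologyπ 0

lemma iota_naturality {P Q : Cᵒᵖ ⥤ AddCommGrpCat.{u}} (φ : P ⟶ Q) :
    iota (limit.cone P) (K _⦋0⦌) ≫ ((cxF K).map φ).f 0 =
      limMap φ ≫ iota (limit.cone Q) (K _⦋0⦌) := by
  rw [cxF_map_f]
  apply Limits.Pi.hom_ext
  intro i
  show ((Pi.lift fun i => limit.π P (op ((K _⦋0⦌).obj i))) ≫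
      Limits.Pi.map fun i => φ.app (op ((K _⦋0⦌).obj i))) ≫
      Pi.π (fun i => Q.obj (op ((K _⦋0⦌).obj i))) i =
    (limMap φ ≫ Pi.lift fun i => limit.π Q (op ((K _⦋0⦌).obj i))) ≫
      Pi.π (fun i => Q.obj (op ((K _⦋0⦌).obj i))) i
  rw [Category.assoc, Limits.Pi.map_π, Limits.Pi.lift_π_assoc, Category.assoc, Limits.Pi.lift_π,
    limMap_π]

lemma tauApp_naturality {P Q : Cᵒᵖ ⥤ AddCommGrpCat.{u}} (φ : P ⟶ Q) :
    tauApp K P ≫ HomologicalComplex.homologyMap ((cxF K).map φ) 0 =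
      limMap φ ≫ tauApp K Q := by
  have key : (Cx P K).liftCycles (iota (limit.cone P) (K _⦋0⦌)) 1 (by simp) (iota_d _) ≫
      HomologicalComplex.cyclesMap ((cxF K).map φ) 0 =
      limMap φ ≫ (Cx Q K).liftCycles (iota (limit.cone Q) (K _⦋0⦌)) 1 (by simp) (iota_d _) := by
    rw [← cancel_mono ((Cx Q K).iCycles 0), Category.assoc, Category.assoc,
      HomologicalComplex.cyclesMap_i, HomologicalComplex.liftCycles_i_assoc,
      HomologicalComplex.liftCycles_i]
    exact iota_naturality K φ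
  unfold tauApp
  rw [Category.assoc, HomologicalComplex.homologyπ_naturality, reassoc_of% key]

/-- the natural transformation `lim ⟶ Ȟ⁰(K, -)` -/
noncomputable def tau : (lim : (Cᵒᵖ ⥤ AddCommGrpCat.{u}) ⥤ AddCommGrpCat.{u}) ⟶ (cechDelta K).F 0 where
  app P := tauApp K P
  naturality P Q φ := (tauApp_naturality K φ).symm

variable {K}

theorem isIso_tauApp {P : Cᵒᵖ ⥤ AddCommGrpCat.{u}} (hP : Presheaf.IsSheaf J P)
    (h0 : Cov0 K J) (h1 : Cov1 K J) : IsIso (tauApp K P) := by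
  have hm := iota_mono hP h0 (limit.cone P) (limit.isLimit P)
  have hex := iota_exact hP h0 h1 (limit.cone P) (limit.isLimit P)
  have : Mono (ShortComplex.mk _ _ (iota_d (K := K) (limit.cone P))).f := hm
  have hker := hex.fIsKernel
  let e := IsLimit.conePointUniqueUpToIso hker ((Cx P K).cyclesIsKernel 0 1 (by simp))
  have he : e.hom = (Cx P K).liftCycles (iota (limit.cone P) (K _⦋0⦌)) 1 (by simp) (iota_d _) := by
    rw [← cancel_mono ((Cx P K).iCycles 0), HomologicalComplex.liftCycles_i]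
    exact IsLimit.conePointUniqueUpToIso_hom_comp hker _ WalkingParallelPair.zero
  have : IsIso ((Cx P K).liftCycles (iota (limit.cone P) (K _⦋0⦌)) 1 (by simp) (iota_d _)) := by
    rw [← he]
    infer_instance
  have : IsIso ((Cx P K).homologyπ 0) :=
    inferInstanceAs (IsIso (CochainComplex.isoHomologyπ₀ (Cx P K)).hom)
  unfold tauApp
  infer_instance

end Tau

section Sheaf

variable (J K)

/-- `Γ ≅ Ȟ⁰(K, -)` on sheaves -/
noncomputable def sectionsIso (h0 : Cov0 K J) (h1 : Cov1 K J) :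
    sheafToPresheaf J AddCommGrpCat.{u} ⋙ lim ≅
      sheafToPresheaf J AddCommGrpCat.{u} ⋙ (cechDelta K).F 0 := by
  have : ∀ G : Sheaf J AddCommGrpCat.{u},
      IsIso ((Functor.whiskerLeft (sheafToPresheaf J AddCommGrpCat.{u}) (tau K)).app G) :=
    fun G => isIso_tauApp G.property h0 h1
  have := NatIso.isIso_of_isIso_app
    (Functor.whiskerLeft (sheafToPresheaf J AddCommGrpCat.{u}) (tau K))
  exact asIso (Functor.whiskerLeft (sheafToPresheaf J AddCommGrpCat.{u}) (tau K))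

/-- the adjunction constant sheaf ⊣ global sections -/
noncomputable def adjC :
    constantSheaf J AddCommGrpCat.{u} ⊣ sheafToPresheaf J AddCommGrpCat.{u} ⋙ lim :=
  constLimAdj.comp (sheafificationAdjunction J AddCommGrpCat.{u})

/-- `Hom(ℤ, -) ≅ Γ` -/
noncomputable def homIso :
    preadditiveCoyoneda.obj (op ((constantSheaf J AddCommGrpCat.{u}).obj
      (AddCommGrpCat.of (ULift.{u} ℤ)))) ≅ sheafToPresheaf J AddCommGrpCat.{u} ⋙ lim :=
  NatIso.ofComponents (fun G => (((adjC J).homAddEquiv _ G).trans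
    (AddCommGrpCat.uliftZMultiplesAddEquiv _)).toAddCommGrpIso) (by
    intro G G' f
    ext (φ : (constantSheaf J AddCommGrpCat.{u}).obj (AddCommGrpCat.of (ULift.{u} ℤ)) ⟶ G)
    show (limit G'.obj).uliftZMultiplesAddEquiv ((adjC J).homEquiv _ G' (φ ≫ f)) =
      (limMap f.hom) ((limit G.obj).uliftZMultiplesAddEquiv ((adjC J).homEquiv _ G φ))
    rw [Adjunction.homEquiv_naturality_right]
    rfl)

end Sheaf

end Groth.Agent.Lib.Helper33.HyperH0Nat
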