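import Mathlib.CategoryTheory.Subobject.Limits
import Mathlib.CategoryTheory.Subobject.Lattice
import Mathlib.CategoryTheory.Abelian.Basic
import Mathlib.CategoryTheory.Abelian.Refinements

/-!
# Generalized elements of subobjects in abelian categories

A morphism `x : T ⟶ Y` is a "generalized element" of a subobject `S` of `Y` when `S.Factors x`.
We record how membership in an image can be tested up to refinements (precomposition with an
epimorphism).
-/

set_option autoImplicit false
universe v u

open CategoryTheory CategoryTheory.Limits

namespace Groth.Agent.Lib.Helper33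

variable {A : Type u} [Category.{v} A] [Abelian A]

/-- If `π ≫ x` factors through a subobject and `π` is an epimorphism, then so does `x`. -/
theorem factors_of_epi_comp {T T' Y : A} (S : Subobject Y) (π : T' ⟶ T) [Epi π] (x : T ⟶ Y)
    (h : S.Factors (π ≫ x)) : S.Factors x := by
  have hπ : StrongEpi π := strongEpi_of_epi π
  have sq : CommSq (S.factorThru (π ≫ x) h) π S.arrow x := ⟨by simp⟩
  exact (Subobject.factors_iff S x).2 ⟨sq.lift, sq.fac_right⟩

/-- Membership in the image of `h`, tested up to refinements. -/
theorem imageSubobject_factors_iff {X Y T : A} (h : X ⟶ Y) (x : T ⟶ Y) :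
    (imageSubobject h).Factors x ↔
      ∃ (T' : A) (π : T' ⟶ T) (_ : Epi π) (y : T' ⟶ X), π ≫ x = y ≫ h := by
  constructor
  · intro hx
    obtain ⟨T', π, hπ, y, hy⟩ := surjective_up_to_refinements_of_epi
      (factorThruImageSubobject h) ((imageSubobject h).factorThru x hx)
    refine ⟨T', π, hπ, y, ?_⟩
    have := congrArg (fun t => t ≫ (imageSubobject h).arrow) hy
    simpa using this
  · rintro ⟨T', π, hπ, y, hy⟩
    apply factors_of_epi_comp _ π
    rw [hy]
    exact imageSubobject_factors_comp_self h y

omit [Abelian A] in
/-- A subobject is smaller than another one as soon as its arrow factors through the other. -/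
theorem subobject_le_iff_factors {Y : A} (S S' : Subobject Y) :
    S ≤ S' ↔ S'.Factors S.arrow :=
  ⟨fun h => Subobject.factors_of_le _ h (Subobject.factors_self S), Subobject.le_of_factors⟩

omit [Abelian A] in
/-- Order on subobjects, tested on generalized elements. -/
theorem le_iff_forall_factors {Y : A} (S S' : Subobject Y) :
    S ≤ S' ↔ ∀ (T : A) (x : T ⟶ Y), S.Factors x → S'.Factors x :=
  ⟨fun h _ x hx => Subobject.factors_of_le x h hx,
    fun h => Subobject.le_of_factors (h _ S.arrow (Subobject.factors_self S))⟩

omit [Abelian A] in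
theorem mk_factors_iff' {X Y T : A} (m : X ⟶ Y) [Mono m] (x : T ⟶ Y) :
    (Subobject.mk m).Factors x ↔ ∃ g : T ⟶ X, g ≫ m = x := by
  rw [Subobject.mk_factors_iff]
  rfl

/-- Generalized elements of a preimage. -/
theorem pullback_factors_iff {X Y T : A} (f : X ⟶ Y) (S : Subobject Y) (x : T ⟶ X) :
    ((Subobject.pullback f).obj S).Factors x ↔ S.Factors (x ≫ f) := by
  rw [Subobject.pullback_obj, mk_factors_iff']
  constructor
  · rintro ⟨g, rfl⟩
    rw [Category.assoc, ← pullback.condition, ← Category.assoc]
    exact Subobject.factors_comp_arrow _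
  · intro h
    exact ⟨pullback.lift (S.factorThru _ h) x (by simp), pullback.lift_snd _ _ _⟩

/-- Generalized elements of a sum of two subobjects, up to refinements. -/
theorem sup_factors_iff {Y T : A} (S S' : Subobject Y) (x : T ⟶ Y) :
    (S ⊔ S').Factors x ↔ ∃ (T' : A) (π : T' ⟶ T) (_ : Epi π) (a b : T' ⟶ Y),
      S.Factors a ∧ S'.Factors b ∧ π ≫ x = a + b := by
  constructor
  · intro hx
    have hle : S ⊔ S' ≤ imageSubobject (biprod.desc S.arrow S'.arrow) := by
      apply sup_le
      · apply Subobject.le_of_factors
        have := imageSubobject_factors_comp_self (biprod.desc S.arrow S'.arrow) biprod.inl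
        simpa using this
      · apply Subobject.le_of_factors
        have := imageSubobject_factors_comp_self (biprod.desc S.arrow S'.arrow) biprod.inr
        simpa using this
    obtain ⟨T', π, hπ, y, hy⟩ := (imageSubobject_factors_iff _ x).1
      (Subobject.factors_of_le x hle hx)
    refine ⟨T', π, hπ, (y ≫ biprod.fst) ≫ S.arrow, (y ≫ biprod.snd) ≫ S'.arrow,
      Subobject.factors_comp_arrow _, Subobject.factors_comp_arrow _, ?_⟩
    rw [hy]
    have : biprod.desc S.arrow S'.arrow = biprod.fst ≫ S.arrow + biprod.snd ≫ S'.arrow := by
      ext <;> simp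
    rw [this, Preadditive.comp_add, Category.assoc, Category.assoc]
  · rintro ⟨T', π, hπ, a, b, ha, hb, h⟩
    apply factors_of_epi_comp _ π
    rw [h]
    exact Subobject.factors_add _ _ (Subobject.sup_factors_of_factors_left ha)
      (Subobject.sup_factors_of_factors_right hb)

end Groth.Agent.Lib.Helper33
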