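import Groth.Prelude.Def_SpSeq
import Groth.Agent.Lib.Helper33.SubobjectElem
import Mathlib.CategoryTheory.Abelian.Refinements
import Mathlib.Algebra.Homology.ExactSequence

/-!
# Subquotients `Z / B` of an object of an abelian category, via generalized elements

For subobjects `B ≤ Z` of `X`, `SpSeq.subquot Z B h` is the cokernel of `B ↪ Z`.  We give the class
`cls x` of a generalized element `x : T ⟶ X` of `Z`, the maps between subquotients induced by a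
morphism `φ : X ⟶ Y`, and criteria (in terms of generalized elements up to refinements) for these
maps to be mono, epi, or to form an exact sequence.

Also: consequences of the five-term criterion for a weak Serre class.
-/

set_option autoImplicit false
open CategoryTheory CategoryTheory.Limits
universe v u

namespace Groth.Agent.Lib.Helper33

open SpSeq

variable {A : Type u} [Category.{v} A] [Abelian A]

section Cls

variable {X : A} (Z B : Subobject X) (h : B ≤ Z)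

/-- The projection `Z ⟶ Z / B`. -/
noncomputable def sqπ : (Z : A) ⟶ subquot Z B h := cokernel.π (B.ofLE Z h)

instance : Epi (sqπ Z B h) := inferInstanceAs (Epi (cokernel.π (B.ofLE Z h)))

lemma sqπ_condition : B.ofLE Z h ≫ sqπ Z B h = 0 := cokernel.condition (B.ofLE Z h)

/-- Morphisms out of `Z / B`. -/
noncomputable def sqDesc {W : A} (g : (Z : A) ⟶ W) (hg : B.ofLE Z h ≫ g = 0) :
    subquot Z B h ⟶ W := cokernel.desc (B.ofLE Z h) g hg

lemma sqπ_desc {W : A} (g : (Z : A) ⟶ W) (hg : B.ofLE Z h ≫ g = 0) :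
    sqπ Z B h ≫ sqDesc Z B h g hg = g := cokernel.π_desc (B.ofLE Z h) g hg

lemma sq_lift {T : A} (g : T ⟶ (Z : A)) (hg : g ≫ sqπ Z B h = 0) :
    ∃ l : T ⟶ (B : A), l ≫ B.ofLE Z h = g :=
  ⟨Abelian.monoLift (B.ofLE Z h) g hg, Abelian.monoLift_comp _ _ _⟩

omit [Abelian A] in
lemma factors_neg' {T : A} [Preadditive A] (S : Subobject X) (x : T ⟶ X) (hx : S.Factors x) :
    S.Factors (-x) :=
  (Subobject.factors_iff _ _).mpr ⟨-S.factorThru x hx, by simp⟩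

omit [Abelian A] in
lemma factors_sub' {T : A} [Preadditive A] (S : Subobject X) (x y : T ⟶ X) (hx : S.Factors x)
    (hy : S.Factors y) : S.Factors (x - y) :=
  (Subobject.factors_iff _ _).mpr ⟨S.factorThru x hx - S.factorThru y hy, by simp⟩

/-- The class in `Z / B` of a generalized element of `Z`. -/
noncomputable def cls {T : A} (x : T ⟶ X) (hx : Z.Factors x) : T ⟶ subquot Z B h :=
  Z.factorThru x hx ≫ sqπ Z B h

lemma cls_def {T : A} (x : T ⟶ X) (hx : Z.Factors x) :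
    cls Z B h x hx = Z.factorThru x hx ≫ sqπ Z B h := rfl

lemma cls_eq_zero_iff {T : A} (x : T ⟶ X) (hx : Z.Factors x) :
    cls Z B h x hx = 0 ↔ B.Factors x := by
  constructor
  · intro h0
    obtain ⟨l, hl⟩ := sq_lift Z B h (Z.factorThru x hx) h0
    rw [Subobject.factors_iff]
    refine ⟨l, ?_⟩
    have := congrArg (fun t => t ≫ Z.arrow) hl
    simpa using this
  · intro hB
    have e : Z.factorThru x hx = B.factorThru x hB ≫ B.ofLE Z h := by
      rw [← cancel_mono Z.arrow]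
      simp
    unfold cls
    rw [e, Category.assoc, sqπ_condition, comp_zero]

lemma comp_cls {T T' : A} (a : T' ⟶ T) (x : T ⟶ X) (hx : Z.Factors x) :
    a ≫ cls Z B h x hx = cls Z B h (a ≫ x) (Subobject.factors_of_factors_right a hx) := by
  unfold cls
  rw [← Category.assoc]
  congr 1
  rw [← cancel_mono Z.arrow]
  simp

lemma cls_congr {T : A} (x y : T ⟶ X) (hx : Z.Factors x) (e : x = y) :
    cls Z B h x hx = cls Z B h y (e ▸ hx) := by
  subst e; rfl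

lemma cls_sub {T : A} (x y : T ⟶ X) (hx : Z.Factors x) (hy : Z.Factors y) :
    cls Z B h (x - y) (factors_sub' Z x y hx hy) = cls Z B h x hx - cls Z B h y hy := by
  unfold cls
  rw [← Preadditive.sub_comp]
  congr 1
  rw [← cancel_mono Z.arrow]
  simp

lemma cls_eq_cls_iff {T : A} (x y : T ⟶ X) (hx : Z.Factors x) (hy : Z.Factors y) :
    cls Z B h x hx = cls Z B h y hy ↔ B.Factors (x - y) := by
  rw [← sub_eq_zero, ← cls_sub, cls_eq_zero_iff]

lemma sqπ_eq_cls : sqπ Z B h = cls Z B h Z.arrow (Subobject.factors_self Z) := by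
  unfold cls
  have : Z.factorThru Z.arrow (Subobject.factors_self Z) = 𝟙 _ := by
    rw [← cancel_mono Z.arrow]; simp
  rw [this, Category.id_comp]

lemma exists_cls {T : A} (q : T ⟶ subquot Z B h) :
    ∃ (T' : A) (π : T' ⟶ T) (_ : Epi π) (x : T' ⟶ X) (hx : Z.Factors x),
      π ≫ q = cls Z B h x hx := by
  obtain ⟨T', π, hπ, z, hz⟩ := surjective_up_to_refinements_of_epi (sqπ Z B h) q
  refine ⟨T', π, hπ, z ≫ Z.arrow, Subobject.factors_comp_arrow z, ?_⟩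
  rw [hz]
  unfold cls
  congr 1
  rw [← cancel_mono Z.arrow]
  simp

end Cls

section Map

variable {X Y : A} (φ : X ⟶ Y) (Z B : Subobject X) (h : B ≤ Z) (Z' B' : Subobject Y) (h' : B' ≤ Z')
  (hZ : ∀ (T : A) (x : T ⟶ X), Z.Factors x → Z'.Factors (x ≫ φ))
  (hB : ∀ (T : A) (x : T ⟶ X), B.Factors x → B'.Factors (x ≫ φ))

/-- The map `Z / B ⟶ Z' / B'` induced by `φ : X ⟶ Y` with `φ(Z) ≤ Z'` and `φ(B) ≤ B'`. -/
noncomputable def sqMap : subquot Z B h ⟶ subquot Z' B' h' :=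
  sqDesc Z B h
    (cls Z' B' h' (Z.arrow ≫ φ) (hZ _ _ (Subobject.factors_self Z))) (by
      rw [comp_cls, cls_eq_zero_iff, ← Category.assoc, Subobject.ofLE_arrow]
      exact hB _ _ (Subobject.factors_self B))

lemma cls_sqMap {T : A} (x : T ⟶ X) (hx : Z.Factors x) :
    cls Z B h x hx ≫ sqMap φ Z B h Z' B' h' hZ hB = cls Z' B' h' (x ≫ φ) (hZ _ _ hx) := by
  unfold sqMap
  rw [cls_def Z B h x hx, Category.assoc, sqπ_desc, comp_cls]
  apply cls_congr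
  rw [← Category.assoc, Subobject.factorThru_arrow]

include hZ hB in
lemma sqMap_mono
    (hm : ∀ (T : A) (x : T ⟶ X), Z.Factors x → B'.Factors (x ≫ φ) → B.Factors x) :
    Mono (sqMap φ Z B h Z' B' h' hZ hB) := by
  apply Preadditive.mono_of_cancel_zero
  intro T q hq
  obtain ⟨T', π, hπ, x, hx, e⟩ := exists_cls Z B h q
  rw [← cancel_epi π, comp_zero, e, cls_eq_zero_iff]
  apply hm _ _ hx
  rw [← cls_eq_zero_iff Z' B' h' _ (hZ _ _ hx), ← cls_sqMap φ Z B h Z' B' h' hZ hB x hx, ← e,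
    Category.assoc, hq, comp_zero]

include hZ hB in
lemma sqMap_epi
    (he : ∀ (T : A) (y : T ⟶ Y), Z'.Factors y → ∃ (T' : A) (π : T' ⟶ T) (_ : Epi π)
      (x : T' ⟶ X), Z.Factors x ∧ B'.Factors (π ≫ y - x ≫ φ)) :
    Epi (sqMap φ Z B h Z' B' h' hZ hB) := by
  rw [epi_iff_surjective_up_to_refinements]
  intro T q
  obtain ⟨T₁, π₁, hπ₁, y, hy, e⟩ := exists_cls Z' B' h' q
  obtain ⟨T₂, π₂, hπ₂, x, hx, hxy⟩ := he _ y hy
  refine ⟨T₂, π₂ ≫ π₁, inferInstance, cls Z B h x hx, ?_⟩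
  rw [Category.assoc, e, comp_cls, cls_sqMap, cls_eq_cls_iff]
  exact hxy

end Map

section Exact

variable {X₁ X₂ X₃ : A} (φ : X₁ ⟶ X₂) (ψ : X₂ ⟶ X₃)
  (Z₁ B₁ : Subobject X₁) (h₁ : B₁ ≤ Z₁) (Z₂ B₂ : Subobject X₂) (h₂ : B₂ ≤ Z₂)
  (Z₃ B₃ : Subobject X₃) (h₃ : B₃ ≤ Z₃)
  (hZφ : ∀ (T : A) (x : T ⟶ X₁), Z₁.Factors x → Z₂.Factors (x ≫ φ))
  (hBφ : ∀ (T : A) (x : T ⟶ X₁), B₁.Factors x → B₂.Factors (x ≫ φ))
  (hZψ : ∀ (T : A) (x : T ⟶ X₂), Z₂.Factors x → Z₃.Factors (x ≫ ψ))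
  (hBψ : ∀ (T : A) (x : T ⟶ X₂), B₂.Factors x → B₃.Factors (x ≫ ψ))

include hZφ hBφ hZψ hBψ in
lemma sqMap_comp_eq_zero
    (hw : ∀ (T : A) (x : T ⟶ X₁), Z₁.Factors x → B₃.Factors ((x ≫ φ) ≫ ψ)) :
    sqMap φ Z₁ B₁ h₁ Z₂ B₂ h₂ hZφ hBφ ≫ sqMap ψ Z₂ B₂ h₂ Z₃ B₃ h₃ hZψ hBψ = 0 := by
  rw [← cancel_epi (sqπ Z₁ B₁ h₁), comp_zero, sqπ_eq_cls, ← Category.assoc, cls_sqMap, cls_sqMap,
    cls_eq_zero_iff]
  exact hw _ _ (Subobject.factors_self Z₁)

include hZφ hBφ hZψ hBψ in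
lemma sqMap_exact
    (hw : ∀ (T : A) (x : T ⟶ X₁), Z₁.Factors x → B₃.Factors ((x ≫ φ) ≫ ψ))
    (hex : ∀ (T : A) (x : T ⟶ X₂), Z₂.Factors x → B₃.Factors (x ≫ ψ) →
      ∃ (T' : A) (π : T' ⟶ T) (_ : Epi π) (y : T' ⟶ X₁), Z₁.Factors y ∧
        B₂.Factors (π ≫ x - y ≫ φ)) :
    (ShortComplex.mk (sqMap φ Z₁ B₁ h₁ Z₂ B₂ h₂ hZφ hBφ) (sqMap ψ Z₂ B₂ h₂ Z₃ B₃ h₃ hZψ hBψ)
      (sqMap_comp_eq_zero φ ψ Z₁ B₁ h₁ Z₂ B₂ h₂ Z₃ B₃ h₃ hZφ hBφ hZψ hBψ hw)).Exact := by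
  rw [ShortComplex.exact_iff_exact_up_to_refinements]
  intro T q hq
  dsimp at q hq ⊢
  obtain ⟨T₁, π₁, hπ₁, x, hx, e⟩ := exists_cls Z₂ B₂ h₂ q
  have hx3 : B₃.Factors (x ≫ ψ) := by
    rw [← cls_eq_zero_iff Z₃ B₃ h₃ _ (hZψ _ _ hx), ← cls_sqMap ψ Z₂ B₂ h₂ Z₃ B₃ h₃ hZψ hBψ x hx,
      ← e, Category.assoc, hq, comp_zero]
  obtain ⟨T₂, π₂, hπ₂, y, hy, hxy⟩ := hex _ x hx hx3
  refine ⟨T₂, π₂ ≫ π₁, inferInstance, cls Z₁ B₁ h₁ y hy, ?_⟩
  rw [Category.assoc, e, comp_cls, cls_sqMap, cls_eq_cls_iff]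
  exact hxy

end Exact

section MapId

variable {X : A} (Z B : Subobject X) (h : B ≤ Z) (Z' B' : Subobject X) (h' : B' ≤ Z')
  (hZ : Z ≤ Z') (hB : B ≤ B')

omit [Abelian A] in
lemma factors_comp_id_of_le {S S' : Subobject X} (hS : S ≤ S') (T : A) (x : T ⟶ X)
    (hx : S.Factors x) : S'.Factors (x ≫ 𝟙 X) := by
  rw [Category.comp_id]
  exact Subobject.factors_of_le _ hS hx

/-- The map `Z / B ⟶ Z' / B'` induced by the identity, for `Z ≤ Z'` and `B ≤ B'`. -/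
noncomputable abbrev sqMapId : subquot Z B h ⟶ subquot Z' B' h' :=
  sqMap (𝟙 X) Z B h Z' B' h' (factors_comp_id_of_le hZ) (factors_comp_id_of_le hB)

lemma sqMapId_mono (hm : Z ⊓ B' ≤ B) : Mono (sqMapId Z B h Z' B' h' hZ hB) := by
  apply sqMap_mono
  intro T x hx hx'
  rw [Category.comp_id] at hx'
  exact Subobject.factors_of_le _ hm ((Subobject.inf_factors _).2 ⟨hx, hx'⟩)

lemma sqMapId_epi (he : Z' ≤ Z ⊔ B') : Epi (sqMapId Z B h Z' B' h' hZ hB) := by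
  apply sqMap_epi
  intro T y hy
  obtain ⟨T', π, hπ, a, b, ha, hb, hab⟩ := (sup_factors_iff _ _ _).1
    (Subobject.factors_of_le _ he hy)
  refine ⟨T', π, hπ, a, ha, ?_⟩
  rw [Category.comp_id, hab, add_sub_cancel_left]
  exact hb

lemma sqMapId_isIso (hm : Z ⊓ B' ≤ B) (he : Z' ≤ Z ⊔ B') :
    IsIso (sqMapId Z B h Z' B' h' hZ hB) := by
  have := sqMapId_mono Z B h Z' B' h' hZ hB hm
  have := sqMapId_epi Z B h Z' B' h' hZ hB he
  exact isIso_of_mono_of_epi _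

end MapId

section ThirdIso

variable {X : A} (B Z' Z : Subobject X) (h₁ : B ≤ Z') (h₂ : Z' ≤ Z)

/-- For `B ≤ Z' ≤ Z`, the sequence `0 ⟶ Z' / B ⟶ Z / B ⟶ Z / Z' ⟶ 0` is exact. -/
lemma sq_third_iso :
    ∃ (f : subquot Z' B h₁ ⟶ subquot Z B (h₁.trans h₂)) (g : subquot Z B (h₁.trans h₂) ⟶
      subquot Z Z' h₂) (_ : Mono f) (_ : Epi g) (w : f ≫ g = 0), (ShortComplex.mk f g w).Exact := by
  refine ⟨sqMapId Z' B h₁ Z B (h₁.trans h₂) h₂ le_rfl,
    sqMapId Z B (h₁.trans h₂) Z Z' h₂ le_rfl h₁,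
    sqMapId_mono _ _ _ _ _ _ _ _ inf_le_right,
    sqMapId_epi _ _ _ _ _ _ _ _ le_sup_left, ?_, ?_⟩
  · apply sqMap_comp_eq_zero
    intro T x hx
    rw [Category.comp_id, Category.comp_id]
    exact hx
  · apply sqMap_exact
    · intro T x hx
      rw [Category.comp_id, Category.comp_id]
      exact hx
    · intro T x hx hx'
      rw [Category.comp_id] at hx'
      refine ⟨T, 𝟙 T, inferInstance, x, hx', ?_⟩
      rw [Category.id_comp, Category.comp_id, sub_self]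
      exact Subobject.factors_zero

end ThirdIso

section Iso

variable {X : A}

/-- Subquotients by equal subobjects are isomorphic. -/
noncomputable def subquotCongr {Z Z' B B' : Subobject X} (h : B ≤ Z) (h' : B' ≤ Z') (hZ : Z = Z')
    (hB : B = B') : subquot Z B h ≅ subquot Z' B' h' := by
  subst hZ hB
  exact Iso.refl _

end Iso

section WeakSerre

open ComposableArrows

variable (P : ObjectProperty A) [P.IsClosedUnderIsomorphisms]
  (h0 : ∃ Z : A, IsZero Z ∧ P Z)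
  (hP : ∀ S : ComposableArrows A 4, S.Exact → P (S.obj 0) → P (S.obj 1) → P (S.obj 3) →
    P (S.obj 4) → P (S.obj 2))

omit [Abelian A] in
include h0 in
lemma weakSerre_of_isZero {X : A} (hX : IsZero X) : P X := by
  obtain ⟨Z, hZ, hPZ⟩ := h0
  exact P.prop_of_iso (hZ.iso hX) hPZ

omit [P.IsClosedUnderIsomorphisms] in
include h0 hP in
/-- A weak Serre class is closed under kernels. -/
lemma weakSerre_of_mono_exact {W E E' : A} (i : W ⟶ E) [Mono i] (d : E ⟶ E') (w : i ≫ d = 0)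
    (hex : (ShortComplex.mk i d w).Exact) (hE : P E) (hE' : P E') : P W := by
  obtain ⟨Z, hZ, hPZ⟩ := h0
  have e₂ : (ShortComplex.mk (0 : Z ⟶ W) i zero_comp).Exact :=
    (ShortComplex.exact_iff_mono _ rfl).2 inferInstance
  have e₁ : (ShortComplex.mk (0 : Z ⟶ Z) (0 : Z ⟶ W) zero_comp).Exact :=
    (ShortComplex.exact_iff_mono _ rfl).2 ⟨fun _ _ _ => hZ.eq_of_tgt _ _⟩
  let S : ComposableArrows A 4 := mk₄ (0 : Z ⟶ Z) (0 : Z ⟶ W) i d
  have hS : S.Exact :=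
    exact_of_δ₀ e₁.exact_toComposableArrows
      (exact_of_δ₀ e₂.exact_toComposableArrows hex.exact_toComposableArrows)
  exact hP S hS hPZ hPZ hE hE'

omit [P.IsClosedUnderIsomorphisms] in
include h0 hP in
/-- A weak Serre class is closed under cokernels. -/
lemma weakSerre_of_exact_epi {E E' V : A} (d : E ⟶ E') (π : E' ⟶ V) [Epi π] (w : d ≫ π = 0)
    (hex : (ShortComplex.mk d π w).Exact) (hE : P E) (hE' : P E') : P V := by
  obtain ⟨Z, hZ, hPZ⟩ := h0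
  have e₂ : (ShortComplex.mk π (0 : V ⟶ Z) comp_zero).Exact :=
    (ShortComplex.exact_iff_epi _ rfl).2 inferInstance
  have e₃ : (ShortComplex.mk (0 : V ⟶ Z) (0 : Z ⟶ Z) comp_zero).Exact :=
    (ShortComplex.exact_iff_epi _ rfl).2 ⟨fun _ _ _ => hZ.eq_of_src _ _⟩
  let S : ComposableArrows A 4 := mk₄ d π (0 : V ⟶ Z) (0 : Z ⟶ Z)
  have hS : S.Exact :=
    exact_of_δ₀ hex.exact_toComposableArrows
      (exact_of_δ₀ e₂.exact_toComposableArrows e₃.exact_toComposableArrows)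
  exact hP S hS hE hE' hPZ hPZ

omit [P.IsClosedUnderIsomorphisms] in
include h0 hP in
/-- A weak Serre class is closed under extensions. -/
lemma weakSerre_of_ext {X₁ X₂ X₃ : A} (f : X₁ ⟶ X₂) (g : X₂ ⟶ X₃) [Mono f] [Epi g] (w : f ≫ g = 0)
    (hex : (ShortComplex.mk f g w).Exact) (h₁ : P X₁) (h₃ : P X₃) : P X₂ := by
  obtain ⟨Z, hZ, hPZ⟩ := h0
  have e₁ : (ShortComplex.mk (0 : Z ⟶ X₁) f zero_comp).Exact :=
    (ShortComplex.exact_iff_mono _ rfl).2 inferInstance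
  have e₃ : (ShortComplex.mk g (0 : X₃ ⟶ Z) comp_zero).Exact :=
    (ShortComplex.exact_iff_epi _ rfl).2 inferInstance
  let S : ComposableArrows A 4 := mk₄ (0 : Z ⟶ X₁) f g (0 : X₃ ⟶ Z)
  have hS : S.Exact :=
    exact_of_δ₀ e₁.exact_toComposableArrows
      (exact_of_δ₀ hex.exact_toComposableArrows e₃.exact_toComposableArrows)
  exact hP S hS hPZ h₁ h₃ hPZ

end WeakSerre

end Groth.Agent.Lib.Helper33
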