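import Mathlib
import Groth.Agent.Lib.Helper33.DeltaSSNat
import Groth.Agent.Lib.Helper33.HyperH0Nat
import Groth.Agent.Lib.Helper33.ExtRightDerived
import Groth.Agent.Lib.Helper5.SiteCoh
import Groth.Agent.Lib.Lead.AbutmentTransport
import Groth.Agent.Lib.Helper15.HyperYon
import Groth.Agent.S0940

/-!
# The spectral sequence of a hypercovering (helper33)
-/

set_option autoImplicit false
universe u
open CategoryTheory CategoryTheory.Limits Opposite Simplicial
open scoped ZeroObject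

namespace Groth.Agent.Lib.Helper33.HyperSS

open Groth.Agent.Lib.Helper33.HyperCechDelta Groth.Agent.Lib.Helper33.HyperH0Nat
  Groth.Agent.Lib.Lead

variable {C : Type u} [SmallCategory C]
  [HasEqualizers C] [HasPullbacks C] [HasBinaryProducts C]
  (J : GrothendieckTopology C) (K : SimplicialObject (FormalCoproduct.{u} C))
  [∀ (n : ℕ) (F : (SimplexCategory.Truncated n)ᵒᵖ ⥤ Limits.FormalCoproduct.{u} C),
    (SimplexCategory.Truncated.inclusion n).op.HasRightKanExtension F]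

theorem hyper_ss (hK : Hyper.IsHypercoveringSite J K) (F : Sheaf J AddCommGrpCat.{u}) :
    ∃ (E : E₂CohomologicalSpectralSequence AddCommGrpCat.{u})
      (a : SpSeq.Abutment E (fun n : ℤ => if 0 ≤ n then AddCommGrpCat.of (Sheaf.H F n.toNat)
        else AddCommGrpCat.of PUnit.{u + 1})),
      (∀ n, a.IsFinite n) ∧ SpSeq.IsBounded E ∧
      ∀ p q : ℤ, Nonempty ((E.page 2 le_rfl).X (p, q) ≅
        (if 0 ≤ p ∧ 0 ≤ q then
          (Hyper.cechCxSite K (Sheaf.cohomologyPresheaf F q.toNat)).homology p.toNat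
         else AddCommGrpCat.of PUnit.{u + 1})) := by
  let T := cechDelta K
  let Fg := sheafToPresheaf J AddCommGrpCat.{u}
  let I := injectiveResolution F
  let Kc : CochainComplex (Cᵒᵖ ⥤ AddCommGrpCat.{u}) ℕ :=
    (Fg.mapHomologicalComplex _).obj I.cocomplex
  have h0 := Groth.Agent.Lib.Helper15.HyperYon.cov0_of_locSurj J K hK.1
  have h1 := Groth.Agent.Lib.Helper15.HyperYon.cov1_of_locSurj J K hK.2.1
  have hac : ∀ (q k : ℕ), 0 < k → IsZero ((T.F k).obj (Kc.X q)) := by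
    intro q k hk
    obtain ⟨k, rfl⟩ : ∃ k', k = k' + 1 := ⟨k - 1, by omega⟩
    have : Injective (I.cocomplex.X q) := I.injective q
    exact (Groth.Agent.S0940.result J K hK (I.cocomplex.X q)).1 k
  -- the abutment
  have eH : ∀ n, Nonempty ((((T.F 0).mapHomologicalComplex (ComplexShape.up ℕ)).obj Kc).homology n ≅
      AddCommGrpCat.of (Sheaf.H F n)) := by
    intro n
    let φ : ((T.F 0).mapHomologicalComplex (ComplexShape.up ℕ)).obj Kc ≅
        ((Fg ⋙ T.F 0).mapHomologicalComplex _).obj I.cocomplex :=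
      HomologicalComplex.Hom.isoOfComponents (fun i => Iso.refl _) (by
        intro i j _
        exact (Category.id_comp _).trans (Category.comp_id _).symm)
    let e : Fg ⋙ T.F 0 ≅ ExtRD.homF ((constantSheaf J AddCommGrpCat.{u}).obj
        (AddCommGrpCat.of (ULift.{u} ℤ))) :=
      (sectionsIso J K h0 h1).symm ≪≫ (homIso J).symm
    obtain ⟨e'⟩ := ExtRD.ext_iso_rightDerived_of_iso _ (Fg ⋙ T.F 0) e F n
    exact ⟨(HomologicalComplex.homologyFunctor _ _ n).mapIso φ ≪≫
      (I.isoRightDerivedObj (Fg ⋙ T.F 0) n).symm ≪≫ e'⟩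
  -- the `E₂`-terms
  have eE : ∀ p q, Nonempty ((T.F p).obj (Kc.homology q) ≅
      (Hyper.cechCxSite K (Sheaf.cohomologyPresheaf F q)).homology p) := by
    intro p q
    obtain ⟨e⟩ := Groth.Agent.Lib.Helper5.SiteCoh.rightDerived_sheafToPresheaf_iso (J := J) q F
    exact ⟨(T.F p).mapIso ((I.isoRightDerivedObj Fg q).symm ≪≫ e)⟩
  obtain ⟨E, a, hfin, hbd, hE2⟩ := DeltaSS.nat_ss T Kc hac _ eH _ eE
  have hz : IsZero (AddCommGrpCat.of PUnit.{u + 1}) := by
    refine (IsZero.iff_id_eq_zero _).2 ?_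
    ext x
  let z : (0 : AddCommGrpCat.{u}) ≅ AddCommGrpCat.of PUnit.{u + 1} := (isZero_zero _).iso hz
  let ψ : ∀ n : ℤ, (if 0 ≤ n then AddCommGrpCat.of (Sheaf.H F n.toNat) else 0) ≅
      (if 0 ≤ n then AddCommGrpCat.of (Sheaf.H F n.toNat) else AddCommGrpCat.of PUnit.{u + 1}) :=
    fun n => ifIso (0 ≤ n) (Iso.refl _) z
  refine ⟨E, abutmentTransport a ψ, fun n => abutmentTransport_isFinite a ψ n (hfin n), hbd, ?_⟩
  intro p q
  obtain ⟨e⟩ := hE2 p q
  exact ⟨e ≪≫ ifIso (0 ≤ p ∧ 0 ≤ q) (Iso.refl _) z⟩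

end Groth.Agent.Lib.Helper33.HyperSS
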