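import Groth.Agent.Lib.Helper33.SectSuppExact
import Groth.Agent.Lib.Helper33.ExtDelta
import Groth.Prelude.Def_RDer

/-!
# Natural isomorphisms of derived functors for cohomology with supports on spaces (helper33)
-/

set_option autoImplicit false

universe u

open CategoryTheory CategoryTheory.Limits TopologicalSpace Opposite

namespace Groth.Agent.Lib.Helper33.LocCohSS

open LocCohZ Groth.Agent.Lib.Helper96 Groth.Agent.S19245

variable {X : TopCat.{u}}

lemma ofSect_comp (V : Opens X) {F G : CohTop.Ab X} (f : F ⟶ G) (s : (TowerLim.Γ V).obj F) :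
    CohFree.ofSect (Opens.grothendieckTopology X) V G ((TowerLim.Γ V).map f s) =
      CohFree.ofSect (Opens.grothendieckTopology X) V F s ≫ f := by
  apply evalGen_injective
  rw [evalGen_comp, CohFree.evalGen_ofSect, CohFree.evalGen_ofSect]

/-- sections over `V` are `Hom(ℤ_V, -)` -/
noncomputable def sectionsCoyonedaIso (V : Opens X) :
    (TowerLim.Γ V : CohTop.Ab X ⥤ AddCommGrpCat.{u}) ≅
      preadditiveCoyoneda.obj (op (CohCx.freeSheaf (Opens.grothendieckTopology X) V)) :=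
  natIsoCoyonedaOfAddEquiv _ _
    (fun F => (CohFree.homEquivSect (Opens.grothendieckTopology X) V F).symm)
    (fun f s => ofSect_comp V f s)

/-- `Γ_Z(X, -) ≅ Hom(ℤ_X/ℤ_U, -)` -/
noncomputable def gammaZFCoyonedaIso (U : Opens X) :
    gammaZF U ≅ preadditiveCoyoneda.obj (op (zq (le_top : U ≤ ⊤))) :=
  Functor.isoWhiskerLeft (sectSuppF U) (sectionsCoyonedaIso (⊤ : Opens X)) ≪≫
    sectSuppCoyonedaIso U

/-- `R^q Γ_Z(X, -) ≅ Ext^q(ℤ_X/ℤ_U, -)` as functors -/
theorem nonempty_RHZ_iso (U : Opens X) (q : ℕ) :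
    Nonempty (LocCohZ.RHZ U q ≅ ToposFin.HZFunctor (LocCohZ.openSh U) q) := by
  obtain ⟨e⟩ := ExtDelta.nonempty_rightDerived_coyoneda_iso (ToposFin.quotZ (LocCohZ.openSh U)) q
  have e₁ : gammaZF U ≅ preadditiveCoyoneda.obj (op (ToposFin.quotZ (LocCohZ.openSh U))) :=
    gammaZFCoyonedaIso U ≪≫ preadditiveCoyoneda.mapIso (zqIsoQuotZ U).symm.op
  exact ⟨RDer.rightDerivedIso e₁ q ≪≫ e⟩

end Groth.Agent.Lib.Helper33.LocCohSS
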