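import Groth.Agent.Lib.Helper33.LocCohSS
import Mathlib.Algebra.Homology.ShortComplex.ExactFunctor

/-!
# `Γ_Z` (sections with supports, as a functor of abelian sheaves on a space) is left exact;
vanishing of `ℋ^i_Z` on flasque sheaves (helper33)
-/

set_option autoImplicit false

universe u

open CategoryTheory CategoryTheory.Limits TopologicalSpace Opposite

namespace Groth.Agent.Lib.Helper33.LocCohSS

open LocCohZ Groth.Agent.Lib.Helper96 Groth.Agent.S19245

variable {X : TopCat.{u}}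

/-- a section is killed by the unit `F ⟶ j_* j⁻¹ F` iff its restriction to `V ⊓ U` vanishes -/
lemma eta_apply_eq_zero_iff (F : CohTop.Ab X) (U V : Opens X) (s : (TowerLim.Γ V).obj F) :
    (TowerLim.Γ V).map (eta F U) s = 0 ↔
      TowerLim.res F (inf_le_left : V ⊓ U ≤ V) s = 0 := by
  constructor
  · intro h
    apply eq_zero_of_eta_eq_zero F U (inf_le_right : V ⊓ U ≤ U)
    rw [← TowerLim.res_naturality, h, map_zero]
  · intro h
    apply res_push_injective U _ V
    rw [TowerLim.res_naturality, h, map_zero, map_zero]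

lemma hom_eq_zero_of_sections {T G : CohTop.Ab X} (φ : T ⟶ G)
    (h : ∀ (V : Opens X) (t : (TowerLim.Γ V).obj T), (TowerLim.Γ V).map φ t = 0) : φ = 0 := by
  apply Sheaf.hom_ext
  apply NatTrans.ext
  funext V
  apply AddCommGrpCat.hom_ext
  ext t
  exact h V.unop t

lemma comp_eta_eq_zero_of_comp_mono (U : Opens X) {T A B : CohTop.Ab X} (f : A ⟶ B) [Mono f]
    (l : T ⟶ A) (h : (l ≫ f) ≫ eta B U = 0) : l ≫ eta A U = 0 := by
  apply hom_eq_zero_of_sections
  intro V t
  change (TowerLim.Γ V).map (eta A U) ((TowerLim.Γ V).map l t) = 0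
  rw [eta_apply_eq_zero_iff]
  apply Γ_map_injective_of_mono f
  rw [← TowerLim.res_naturality, map_zero, ← eta_apply_eq_zero_iff]
  exact ConcreteCategory.congr_hom (congrArg (fun ψ => (TowerLim.Γ V).map ψ) h) t

/-- `Γ_Z` is left exact -/
instance preservesFiniteLimits_sectSuppF (U : Opens X) : PreservesFiniteLimits (sectSuppF U) := by
  rw [Functor.preservesFiniteLimits_iff_forall_exact_map_and_mono]
  intro S hS
  have := hS.mono_f
  have hmono : Mono ((sectSuppF U).map S.f) := by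
    have : Mono ((sectSuppF U).map S.f ≫ ιZ U S.X₂) := by
      rw [sectSuppF_map_ι]
      infer_instance
    exact mono_of_mono _ (ιZ U S.X₂)
  refine ⟨?_, hmono⟩
  have : Mono (S.map (sectSuppF U)).f := hmono
  have key : ∀ {T : CohTop.Ab X} (k : T ⟶ (sectSuppF U).obj S.X₂)
      (_ : k ≫ (sectSuppF U).map S.g = 0),
      { l : T ⟶ (sectSuppF U).obj S.X₁ // l ≫ (sectSuppF U).map S.f = k } := by
    intro T k hk
    have hk' : (k ≫ ιZ U S.X₂) ≫ S.g = 0 := by
      rw [Category.assoc, ← sectSuppF_map_ι, ← Category.assoc, hk, zero_comp]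
    let l : T ⟶ S.X₁ := hS.exact.lift (k ≫ ιZ U S.X₂) hk'
    have hl : l ≫ S.f = k ≫ ιZ U S.X₂ := hS.exact.lift_f _ _
    have hl0 : l ≫ eta S.X₁ U = 0 := by
      apply comp_eta_eq_zero_of_comp_mono U S.f
      rw [hl, Category.assoc, ιZ_eta, comp_zero]
    refine ⟨liftZ U S.X₁ l hl0, ?_⟩
    apply (cancel_mono (ιZ U S.X₂)).1
    rw [Category.assoc, sectSuppF_map_ι, ← Category.assoc, liftZ_ι, hl]
  exact ShortComplex.exact_of_f_is_kernel _ (KernelFork.IsLimit.ofι' _ _ (fun k hk => key k hk))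

/-- sections of `Γ_Z F` are the sections of `F` whose restriction to `V ⊓ U` vanishes -/
lemma exists_sectSupp_section (U : Opens X) (F : CohTop.Ab X) (V : Opens X)
    (s : (TowerLim.Γ V).obj F) (hs : TowerLim.res F (inf_le_left : V ⊓ U ≤ V) s = 0) :
    ∃ κ : (TowerLim.Γ V).obj ((sectSuppF U).obj F), (TowerLim.Γ V).map (ιZ U F) κ = s :=
  TowerLim.exists_kernel_section (eta F U) V s ((eta_apply_eq_zero_iff F U V s).2 hs)

lemma res_ιZ_eq_zero (U : Opens X) (F : CohTop.Ab X) (V : Opens X)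
    (κ : (TowerLim.Γ V).obj ((sectSuppF U).obj F)) :
    TowerLim.res F (inf_le_left : V ⊓ U ≤ V) ((TowerLim.Γ V).map (ιZ U F) κ) = 0 := by
  rw [← eta_apply_eq_zero_iff]
  exact ConcreteCategory.congr_hom (congrArg (fun ψ => (TowerLim.Γ V).map ψ) (ιZ_eta U F)) κ

/-- for a short exact sequence with flasque kernel, `Γ_Z` of the epimorphism is surjective on
sections, in particular an epimorphism -/
theorem epi_sectSuppF_map_g (U : Opens X) {S : ShortComplex (CohTop.Ab X)} (hS : S.ShortExact)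
    [TopCat.Sheaf.IsFlasque S.X₁] : Epi ((sectSuppF U).map S.g) := by
  have := hS.mono_f
  apply TowerLim.epi_of_surjective_sections
  intro V κ
  -- the section `s` of `S.X₃`
  set s := (TowerLim.Γ V).map (ιZ U S.X₃) κ with hs
  have hs0 : TowerLim.res S.X₃ (inf_le_left : V ⊓ U ≤ V) s = 0 := res_ιZ_eq_zero U S.X₃ V κ
  -- lift to a section `t` of `S.X₂`
  obtain ⟨t, ht⟩ : ∃ t : (TowerLim.Γ V).obj S.X₂, (TowerLim.Γ V).map S.g t = s :=
    (AddCommGrpCat.epi_iff_surjective _).mp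
      (TopCat.Sheaf.IsFlasque.epi_of_shortExact (U := V) hS) s
  -- its restriction to `V ⊓ U` comes from `S.X₁`
  have ht0 : (TowerLim.Γ (V ⊓ U)).map S.g
      (TowerLim.res S.X₂ (inf_le_left : V ⊓ U ≤ V) t) = 0 := by
    rw [← TowerLim.res_naturality, ht, hs0]
  obtain ⟨a, ha⟩ := TopCat.Sheaf.sections_exact_of_left_exact (U := V ⊓ U) hS.exact hS.mono_f
    (TowerLim.res S.X₂ (inf_le_left : V ⊓ U ≤ V) t) ht0
  -- extend `a` to `V`
  obtain ⟨a', ha'⟩ : ∃ a' : (TowerLim.Γ V).obj S.X₁,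
      TowerLim.res S.X₁ (inf_le_left : V ⊓ U ≤ V) a' = a :=
    (AddCommGrpCat.epi_iff_surjective _).mp
      (TopCat.Presheaf.IsFlasque.epi (F := S.X₁.obj) (homOfLE (inf_le_left : V ⊓ U ≤ V)).op) a
  let t' : (TowerLim.Γ V).obj S.X₂ := t - (TowerLim.Γ V).map S.f a'
  have ht' : (TowerLim.Γ V).map S.g t' = s := by
    have hfg : (TowerLim.Γ V).map S.g ((TowerLim.Γ V).map S.f a') = 0 := by
      exact ConcreteCategory.congr_hom (congrArg (fun ψ => (TowerLim.Γ V).map ψ) S.zero) a'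
    change (TowerLim.Γ V).map S.g (t - (TowerLim.Γ V).map S.f a') = s
    rw [map_sub, hfg, sub_zero, ht]
  have ht'0 : TowerLim.res S.X₂ (inf_le_left : V ⊓ U ≤ V) t' = 0 := by
    change TowerLim.res S.X₂ _ (t - (TowerLim.Γ V).map S.f a') = 0
    rw [map_sub, TowerLim.res_naturality, ha', sub_eq_zero]
    exact ha.symm
  obtain ⟨κ', hκ'⟩ := exists_sectSupp_section U S.X₂ V t' ht'0
  refine ⟨κ', ?_⟩
  apply Γ_map_injective_of_mono (ιZ U S.X₃) V
  have h1 : (TowerLim.Γ V).map (ιZ U S.X₃) ((TowerLim.Γ V).map ((sectSuppF U).map S.g) κ') =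
      (TowerLim.Γ V).map S.g ((TowerLim.Γ V).map (ιZ U S.X₂) κ') := by
    exact ConcreteCategory.congr_hom
      (congrArg (fun ψ => (TowerLim.Γ V).map ψ) (sectSuppF_map_ι U S.g)) κ'
  rw [h1, hκ', ht']

open Groth.Agent.Lib.Helper5 ExtRD in
/-- `ℋ^i_Z(F) = 0` for `i > 0` and `F` flasque -/
theorem isZero_HZsh_of_isFlasque (U : Opens X) (i : ℕ) (hi : 0 < i) :
    ∀ (F : CohTop.Ab X) [TopCat.Sheaf.IsFlasque F], IsZero ((LocCohZ.HZsh U i).obj F) := by
  obtain ⟨n, rfl⟩ : ∃ n, i = n + 1 := ⟨i - 1, by omega⟩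
  induction n with
  | zero =>
    intro F hF
    have hI : Injective (sesInj F).X₂ := inferInstanceAs (Injective (Injective.under F))
    have hF' : TopCat.Sheaf.IsFlasque (sesInj F).X₁ := hF
    exact isZero_rightDerived_one_X₁ (sectSuppF U) (sesInj_shortExact F)
      (epi_sectSuppF_map_g U (sesInj_shortExact F))
  | succ n ih =>
    intro F hF
    have hI : Injective (sesInj F).X₂ := inferInstanceAs (Injective (Injective.under F))
    have hF' : TopCat.Sheaf.IsFlasque (sesInj F).X₁ := hF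
    have hI' : TopCat.Sheaf.IsFlasque (sesInj F).X₂ :=
      Groth.Agent.S0454.result (Injective.under F)
    have hQ : TopCat.Sheaf.IsFlasque (sesInj F).X₃ :=
      TopCat.Sheaf.IsFlasque.of_shortExact_of_isFlasque₁₂ (sesInj_shortExact F)
    exact isZero_rightDerived_succ_succ_X₁ (sectSuppF U) (sesInj_shortExact F) n
      (ih (by omega) (sesInj F).X₃)

end Groth.Agent.Lib.Helper33.LocCohSS
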