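import Groth.Agent.Lib.Helper33.LocCohSS
import Groth.Agent.Lib.Helper33.SectSuppExact
import Groth.Agent.Lib.Helper33.CompositeLow

/-!
# Local cohomology sheaves and cohomology with supports over all opens (helper33)

`Hom(ℤ_V, Γ_Z F) ≃ Hom(ℤ_V/ℤ_{V ∩ U}, F)` naturally in `F`, and the low-degree consequences of the
composite functor theorem for `Γ_Z` followed by `Γ(V, -)`.
-/

set_option autoImplicit false

universe u

open CategoryTheory CategoryTheory.Limits TopologicalSpace Opposite Abelian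

namespace Groth.Agent.Lib.Helper33.LocCohSS

open LocCohZ Groth.Agent.Lib.Helper96 Groth.Agent.S19245

variable {X : TopCat.{u}}

/-- a morphism `ℤ_V ⟶ F` is killed by the unit `F ⟶ j_* j⁻¹ F` iff it vanishes on `ℤ_{V ∩ U}` -/
lemma comp_eta_eq_zero_iff' (U V : Opens X) (F : CohTop.Ab X)
    (χ : CohCx.freeSheaf (Opens.grothendieckTopology X) V ⟶ F) :
    χ ≫ eta F U = 0 ↔
      CohCx.freeSheafMap (Opens.grothendieckTopology X)
        (homOfLE (inf_le_left : V ⊓ U ≤ V)) ≫ χ = 0 := by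
  set s := CohFree.evalGen (Opens.grothendieckTopology X) V F χ with hs
  have h1 : CohFree.evalGen (Opens.grothendieckTopology X) V _ (χ ≫ eta F U) =
      (TowerLim.Γ V).map (eta F U) s := evalGen_comp V χ (eta F U)
  have h2 : CohFree.evalGen (Opens.grothendieckTopology X) (V ⊓ U) F
      (CohCx.freeSheafMap (Opens.grothendieckTopology X)
        (homOfLE (inf_le_left : V ⊓ U ≤ V)) ≫ χ) =
      TowerLim.res F (inf_le_left : V ⊓ U ≤ V) s :=
    CohFree.evalGen_freeSheafMap_comp _ _ _ _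
  constructor
  · intro h
    apply eq_zero_of_evalGen_eq_zero
    rw [h2]
    apply eq_zero_of_eta_eq_zero F U (inf_le_right : V ⊓ U ≤ U)
    rw [← TowerLim.res_naturality, ← h1, h, map_zero, map_zero]
  · intro h
    apply eq_zero_of_evalGen_eq_zero
    rw [h1]
    apply res_push_injective U _ V
    rw [TowerLim.res_naturality, map_zero, ← h2, h, map_zero, map_zero]

variable (U V : Opens X)

/-- `Hom(ℤ_V, Γ_Z F) ≃ Hom(ℤ_V/ℤ_{V ∩ U}, F)` -/
noncomputable def homSectSuppEquiv' (F : CohTop.Ab X) :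
    (CohCx.freeSheaf (Opens.grothendieckTopology X) V ⟶ (sectSuppF U).obj F) ≃+
      (zq (inf_le_left : V ⊓ U ≤ V) ⟶ F) where
  toFun φ := cokernel.desc _ (φ ≫ ιZ U F)
    ((comp_eta_eq_zero_iff' U V F _).1 (by rw [Category.assoc, ιZ_eta, comp_zero]))
  invFun ψ := liftZ U F (cokernel.π _ ≫ ψ)
    ((comp_eta_eq_zero_iff' U V F _).2 (by rw [cokernel.condition_assoc, zero_comp]))
  left_inv φ := by
    apply (cancel_mono (ιZ U F)).1
    rw [liftZ_ι, cokernel.π_desc]
  right_inv ψ := by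
    apply (cancel_epi (cokernel.π _)).1
    rw [cokernel.π_desc, liftZ_ι]
  map_add' φ φ' := by
    apply (cancel_epi (cokernel.π _)).1
    rw [cokernel.π_desc, Preadditive.comp_add, cokernel.π_desc, cokernel.π_desc,
      Preadditive.add_comp]

lemma π_homSectSuppEquiv' (F : CohTop.Ab X)
    (φ : CohCx.freeSheaf (Opens.grothendieckTopology X) V ⟶ (sectSuppF U).obj F) :
    cokernel.π _ ≫ homSectSuppEquiv' U V F φ = φ ≫ ιZ U F :=
  cokernel.π_desc _ _ _

lemma homSectSuppEquiv'_naturality {F G : CohTop.Ab X} (f : F ⟶ G)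
    (φ : CohCx.freeSheaf (Opens.grothendieckTopology X) V ⟶ (sectSuppF U).obj F) :
    homSectSuppEquiv' U V G (φ ≫ (sectSuppF U).map f) = homSectSuppEquiv' U V F φ ≫ f := by
  apply (cancel_epi (cokernel.π _)).1
  rw [π_homSectSuppEquiv', ← Category.assoc, π_homSectSuppEquiv', Category.assoc, sectSuppF_map_ι,
    Category.assoc]

/-- `Hom(ℤ_V, Γ_Z -) ≅ Hom(ℤ_V/ℤ_{V ∩ U}, -)` -/
noncomputable def sectSuppCoyonedaIso' :
    sectSuppF U ⋙ preadditiveCoyoneda.obj
        (op (CohCx.freeSheaf (Opens.grothendieckTopology X) V)) ≅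
      preadditiveCoyoneda.obj (op (zq (inf_le_left : V ⊓ U ≤ V))) :=
  natIsoCoyonedaOfAddEquiv _ _ (fun F => homSectSuppEquiv' U V F)
    (fun f φ => homSectSuppEquiv'_naturality U V f φ)

/-- a sheaf without nonzero morphisms from the `ℤ_V` is zero -/
lemma isZero_of_subsingleton_hom (G : CohTop.Ab X)
    (h : ∀ V : Opens X, Subsingleton (CohCx.freeSheaf (Opens.grothendieckTopology X) V ⟶ G)) :
    IsZero G := by
  rw [IsZero.iff_id_eq_zero]
  apply hom_eq_zero_of_sections
  intro V t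
  have := h V
  have h0 : t = 0 := by
    apply (CohFree.homEquivSect (Opens.grothendieckTopology X) V G).symm.injective
    exact Subsingleton.elim _ _
  rw [h0, map_zero]

open CompositeLow in
/-- `Γ_Z` sends injective sheaves to `Hom(ℤ_V, -)`-acyclic sheaves -/
lemma acyc_sectSuppF (I : CohTop.Ab X) (hI : Injective I) :
    Acyc (preadditiveCoyoneda.obj
      (op (CohCx.freeSheaf (Opens.grothendieckTopology X) V))) ((sectSuppF U).obj I) := by
  intro k
  obtain ⟨e⟩ := ExtRD.ext_iso_rightDerived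
    (CohCx.freeSheaf (Opens.grothendieckTopology X) V) ((sectSuppF U).obj I) (k + 1)
  have : Subsingleton (Ext.{u} (CohCx.freeSheaf (Opens.grothendieckTopology X) V)
      ((sectSuppF U).obj I) (k + 1)) := subsingleton_HU_sectSuppF_of_injective U I k V
  exact IsZero.of_iso (AddCommGrpCat.isZero_of_subsingleton _) e

open CompositeLow in
lemma acyc_of_isZero (G : CohTop.Ab X) (hG : IsZero G) :
    Acyc (preadditiveCoyoneda.obj
      (op (CohCx.freeSheaf (Opens.grothendieckTopology X) V))) G := by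
  intro k
  exact Functor.map_isZero _ hG

/-- `Ext^i(ℤ_V/ℤ_{V ∩ U}, F) ≅ R^i(Hom(ℤ_V, Γ_Z -))(F)` -/
lemma nonempty_rightDerived_comp_iso (F : CohTop.Ab X) (i : ℕ) :
    Nonempty (((sectSuppF U ⋙ preadditiveCoyoneda.obj
        (op (CohCx.freeSheaf (Opens.grothendieckTopology X) V))).rightDerived i).obj F ≅
      AddCommGrpCat.of (HZ F i (inf_le_left : V ⊓ U ≤ V))) :=
  ExtRD.ext_iso_rightDerived_of_iso (zq (inf_le_left : V ⊓ U ≤ V)) _
    (sectSuppCoyonedaIso' U V) F i

/-- `ℋ^0_Z(F) = 0` iff `Γ_Z F = 0` -/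
lemma isZero_HZsh_zero_iff (F : CohTop.Ab X) :
    IsZero ((HZsh U 0).obj F) ↔ IsZero ((sectSuppF U).obj F) :=
  ((sectSuppF U).rightDerivedZeroIsoSelf.app F).isZero_iff

open CompositeLow in
/-- if `ℋ^i_Z(F) = 0` for `i < n` then `H^i_{Z ∩ V}(V, F) = 0` for `i < n` and
`H^n_{Z ∩ V}(V, F) ≅ Γ(V, ℋ^n_Z(F))` -/
theorem HZ_of_isZero_HZsh (F : CohTop.Ab X) (n : ℕ)
    (h : ∀ i : ℕ, i < n → IsZero ((HZsh U i).obj F)) :
    (∀ i : ℕ, i < n → Subsingleton (HZ F i (inf_le_left : V ⊓ U ≤ V))) ∧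
      Nonempty (AddCommGrpCat.of (HZ F n (inf_le_left : V ⊓ U ≤ V)) ≅
        AddCommGrpCat.of (CohCx.freeSheaf (Opens.grothendieckTopology X) V ⟶
          (HZsh U n).obj F)) := by
  cases n with
  | zero =>
    refine ⟨fun i hi => by omega, ?_⟩
    obtain ⟨e⟩ := nonempty_rightDerived_comp_iso U V F 0
    refine ⟨e.symm ≪≫ (Functor.rightDerivedZeroIsoSelf _).app F ≪≫ ?_⟩
    exact (preadditiveCoyoneda.obj
      (op (CohCx.freeSheaf (Opens.grothendieckTopology X) V))).mapIso
        (((sectSuppF U).rightDerivedZeroIsoSelf.app F).symm)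
  | succ n =>
    have hT0 : IsZero ((sectSuppF U).obj F) := (isZero_HZsh_zero_iff U F).1 (h 0 (Nat.succ_pos n))
    obtain ⟨hz, ⟨e⟩⟩ := main (sectSuppF U) (preadditiveCoyoneda.obj
      (op (CohCx.freeSheaf (Opens.grothendieckTopology X) V))) (acyc_sectSuppF U V) n F
      (fun i _ hi => h i hi) (acyc_of_isZero V _ hT0)
    refine ⟨?_, ?_⟩
    · intro i hi
      obtain ⟨e'⟩ := nonempty_rightDerived_comp_iso U V F i
      have hzero : IsZero (AddCommGrpCat.of (HZ F i (inf_le_left : V ⊓ U ≤ V))) := by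
        refine IsZero.of_iso ?_ e'.symm
        cases i with
        | zero =>
          refine IsZero.of_iso ?_ ((Functor.rightDerivedZeroIsoSelf _).app F)
          exact Functor.map_isZero (preadditiveCoyoneda.obj
            (op (CohCx.freeSheaf (Opens.grothendieckTopology X) V))) hT0
        | succ i => exact hz (i + 1) (Nat.succ_pos i) hi
      exact AddCommGrpCat.subsingleton_of_isZero hzero
    · obtain ⟨e'⟩ := nonempty_rightDerived_comp_iso U V F (n + 1)
      exact ⟨e'.symm ≪≫ e⟩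

end Groth.Agent.Lib.Helper33.LocCohSS
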