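import Groth.Agent.Lib.Helper33.LocCohLES
import Groth.Agent.Lib.Helper28.ShCoh
import Groth.Agent.S0854

/-!
# The sequence `0 ⟶ Γ_Z ⟶ 𝟭 ⟶ j_* j⁻¹ ⟶ 0` of functors on abelian sheaves is short exact on
injective sheaves; consequences for the local cohomology sheaves (helper33)
-/

set_option autoImplicit false

universe u

open CategoryTheory CategoryTheory.Limits TopologicalSpace Opposite

namespace Groth.Agent.Lib.Helper33.LocCohSS

open LocCohZ Groth.Agent.Lib.Helper96 Groth.Agent.S19245

variable {X : TopCat.{u}} (U : Opens X)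

/-- the inclusion `Γ_Z ⟶ 𝟭` -/
noncomputable def ιNat : sectSuppF U ⟶ 𝟭 (CohTop.Ab X) where
  app F := ιZ U F
  naturality _ _ f := sectSuppF_map_ι U f

/-- the unit `𝟭 ⟶ j_* j⁻¹` -/
noncomputable abbrev unitNat : 𝟭 (CohTop.Ab X) ⟶
    CohTop.pull (CohCx.incl U) ⋙ CohTop.push (CohCx.incl U) :=
  (TopCat.Sheaf.pullbackPushforwardAdjunction AddCommGrpCat.{u} (CohCx.incl U)).unit

lemma ιNat_unitNat : ιNat U ≫ unitNat U = 0 := by
  apply NatTrans.ext
  funext F
  exact ιZ_eta U F

/-- the unit of `(-)|_U ⊣ j_*` is surjective on sections of a flasque sheaf -/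
lemma restrUnit_surjective (A : CohTop.Ab X) [TopCat.Sheaf.IsFlasque A] (V : Opens X) :
    Function.Surjective ((TowerLim.Γ V).map ((restrPushAdj U).unit.app A)) := by
  have h : (TowerLim.Γ V).map ((restrPushAdj U).unit.app A) =
      A.obj.map ((isOpenEmbedding_incl U).isOpenMap.adjunction.counit.app V).op := by
    simp [restrPushAdj]
  rw [h]
  exact (AddCommGrpCat.epi_iff_surjective _).mp
    (TopCat.Presheaf.IsFlasque.epi (F := A.obj) _)

lemma eta_comp_pullIsoRestr (A : CohTop.Ab X) :
    eta A U ≫ (CohTop.push (CohCx.incl U)).map ((pullIsoRestr U).hom.app A) =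
      (restrPushAdj U).unit.app A :=
  Adjunction.unit_leftAdjointUniq_hom_app _ _ A

/-- the unit `A ⟶ j_* j⁻¹ A` is an epimorphism for a flasque sheaf `A` -/
lemma epi_eta_of_isFlasque (A : CohTop.Ab X) [TopCat.Sheaf.IsFlasque A] : Epi (eta A U) := by
  have h1 : Epi ((restrPushAdj U).unit.app A) :=
    TowerLim.epi_of_surjective_sections _ (restrUnit_surjective U A)
  have h2 : eta A U = (restrPushAdj U).unit.app A ≫
      (CohTop.push (CohCx.incl U)).map ((pullIsoRestr U).inv.app A) := by
    rw [← eta_comp_pullIsoRestr, Category.assoc, ← Functor.map_comp, Iso.hom_inv_id_app,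
      CategoryTheory.Functor.map_id]
    exact (Category.comp_id _).symm
  rw [h2]
  infer_instance

/-- `0 ⟶ Γ_Z I ⟶ I ⟶ j_* j⁻¹ I ⟶ 0` is short exact for injective `I` -/
theorem exactOnInjectives :
    FunctorLES.ExactOnInjectives (ιNat U) (unitNat U) (ιNat_unitNat U) := by
  intro I hI
  have : TopCat.Sheaf.IsFlasque I := Groth.Agent.Lib.Helper28.ShCoh.isFlasque_of_injective I
  exact
    { exact := ShortComplex.exact_kernel (eta I U)
      mono_f := inferInstanceAs (Mono (ιZ U I))
      epi_g := epi_eta_of_isFlasque U I }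

end Groth.Agent.Lib.Helper33.LocCohSS
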