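import Groth.Agent.Lib.Helper33.LocCohUnit
import Groth.Agent.Lib.Helper33.LocCohOpens
import Groth.Agent.S6025
import Groth.Agent.Lib.Helper33.ExtResShift

/-!
# Vanishing of local cohomology sheaves from bijectivity of restriction maps (helper33)
-/

set_option autoImplicit false

universe u

open CategoryTheory CategoryTheory.Limits TopologicalSpace Opposite Abelian

namespace Groth.Agent.Lib.Helper33.LocCohSS

open LocCohZ Groth.Agent.Lib.Helper96 Groth.Agent.S19245

variable {X : TopCat.{u}}

/-- surjectivity of `H^0(V, F) → H^0(W, F)` gives surjectivity of `F(V) → F(W)` -/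
lemma res_sections_surjective_of_res_zero (F : CohTop.Ab X) {W V : Opens X} (h : W ≤ V)
    (hs : Function.Surjective (CohTop.res F 0 h)) :
    Function.Surjective (TowerLim.res F h) := by
  intro s'
  obtain ⟨x, hx⟩ := hs (Ext.mk₀ (CohFree.ofSect (Opens.grothendieckTopology X) W F s'))
  obtain ⟨χ, rfl⟩ := (Ext.mk₀_bijective _ _).2 x
  have h1 : CohTop.res F 0 h (Ext.mk₀ χ) =
      (Ext.mk₀ (CohCx.freeSheafMap (Opens.grothendieckTopology X) (homOfLE h))).comp (Ext.mk₀ χ)
        (zero_add 0) := rfl
  rw [h1, Ext.mk₀_comp_mk₀] at hx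
  have h2 := (Ext.mk₀_bijective _ _).1 hx
  refine ⟨CohFree.evalGen (Opens.grothendieckTopology X) V F χ, ?_⟩
  have h3 := CohFree.evalGen_freeSheafMap_comp (Opens.grothendieckTopology X) (homOfLE h) F χ
  rw [h2, CohFree.evalGen_ofSect] at h3
  exact h3.symm

variable (U : Opens X)

/-- the unit of `(-)|_U ⊣ j_*` is surjective on sections if the restrictions `A(V) → A(V ∩ U)`
are -/
lemma restrUnit_surjective_of_res (A : CohTop.Ab X)
    (hA : ∀ V : Opens X, Function.Surjective (TowerLim.res A (inf_le_left : V ⊓ U ≤ V)))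
    (V : Opens X) :
    Function.Surjective ((TowerLim.Γ V).map ((restrPushAdj U).unit.app A)) := by
  have h : (TowerLim.Γ V).map ((restrPushAdj U).unit.app A) =
      A.obj.map ((isOpenEmbedding_incl U).isOpenMap.adjunction.counit.app V).op := by
    simp [restrPushAdj]
  rw [h]
  have hle : V ⊓ U ≤ (isOpenEmbedding_incl U).isOpenMap.functor.obj
      ((Opens.map (CohCx.incl U)).obj V) := by
    rintro x ⟨hxV, hxU⟩
    exact ⟨⟨x, hxU⟩, hxV, rfl⟩
  have hle' : (isOpenEmbedding_incl U).isOpenMap.functor.obj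
      ((Opens.map (CohCx.incl U)).obj V) ≤ V ⊓ U := by
    rintro _ ⟨y, hy, rfl⟩
    exact ⟨hy, y.2⟩
  intro t
  obtain ⟨s, hs⟩ := hA V (TowerLim.res A hle t)
  have h1 : A.obj.map ((isOpenEmbedding_incl U).isOpenMap.adjunction.counit.app V).op s =
      TowerLim.res A hle' (TowerLim.res A (inf_le_left : V ⊓ U ≤ V) s) := by
    rw [res_res]
    rfl
  refine ⟨s, h1.trans ?_⟩
  rw [hs, res_res, res_self]

/-- the unit `A ⟶ j_* j⁻¹ A` is an epimorphism if the restrictions `A(V) → A(V ∩ U)` are
surjective -/
lemma epi_eta_of_res_surjective (A : CohTop.Ab X)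
    (hA : ∀ V : Opens X, Function.Surjective (TowerLim.res A (inf_le_left : V ⊓ U ≤ V))) :
    Epi (eta A U) := by
  have h1 : Epi ((restrPushAdj U).unit.app A) :=
    TowerLim.epi_of_surjective_sections _ (restrUnit_surjective_of_res U A hA)
  have h2 : eta A U = (restrPushAdj U).unit.app A ≫
      (CohTop.push (CohCx.incl U)).map ((pullIsoRestr U).inv.app A) := by
    rw [← eta_comp_pullIsoRestr, Category.assoc, ← Functor.map_comp, Iso.hom_inv_id_app,
      CategoryTheory.Functor.map_id]
    exact (Category.comp_id _).symm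
  rw [h2]
  infer_instance

/-- `ℋ^1_Z(F) = 0` if the restrictions `H^0(V, F) → H^0(V ∩ U, F)` are surjective -/
theorem isZero_HZsh_one_of_res_zero_surjective (F : CohTop.Ab X)
    (hF : ∀ V : Opens X, Function.Surjective (CohTop.res F 0 (inf_le_left : V ⊓ U ≤ V))) :
    IsZero ((HZsh U 1).obj F) := by
  obtain ⟨e⟩ := (Groth.Agent.S6025.result U).1
  refine IsZero.of_iso ?_ (e.app F)
  have hepi : Epi (eta F U) := epi_eta_of_res_surjective U F
    (fun V => res_sections_surjective_of_res_zero F _ (hF V))
  have hπ : Epi (cokernel.π (unitNat U)) := inferInstance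
  have hπF : Epi ((cokernel.π (unitNat U)).app F) := inferInstance
  have h0 : (cokernel.π (unitNat U)).app F = 0 := by
    rw [← cancel_epi (eta F U), comp_zero]
    have := congrArg (fun α => α.app F) (cokernel.condition (unitNat U))
    exact this
  exact @IsZero.of_epi_eq_zero _ _ _ _ _ _ hπF h0

lemma res_eq_resExt (F : CohTop.Ab X) (i : ℕ) {W V : Opens X} (h : W ≤ V) :
    CohTop.res F i h =
      ExtRD.resExt (CohCx.freeSheafMap (Opens.grothendieckTopology X) (homOfLE h)) F i := rfl

open Groth.Agent.Lib.Helper5 in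
/-- if `H^0(V, F) → H^0(V ∩ U, F)` is surjective and `H^i(V, F) → H^i(V ∩ U, F)` is bijective for
`0 < i < N`, for all opens `V`, then `ℋ^i_Z(F) = 0` for `1 ≤ i ≤ N` -/
theorem isZero_HZsh_of_res_bijective (N : ℕ) :
    ∀ F : CohTop.Ab X,
      (∀ V : Opens X, Function.Surjective (CohTop.res F 0 (inf_le_left : V ⊓ U ≤ V))) →
      (∀ (V : Opens X) (i : ℕ), 0 < i → i < N →
        Function.Bijective (CohTop.res F i (inf_le_left : V ⊓ U ≤ V))) →
      ∀ i : ℕ, 1 ≤ i → i ≤ N → IsZero ((HZsh U i).obj F) := by
  have : EnoughInjectives (CohTop.Ab X) := ExtRD.enoughInjectives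
  induction N with
  | zero =>
    intro F _ _ i h1 h2
    omega
  | succ N ih =>
    intro F h0 hb i h1 h2
    obtain ⟨k, rfl⟩ : ∃ k, i = k + 1 := ⟨i - 1, by omega⟩
    cases k with
    | zero => exact isZero_HZsh_one_of_res_zero_surjective U F h0
    | succ k =>
      let E := ExtRD.sesInj F
      have hE : E.ShortExact := ExtRD.sesInj_shortExact F
      have hI : Injective E.X₂ := inferInstanceAs (Injective (Injective.under F))
      have hmono : ∀ V : Opens X, Mono (CohCx.freeSheafMap (Opens.grothendieckTopology X)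
          (homOfLE (inf_le_left : V ⊓ U ≤ V))) := fun V => (zqSeq_shortExact _).mono_f
      apply isZero_rightDerived_succ_succ_X₁ (sectSuppF U) hE k
      apply ih E.X₃ ?_ ?_ (k + 1) (by omega) (by omega)
      · intro V
        have := hmono V
        rw [res_eq_resExt]
        apply ExtRD.resExt_zero_surjective_X₃ _ hE
        have := (hb V 1 Nat.one_pos (by omega)).2
        rw [res_eq_resExt] at this
        exact this
      · intro V i hi1 hi2
        obtain ⟨j, rfl⟩ : ∃ j, i = j + 1 := ⟨i - 1, by omega⟩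
        rw [res_eq_resExt]
        apply ExtRD.resExt_bijective_X₃ _ hE
        have := hb V (j + 2) (by omega) (by omega)
        rw [res_eq_resExt] at this
        exact this

end Groth.Agent.Lib.Helper33.LocCohSS
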