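import Mathlib.AlgebraicTopology.SimplicialSet.KanComplex
import Mathlib.Algebra.Category.Grp.Basic
import Mathlib.Algebra.Group.Subgroup.Ker

/-!
# Moore's theorem (algebraic core)

Abstract "simplicial group data": a family of groups `G n` with faces `d` and degeneracies `s`
satisfying the simplicial identities that involve at least one face.  We prove that every
compatible horn has a filler (`SGrp.moore_zero`, `SGrp.moore_succ`).
-/

set_option autoImplicit false
universe u

namespace Groth.Agent.Lib.Helper33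

/-- Abstract simplicial group data. -/
structure SGrp where
  G : ℕ → Type u
  [grp : ∀ n, Group (G n)]
  d : ∀ {n : ℕ}, Fin (n + 2) → G (n + 1) →* G n
  s : ∀ {n : ℕ}, Fin (n + 1) → G n →* G (n + 1)
  d_d : ∀ {n : ℕ} {i j : Fin (n + 2)} (_ : i ≤ j) (x : G (n + 2)),
    d i (d j.succ x) = d j (d i.castSucc x)
  d_s_self : ∀ {n : ℕ} (i : Fin (n + 1)) (x : G n), d i.castSucc (s i x) = x
  d_s_succ : ∀ {n : ℕ} (i : Fin (n + 1)) (x : G n), d i.succ (s i x) = x
  d_s_le : ∀ {n : ℕ} {i : Fin (n + 2)} {j : Fin (n + 1)} (_ : i ≤ j.castSucc) (x : G (n + 1)),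
    d i.castSucc (s j.succ x) = s j (d i x)
  d_s_gt : ∀ {n : ℕ} {i : Fin (n + 2)} {j : Fin (n + 1)} (_ : j.castSucc < i) (x : G (n + 1)),
    d i.succ (s j.castSucc x) = s j (d i x)

attribute [instance] SGrp.grp

namespace SGrp

variable (D : SGrp.{u})

/-- Horn filling in dimension one. -/
theorem moore_zero (k : Fin 2) (x : Fin 2 → D.G 0) :
    ∃ w : D.G 1, ∀ j : Fin 2, j ≠ k → D.d j w = x j := by
  fin_cases k
  · refine ⟨D.s 0 (x 1), fun j hj => ?_⟩
    fin_cases j
    · exact absurd rfl hj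
    · exact D.d_s_succ 0 (x 1)
  · refine ⟨D.s 0 (x 0), fun j hj => ?_⟩
    fin_cases j
    · exact D.d_s_self 0 (x 0)
    · exact absurd rfl hj

section

variable {D} {m : ℕ} {k : Fin (m + 3)} {x : Fin (m + 3) → D.G (m + 1)}
  (compat : ∀ (j l : Fin (m + 3)) (_ : j ≠ k) (_ : l ≠ k) (hjl : j < l),
     D.d (l.pred (Fin.ne_zero_of_lt hjl)) (x j) = D.d (j.castPred (Fin.ne_last_of_lt hjl)) (x l))

include compat in
lemma step (r' : Fin (m + 2)) (r : Fin (m + 3)) (hr : r = r'.castSucc ∨ r = r'.succ)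
    (hrk : r ≠ k) (w : D.G (m + 2)) :
    ∃ w' : D.G (m + 2), D.d r w' = x r ∧
      ∀ j : Fin (m + 3), j ≠ k → (j.val < r'.val ∨ r'.val + 1 < j.val) →
        D.d j w = x j → D.d j w' = x j := by
  refine ⟨w * D.s r' ((D.d r w)⁻¹ * x r), ?_, ?_⟩
  · have h1 : D.d r (D.s r' ((D.d r w)⁻¹ * x r)) = (D.d r w)⁻¹ * x r := by
      rcases hr with rfl | rfl
      · exact D.d_s_self _ _
      · exact D.d_s_succ _ _
    rw [map_mul, h1, mul_inv_cancel_left]
  · intro j hjk hj hw
    have hrv : r.val = r'.val ∨ r.val = r'.val + 1 := by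
      rcases hr with rfl | rfl
      · left; rfl
      · right; rfl
    suffices h : D.d j (D.s r' ((D.d r w)⁻¹ * x r)) = 1 by
      rw [map_mul, h, mul_one, hw]
    rcases hj with hj | hj
    · -- `j < r'`
      have hjl : j ≠ Fin.last _ := by
        intro h; rw [h] at hj; simp at hj; omega
      have hr'0 : r' ≠ 0 := by
        intro h; rw [h] at hj; simp at hj
      obtain ⟨i, rfl⟩ := Fin.eq_castSucc_of_ne_last hjl
      obtain ⟨j₀, rfl⟩ := Fin.eq_succ_of_ne_zero hr'0
      have hij₀ : i ≤ j₀.castSucc := by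
        rw [Fin.le_def]; simp at hj ⊢; omega
      rw [D.d_s_le hij₀, map_mul, map_inv]
      have hjr : i.castSucc < r := by
        rw [Fin.lt_def]; simp at hj hrv ⊢; omega
      have hr0 : r ≠ 0 := Fin.ne_zero_of_lt hjr
      obtain ⟨j₁, rfl⟩ := Fin.eq_succ_of_ne_zero hr0
      have hij₁ : i ≤ j₁ := by
        rw [Fin.le_def]; rw [Fin.lt_def] at hjr; simp at hjr; omega
      have h2 := compat i.castSucc j₁.succ hjk hrk hjr
      simp only [Fin.pred_succ, Fin.castPred_castSucc] at h2
      rw [D.d_d hij₁, hw, h2, inv_mul_cancel, map_one]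
    · -- `r' + 1 < j`
      have hj0 : j ≠ 0 := by
        intro h; rw [h] at hj; simp at hj
      have hr'l : r' ≠ Fin.last _ := by
        intro h; rw [h] at hj; simp at hj; omega
      obtain ⟨i, rfl⟩ := Fin.eq_succ_of_ne_zero hj0
      obtain ⟨j₀, rfl⟩ := Fin.eq_castSucc_of_ne_last hr'l
      have hij₀ : j₀.castSucc < i := by
        rw [Fin.lt_def]; simp at hj ⊢; omega
      rw [D.d_s_gt hij₀, map_mul, map_inv]
      have hrj : r < i.succ := by
        rw [Fin.lt_def]; simp at hj hrv ⊢; omega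
      have hrl : r ≠ Fin.last _ := Fin.ne_last_of_lt hrj
      obtain ⟨i₁, rfl⟩ := Fin.eq_castSucc_of_ne_last hrl
      have hi₁i : i₁ ≤ i := by
        rw [Fin.le_def]; rw [Fin.lt_def] at hrj; simp at hrj; omega
      have h2 := compat i₁.castSucc i.succ hrk hjk hrj
      simp only [Fin.pred_succ, Fin.castPred_castSucc] at h2
      rw [← D.d_d hi₁i, hw, ← h2, inv_mul_cancel, map_one]

include compat in
/-- Horn filling in higher dimensions (Moore). -/
theorem moore_succ : ∃ w : D.G (m + 2), ∀ j : Fin (m + 3), j ≠ k → D.d j w = x j := by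
  have phase1 : ∀ t : ℕ, t ≤ k.val → ∃ w : D.G (m + 2), ∀ j : Fin (m + 3), j.val < t →
      D.d j w = x j := by
    intro t
    induction t with
    | zero => exact fun _ => ⟨1, fun j hj => absurd hj (Nat.not_lt_zero _)⟩
    | succ t ih =>
      intro ht
      obtain ⟨w, hw⟩ := ih (by omega)
      have htm : t < m + 2 := by have := k.isLt; omega
      obtain ⟨w', h1, h2⟩ := step compat ⟨t, htm⟩ (Fin.castSucc ⟨t, htm⟩) (Or.inl rfl)
        (by intro h; have := congrArg Fin.val h; simp at this; omega) w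
      refine ⟨w', fun j hj => ?_⟩
      rcases Nat.lt_succ_iff_lt_or_eq.1 hj with hj' | hj'
      · exact h2 j (by intro h; rw [h] at hj'; omega) (Or.inl hj') (hw j hj')
      · have : j = Fin.castSucc ⟨t, htm⟩ := Fin.ext (by simpa using hj')
        rw [this]; exact h1
  have phase2 : ∀ t : ℕ, k.val + t ≤ m + 2 → ∃ w : D.G (m + 2), ∀ j : Fin (m + 3), j ≠ k →
      (j.val < k.val ∨ m + 3 ≤ j.val + t) → D.d j w = x j := by
    intro t
    induction t with
    | zero =>
      intro _
      obtain ⟨w, hw⟩ := phase1 k.val le_rfl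
      refine ⟨w, fun j _ hj => ?_⟩
      rcases hj with hj | hj
      · exact hw j hj
      · have := j.isLt; omega
    | succ t ih =>
      intro ht
      obtain ⟨w, hw⟩ := ih (by omega)
      have h1 : m + 1 - t < m + 2 := by omega
      obtain ⟨w', h1', h2'⟩ := step compat ⟨m + 1 - t, h1⟩ (Fin.succ ⟨m + 1 - t, h1⟩) (Or.inr rfl)
        (by intro h; have := congrArg Fin.val h; simp at this; omega) w
      refine ⟨w', fun j hjk hj => ?_⟩
      by_cases hjr : j.val = m + 2 - t
      · have : j = Fin.succ ⟨m + 1 - t, h1⟩ := Fin.ext (by simp; omega)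
        rw [this]; exact h1'
      · have hj' : j.val < k.val ∨ m + 3 ≤ j.val + t := by
          rcases hj with hj | hj
          · exact Or.inl hj
          · right; omega
        refine h2' j hjk ?_ (hw j hjk hj')
        rcases hj' with hj' | hj'
        · left; simp; omega
        · right; simp; omega
  obtain ⟨w, hw⟩ := phase2 (m + 2 - k.val) (by have := k.isLt; omega)
  refine ⟨w, fun j hjk => hw j hjk ?_⟩
  have hne : j.val ≠ k.val := fun h => hjk (Fin.ext h)
  have := k.isLt
  omega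

end

end SGrp

end Groth.Agent.Lib.Helper33

namespace Groth.Agent.Lib.Helper33
namespace SGrp

open CategoryTheory Simplicial

/-- The abstract data of a simplicial group. -/
def ofGrp (X : SimplicialObject GrpCat.{u}) : SGrp.{u} where
  G n := X _⦋n⦌
  d i := (X.δ i).hom
  s i := (X.σ i).hom
  d_d H x := by
    have := ConcreteCategory.congr_hom (X.δ_comp_δ H) x
    simpa using this
  d_s_self i x := by
    have := ConcreteCategory.congr_hom (X.δ_comp_σ_self (i := i)) x
    simpa using this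
  d_s_succ i x := by
    have := ConcreteCategory.congr_hom (X.δ_comp_σ_succ (i := i)) x
    simpa using this
  d_s_le H x := by
    have := ConcreteCategory.congr_hom (X.δ_comp_σ_of_le H) x
    simpa using this
  d_s_gt H x := by
    have := ConcreteCategory.congr_hom (X.δ_comp_σ_of_gt H) x
    simpa using this

end SGrp
end Groth.Agent.Lib.Helper33

namespace Groth.Agent.Lib.Helper33
namespace SGrp

open CategoryTheory Simplicial Opposite

/-- The abstract data of a simplicial abelian group (written multiplicatively). -/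
def ofAddCommGrp (X : SimplicialObject AddCommGrpCat.{u}) : SGrp.{u} where
  G n := Multiplicative (X _⦋n⦌)
  d i := AddMonoidHom.toMultiplicative (X.δ i).hom
  s i := AddMonoidHom.toMultiplicative (X.σ i).hom
  d_d H x := by
    have := ConcreteCategory.congr_hom (X.δ_comp_δ H) (Multiplicative.toAdd x)
    simpa using this
  d_s_self i x := by
    have := ConcreteCategory.congr_hom (X.δ_comp_σ_self (i := i)) (Multiplicative.toAdd x)
    simpa using congrArg Multiplicative.ofAdd this
  d_s_succ i x := by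
    have := ConcreteCategory.congr_hom (X.δ_comp_σ_succ (i := i)) (Multiplicative.toAdd x)
    simpa using congrArg Multiplicative.ofAdd this
  d_s_le H x := by
    have := ConcreteCategory.congr_hom (X.δ_comp_σ_of_le H) (Multiplicative.toAdd x)
    simpa using this
  d_s_gt H x := by
    have := ConcreteCategory.congr_hom (X.δ_comp_σ_of_gt H) (Multiplicative.toAdd x)
    simpa using this

/-- Sub-data given by a family of subgroups stable under faces and degeneracies. -/
def sub (D : SGrp.{u}) (H : ∀ n, Subgroup (D.G n))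
    (hd : ∀ {n : ℕ} (i : Fin (n + 2)) (x : D.G (n + 1)), x ∈ H (n + 1) → D.d i x ∈ H n)
    (hs : ∀ {n : ℕ} (i : Fin (n + 1)) (x : D.G n), x ∈ H n → D.s i x ∈ H (n + 1)) : SGrp.{u} where
  G n := H n
  d i := ((D.d i).comp (H _).subtype).codRestrict (H _) (fun x => hd i x x.2)
  s i := ((D.s i).comp (H _).subtype).codRestrict (H _) (fun x => hs i x x.2)
  d_d H' x := Subtype.ext (D.d_d H' x.1)
  d_s_self i x := Subtype.ext (D.d_s_self i x.1)
  d_s_succ i x := Subtype.ext (D.d_s_succ i x.1)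
  d_s_le H' x := Subtype.ext (D.d_s_le H' x.1)
  d_s_gt H' x := Subtype.ext (D.d_s_gt H' x.1)

/-- The kernel of a morphism of simplicial abelian groups, as abstract data. -/
def kerData {X Y : SimplicialObject AddCommGrpCat.{u}} (f : X ⟶ Y) : SGrp.{u} :=
  (ofAddCommGrp X).sub (fun n => (AddMonoidHom.toMultiplicative (f.app (op ⦋n⦌)).hom).ker)
    (fun {n} i (x : Multiplicative (X _⦋n + 1⦌)) hx => by
      have h1 := ConcreteCategory.congr_hom (SimplicialObject.δ_naturality f i)
        (Multiplicative.toAdd x)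
      have hx' : (f.app (op ⦋n + 1⦌)).hom (Multiplicative.toAdd x) = 0 := hx
      change Multiplicative.ofAdd ((f.app (op ⦋n⦌)).hom ((X.δ i).hom (Multiplicative.toAdd x))) = 1
      simp only [ConcreteCategory.comp_apply] at h1
      erw [h1, hx', map_zero]
      rfl)
    (fun {n} i (x : Multiplicative (X _⦋n⦌)) hx => by
      have h1 := ConcreteCategory.congr_hom (SimplicialObject.σ_naturality f i)
        (Multiplicative.toAdd x)
      have hx' : (f.app (op ⦋n⦌)).hom (Multiplicative.toAdd x) = 0 := hx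
      change Multiplicative.ofAdd ((f.app (op ⦋n + 1⦌)).hom ((X.σ i).hom (Multiplicative.toAdd x))) = 1
      simp only [ConcreteCategory.comp_apply] at h1
      erw [h1, hx', map_zero]
      rfl)

section filler

variable {X Y : SimplicialObject AddCommGrpCat.{u}} (f : X ⟶ Y)

lemma f_δ {n : ℕ} (i : Fin (n + 2)) (x : X _⦋n + 1⦌) :
    (f.app (op ⦋n⦌)).hom ((X.δ i).hom x) = (Y.δ i).hom ((f.app (op ⦋n + 1⦌)).hom x) :=
  ConcreteCategory.congr_hom (SimplicialObject.δ_naturality f i) x

/-- An element of the kernel. -/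
def kerMk {n : ℕ} (a : X _⦋n⦌) (ha : (f.app (op ⦋n⦌)).hom a = 0) : (kerData f).G n :=
  ⟨Multiplicative.ofAdd a, ha⟩

/-- The underlying element of an element of the kernel. -/
def kerVal {n : ℕ} (w : (kerData f).G n) : X _⦋n⦌ := Multiplicative.toAdd (α := X _⦋n⦌) w.1

lemma kerVal_mk {n : ℕ} (a : X _⦋n⦌) (ha : (f.app (op ⦋n⦌)).hom a = 0) :
    kerVal f (kerMk f a ha) = a := rfl

lemma f_kerVal {n : ℕ} (w : (kerData f).G n) : (f.app (op ⦋n⦌)).hom (kerVal f w) = 0 := w.2

lemma kerVal_d {n : ℕ} (i : Fin (n + 2)) (w : (kerData f).G (n + 1)) :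
    kerVal f ((kerData f).d i w) = (X.δ i).hom (kerVal f w) := rfl

lemma kerVal_injective {n : ℕ} : Function.Injective (kerVal f (n := n)) :=
  fun _ _ h => Subtype.ext h

lemma kerVal_one {n : ℕ} : kerVal f (1 : (kerData f).G n) = 0 := rfl

variable {f} in
lemma exists_filler_aux {n : ℕ} (k : Fin (n + 2)) (xs : Fin (n + 2) → X _⦋n⦌) (y : Y _⦋n + 1⦌)
    (x₀ : X _⦋n + 1⦌) (hx₀ : (f.app (op ⦋n + 1⦌)).hom x₀ = y)
    (w : (kerData f).G (n + 1))
    (hw : ∀ j, j ≠ k → kerVal f ((kerData f).d j w) = xs j - (X.δ j).hom x₀) :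
    ∃ x : X _⦋n + 1⦌, (f.app (op ⦋n + 1⦌)).hom x = y ∧ ∀ j, j ≠ k → (X.δ j).hom x = xs j := by
  refine ⟨kerVal f w + x₀, ?_, fun j hj => ?_⟩
  · rw [map_add, f_kerVal, zero_add, hx₀]
  · have := hw j hj
    rw [kerVal_d] at this
    rw [map_add, this, sub_add_cancel]

variable {f} in
/-- Relative horn filling for a surjection of simplicial abelian groups, dimension one. -/
theorem exists_filler_zero (hsurj : Function.Surjective (f.app (op ⦋1⦌)).hom) (k : Fin 2)
    (xs : Fin 2 → X _⦋0⦌) (y : Y _⦋1⦌)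
    (hxy : ∀ j, j ≠ k → (f.app (op ⦋0⦌)).hom (xs j) = (Y.δ j).hom y) :
    ∃ x : X _⦋1⦌, (f.app (op ⦋1⦌)).hom x = y ∧ ∀ j, j ≠ k → (X.δ j).hom x = xs j := by
  obtain ⟨x₀, hx₀⟩ := hsurj y
  have hz : ∀ j, j ≠ k → (f.app (op ⦋0⦌)).hom (xs j - (X.δ j).hom x₀) = 0 := by
    intro j hj
    rw [map_sub, hxy j hj, f_δ, hx₀, sub_self]
  let z : Fin 2 → (kerData f).G 0 := fun j => if h : j ≠ k then kerMk f _ (hz j h) else 1
  have hzj : ∀ j (h : j ≠ k), z j = kerMk f _ (hz j h) := fun j h => dif_pos h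
  obtain ⟨w, hw⟩ := (kerData f).moore_zero k z
  refine exists_filler_aux k xs y x₀ hx₀ w (fun j hj => ?_)
  rw [hw j hj, hzj j hj, kerVal_mk]

variable {f} in
/-- Relative horn filling for a surjection of simplicial abelian groups, higher dimensions. -/
theorem exists_filler_succ {m : ℕ} (hsurj : Function.Surjective (f.app (op ⦋m + 2⦌)).hom)
    (k : Fin (m + 3)) (xs : Fin (m + 3) → X _⦋m + 1⦌) (y : Y _⦋m + 2⦌)
    (hxy : ∀ j, j ≠ k → (f.app (op ⦋m + 1⦌)).hom (xs j) = (Y.δ j).hom y)
    (compat : ∀ (j l : Fin (m + 3)) (_ : j ≠ k) (_ : l ≠ k) (hjl : j < l),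
      (X.δ (l.pred (Fin.ne_zero_of_lt hjl))).hom (xs j) =
        (X.δ (j.castPred (Fin.ne_last_of_lt hjl))).hom (xs l)) :
    ∃ x : X _⦋m + 2⦌, (f.app (op ⦋m + 2⦌)).hom x = y ∧ ∀ j, j ≠ k → (X.δ j).hom x = xs j := by
  obtain ⟨x₀, hx₀⟩ := hsurj y
  have hz : ∀ j, j ≠ k → (f.app (op ⦋m + 1⦌)).hom (xs j - (X.δ j).hom x₀) = 0 := by
    intro j hj
    rw [map_sub, hxy j hj, f_δ, hx₀, sub_self]
  let z : Fin (m + 3) → (kerData f).G (m + 1) :=
    fun j => if h : j ≠ k then kerMk f _ (hz j h) else 1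
  have hzj : ∀ j (h : j ≠ k), z j = kerMk f _ (hz j h) := fun j h => dif_pos h
  obtain ⟨w, hw⟩ := (kerData f).moore_succ (k := k) (x := z) (by
    intro j l hj hl hjl
    apply kerVal_injective
    rw [kerVal_d, kerVal_d, hzj j hj, hzj l hl, kerVal_mk, kerVal_mk, map_sub, map_sub,
      compat j l hj hl hjl]
    congr 1
    obtain ⟨i, rfl⟩ := Fin.eq_castSucc_of_ne_last (Fin.ne_last_of_lt hjl)
    obtain ⟨j₁, rfl⟩ := Fin.eq_succ_of_ne_zero (Fin.ne_zero_of_lt hjl)
    have hij : i ≤ j₁ := by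
      rw [Fin.le_def]; rw [Fin.lt_def] at hjl; simp at hjl; omega
    simp only [Fin.pred_succ, Fin.castPred_castSucc]
    exact (ConcreteCategory.congr_hom (X.δ_comp_δ hij) x₀).symm)
  refine exists_filler_aux k xs y x₀ hx₀ w (fun j hj => ?_)
  rw [hw j hj, hzj j hj, kerVal_mk]

end filler

end SGrp
end Groth.Agent.Lib.Helper33
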