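import Groth.Agent.Lib.Helper33.ExactCoupleHalf1
import Groth.Prelude.Def_DeltaF
import Mathlib.Algebra.Homology.ShortComplex.HomologicalComplex

/-!
# The `E₁` spectral sequence of a resolution (helper33)

* `QuarterCouple1`: first-quadrant `E₁` exact couple data indexed by `ℕ × ℕ`; `toHalf` extends it by
  zero to `q < 0`.
* `resolution_ss`: for a cohomological delta-functor `T` with `T^0` left exact (`ZeroMono`) and a
  resolution `0 → F = Z^0 → G^0 → G^1 → ⋯` given in spliced form (short exact sequences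
  `0 → Z^p → G^p → Z^{p+1} → 0`), a spectral sequence `E₁^{p,q} = T^q(G^p) ⇒ T^{p+q}(Z^0)`.
-/

set_option autoImplicit false

universe v v' u u'

open CategoryTheory CategoryTheory.Limits
open scoped ZeroObject

namespace Groth.Agent.Lib.Helper33.EC

variable {C : Type u} [Category.{v} C] [Abelian C]

/-- first-quadrant data for an `E₁` exact couple, indexed by `ℕ × ℕ` -/
structure QuarterCouple1 (C : Type u) [Category.{v} C] [Abelian C] where
  Dn : ℕ → ℕ → C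
  En : ℕ → ℕ → C
  αn : ∀ (k q : ℕ), Dn (k + 1) q ⟶ Dn k (q + 1)
  βn : ∀ (k q : ℕ), Dn k q ⟶ En k q
  γn : ∀ (k q : ℕ), En k q ⟶ Dn (k + 1) q
  αβ : ∀ k q, αn k q ≫ βn k (q + 1) = 0
  βγ : ∀ k q, βn k q ≫ γn k q = 0
  γα : ∀ k q, γn k q ≫ αn k q = 0
  ex_αβ : ∀ k q, (ShortComplex.mk _ _ (αβ k q)).Exact
  ex_βγ : ∀ k q, (ShortComplex.mk _ _ (βγ k q)).Exact
  ex_γα : ∀ k q, (ShortComplex.mk _ _ (γα k q)).Exact
  mono_β0 : ∀ k, Mono (βn k 0)

namespace QuarterCouple1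

variable (Q : QuarterCouple1 C)

/-- `D` extended by zero -/
noncomputable def DZ (k : ℕ) : ℤ → C
  | .ofNat n => Q.Dn k n
  | .negSucc _ => 0

/-- `E` extended by zero -/
noncomputable def EZ (k : ℕ) : ℤ → C
  | .ofNat n => Q.En k n
  | .negSucc _ => 0

lemma DZ_neg (k : ℕ) (q : ℤ) (hq : q < 0) : IsZero (Q.DZ k q) := by
  cases q with
  | ofNat n => exact absurd hq (by simp)
  | negSucc n => exact isZero_zero C

lemma EZ_neg (k : ℕ) (q : ℤ) (hq : q < 0) : IsZero (Q.EZ k q) := by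
  cases q with
  | ofNat n => exact absurd hq (by simp)
  | negSucc n => exact isZero_zero C

/-- `α` extended by zero -/
noncomputable def αZ (k : ℕ) : ∀ q : ℤ, Q.DZ (k + 1) q ⟶ Q.DZ k (q + 1)
  | .ofNat n => Q.αn k n
  | .negSucc _ => 0

/-- `β` extended by zero -/
noncomputable def βZ (k : ℕ) : ∀ q : ℤ, Q.DZ k q ⟶ Q.EZ k q
  | .ofNat n => Q.βn k n
  | .negSucc _ => 0

/-- `γ` extended by zero -/
noncomputable def γZ (k : ℕ) : ∀ q : ℤ, Q.EZ k q ⟶ Q.DZ (k + 1) q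
  | .ofNat n => Q.γn k n
  | .negSucc _ => 0

lemma αZβZ (k : ℕ) (q : ℤ) : Q.αZ k q ≫ Q.βZ k (q + 1) = 0 := by
  cases q with
  | ofNat n => exact Q.αβ k n
  | negSucc n => exact zero_comp

lemma βZγZ (k : ℕ) (q : ℤ) : Q.βZ k q ≫ Q.γZ k q = 0 := by
  cases q with
  | ofNat n => exact Q.βγ k n
  | negSucc n => exact zero_comp

lemma γZαZ (k : ℕ) (q : ℤ) : Q.γZ k q ≫ Q.αZ k q = 0 := by
  cases q with
  | ofNat n => exact Q.γα k n
  | negSucc n => exact zero_comp

/-- the half-plane couple -/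
noncomputable def toHalf : HalfCouple1 C where
  Dn := Q.DZ
  En := Q.EZ
  αn := Q.αZ
  βn := Q.βZ
  γn := Q.γZ
  αβ := Q.αZβZ
  βγ := Q.βZγZ
  γα := Q.γZαZ
  ex_αβ k q := by
    cases q with
    | ofNat n => exact Q.ex_αβ k n
    | negSucc n =>
      cases n with
      | zero =>
        have h0 : Q.αZ k (Int.negSucc 0) = 0 := rfl
        rw [ShortComplex.exact_iff_mono _ h0]
        exact Q.mono_β0 k
      | succ m =>
        exact ShortComplex.exact_of_isZero_X₂ _ (Q.DZ_neg k _ (by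
          show Int.negSucc (m + 1) + 1 < 0
          omega))
  ex_βγ k q := by
    cases q with
    | ofNat n => exact Q.ex_βγ k n
    | negSucc n => exact ShortComplex.exact_of_isZero_X₂ _ (isZero_zero C)
  ex_γα k q := by
    cases q with
    | ofNat n => exact Q.ex_γα k n
    | negSucc n => exact ShortComplex.exact_of_isZero_X₂ _ (isZero_zero C)
  En_neg := Q.EZ_neg
  Dn_neg := Q.DZ_neg

/-- **The spectral sequence of first-quadrant `E₁` data.** -/
theorem exists_ss (H' : ℤ → C) (eH : ∀ n : ℕ, Nonempty (Q.Dn 0 n ≅ H' (n : ℤ)))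
    (hH' : ∀ n : ℤ, n < 0 → IsZero (H' n))
    (E₀ : ℤ × ℤ → C) (eE : ∀ (p q : ℕ), Nonempty (Q.En p q ≅ E₀ ((p : ℤ), (q : ℤ))))
    (hE₀ : ∀ pq : ℤ × ℤ, pq.1 < 0 ∨ pq.2 < 0 → IsZero (E₀ pq)) :
    ∃ (E : CohomologicalSpectralSequence C 1) (a : SpSeq.Abutment E H'),
      (∀ n, a.IsFinite n) ∧ SpSeq.IsBounded E ∧
        ∀ pq, Nonempty ((E.page 1 le_rfl).X pq ≅ E₀ pq) := by
  refine Q.toHalf.exists_ss H' (fun n => ?_) E₀ (fun p q => ?_) (fun pq h => hE₀ pq (Or.inl h))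
  · cases n with
    | ofNat m => exact eH m
    | negSucc m => exact ⟨(isZero_zero C).iso (hH' _ (by omega))⟩
  · cases q with
    | ofNat m => exact eE p m
    | negSucc m => exact ⟨(isZero_zero C).iso (hE₀ _ (Or.inr (by simp)))⟩

end QuarterCouple1

end Groth.Agent.Lib.Helper33.EC

namespace Groth.Agent.Lib.Helper33.ResolutionSS

open EC

variable {A : Type u} [Category.{v} A] [Abelian A] {B : Type u'} [Category.{v'} B] [Abelian B]
  (T : DeltaF.CohDeltaFunctor A B ℕ) (hT : T.ZeroMono)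
  (Z G : ℕ → A) (f : ∀ p, Z p ⟶ G p) (g : ∀ p, G p ⟶ Z (p + 1)) (w : ∀ p, f p ≫ g p = 0)
  (hS : ∀ p, (ShortComplex.mk (f p) (g p) (w p)).ShortExact)

include hT in
/-- the exact couple of a spliced resolution -/
noncomputable def quarterCouple : QuarterCouple1 B where
  Dn p q := (T.F q).obj (Z p)
  En p q := (T.F q).obj (G p)
  αn p q := T.δ (ShortComplex.mk (f p) (g p) (w p)) (hS p) q (q + 1) rfl
  βn p q := (T.F q).map (f p)
  γn p q := (T.F q).map (g p)
  αβ p q := T.δ_comp (ShortComplex.mk (f p) (g p) (w p)) (hS p) q (q + 1) rfl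
  βγ p q := by rw [← Functor.map_comp, w, Functor.map_zero]
  γα p q := T.comp_δ (ShortComplex.mk (f p) (g p) (w p)) (hS p) q (q + 1) rfl
  ex_αβ p q := T.exact₁ (ShortComplex.mk (f p) (g p) (w p)) (hS p) q (q + 1) rfl
  ex_βγ p q := T.exact₂ (ShortComplex.mk (f p) (g p) (w p)) (hS p) q
  ex_γα p q := T.exact₃ (ShortComplex.mk (f p) (g p) (w p)) (hS p) q (q + 1) rfl
  mono_β0 p := hT (ShortComplex.mk (f p) (g p) (w p)) (hS p)

include hT hS in
/-- **The `E₁` spectral sequence of a resolution**: `E₁^{p,q} = T^q(G^p) ⇒ T^{p+q}(Z^0)`. -/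
theorem resolution_ss (H' : ℤ → B) (eH : ∀ n : ℕ, Nonempty ((T.F n).obj (Z 0) ≅ H' (n : ℤ)))
    (hH' : ∀ n : ℤ, n < 0 → IsZero (H' n))
    (E₀ : ℤ × ℤ → B) (eE : ∀ (p q : ℕ), Nonempty ((T.F q).obj (G p) ≅ E₀ ((p : ℤ), (q : ℤ))))
    (hE₀ : ∀ pq : ℤ × ℤ, pq.1 < 0 ∨ pq.2 < 0 → IsZero (E₀ pq)) :
    ∃ (E : CohomologicalSpectralSequence B 1) (a : SpSeq.Abutment E H'),
      (∀ n, a.IsFinite n) ∧ SpSeq.IsBounded E ∧
        ∀ pq, Nonempty ((E.page 1 le_rfl).X pq ≅ E₀ pq) :=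
  (quarterCouple T hT Z G f g w hS).exists_ss H' eH hH' E₀ eE hE₀

/-! ### The version for a complex exact in positive degrees -/

section Complex

variable (K : CochainComplex A ℕ)

@[reassoc (attr := simp)]
lemma iCycles_toCycles (p : ℕ) : K.iCycles p ≫ K.toCycles p (p + 1) = 0 := by
  rw [← cancel_mono (K.iCycles (p + 1)), Category.assoc, K.toCycles_i, K.iCycles_d, zero_comp]

/-- the short complex `Z^p → K^p → Z^{p+1}` -/
noncomputable abbrev ses (p : ℕ) : ShortComplex A :=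
  ShortComplex.mk (K.iCycles p) (K.toCycles p (p + 1)) (iCycles_toCycles K p)

lemma ses_shortExact (p : ℕ) (h : K.ExactAt (p + 1)) : (ses K p).ShortExact where
  exact := by
    refine ShortComplex.exact_of_f_is_kernel _ (KernelFork.IsLimit.ofι' _ _ (fun {W} k hk => ?_))
    have hk' : k ≫ K.d p (p + 1) = 0 := by
      have : k ≫ K.toCycles p (p + 1) = 0 := hk
      rw [← K.toCycles_i p (p + 1), ← Category.assoc, this, zero_comp]
    exact ⟨K.liftCycles k (p + 1) (by simp) hk', K.liftCycles_i _ _ _ _⟩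
  mono_f := inferInstanceAs (Mono (K.iCycles p))
  epi_g := by
    rw [HomologicalComplex.exactAt_iff_isZero_homology] at h
    have hex : (ShortComplex.mk (K.toCycles p (p + 1)) (K.homologyπ (p + 1))
        (K.toCycles_comp_homologyπ p (p + 1))).Exact :=
      ShortComplex.exact_of_g_is_cokernel _ (K.homologyIsCokernel p (p + 1) (by simp))
    exact hex.epi_f (h.eq_of_tgt _ _)

include hT in
/-- **The `E₁` spectral sequence of a complex exact in positive degrees**: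
`E₁^{p,q} = T^q(K^p) ⇒ T^{p+q}(Z^0 K)`. -/
theorem complex_ss (hK : ∀ n : ℕ, K.ExactAt (n + 1))
    (H' : ℤ → B) (eH : ∀ n : ℕ, Nonempty ((T.F n).obj (K.cycles 0) ≅ H' (n : ℤ)))
    (hH' : ∀ n : ℤ, n < 0 → IsZero (H' n))
    (E₀ : ℤ × ℤ → B) (eE : ∀ (p q : ℕ), Nonempty ((T.F q).obj (K.X p) ≅ E₀ ((p : ℤ), (q : ℤ))))
    (hE₀ : ∀ pq : ℤ × ℤ, pq.1 < 0 ∨ pq.2 < 0 → IsZero (E₀ pq)) :
    ∃ (E : CohomologicalSpectralSequence B 1) (a : SpSeq.Abutment E H'),
      (∀ n, a.IsFinite n) ∧ SpSeq.IsBounded E ∧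
        ∀ pq, Nonempty ((E.page 1 le_rfl).X pq ≅ E₀ pq) :=
  resolution_ss T hT (fun p => K.cycles p) (fun p => K.X p) (fun p => K.iCycles p)
    (fun p => K.toCycles p (p + 1)) (iCycles_toCycles K) (fun p => ses_shortExact K p (hK p))
    H' eH hH' E₀ eE hE₀

end Complex

end Groth.Agent.Lib.Helper33.ResolutionSS
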