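import Groth.Agent.Lib.Helper30.SheafHomSections
import Groth.Agent.Lib.Helper30.ExtZeroFlat
import Groth.Agent.Lib.Helper30.ModTensorAdj
import Groth.Prelude.Def_ExtSupp

/-!
# Sectionwise exactness of `0 ⟶ ℋom(F'', I) ⟶ ℋom(F, I) ⟶ ℋom(F', I) ⟶ 0` for injective `I`
(helper33)

On a ringed site `(C, J, O)`: sections of `ℋom_O(M, N)` over `V` are the maps
`j_{V!} O_V ⊗ M ⟶ N`, naturally in `M`; since `j_{V!} O_V` is flat, for a short exact sequence
`0 ⟶ F' ⟶ F ⟶ F'' ⟶ 0` and an injective module `I` the sequence of sections over `V` of the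
internal homs into `I` is short exact.
-/

set_option autoImplicit false

universe u

open CategoryTheory CategoryTheory.Limits Opposite

namespace Groth.Agent.Lib.Helper33.SheafHomExact

open Groth.Agent.Lib.Helper30.ModSiteFree Groth.Agent.Lib.Helper30.ExtZero
  Groth.Agent.Lib.Helper30.ModTensorAdj

variable {C : Type u} [SmallCategory C] {J : GrothendieckTopology C} (O : Sheaf J CommRingCat.{u})

section Conjugate

variable {A B : Type*} [Category A] [Category B] {L L' : A ⥤ B} {R R' : B ⥤ A}
  (adj : L ⊣ R) (adj' : L' ⊣ R') (α : L' ⟶ L)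

lemma homEquiv_symm_comp_conjugate {T : A} {N : B} (φ : T ⟶ R.obj N) :
    (adj'.homEquiv T N).symm (φ ≫ (conjugateEquiv adj adj' α).app N) =
      α.app T ≫ (adj.homEquiv T N).symm φ := by
  rw [Adjunction.homEquiv_counit, Adjunction.homEquiv_counit, Functor.map_comp, Category.assoc,
    conjugateEquiv_counit, ← Category.assoc, α.naturality, Category.assoc]

end Conjugate

/-- sections of `ℋom(M, N)` over `V` as maps `j_{V!} O_V ⊗ M ⟶ N` -/
noncomputable def sectHomEquiv (M N : ModSite.Mod O) [ModSite.HasSheafHom M] (V : C) :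
    ModSite.sect ((ModSite.sheafHom M).obj N) V ≃
      (((ModSite.tensorBi O).flip.obj M).obj (ModSite.freeOn O V) ⟶ N) :=
  (freeOnHomEquiv O V _).symm.trans ((ModSite.sheafHomAdj M).homEquiv _ _).symm

lemma freeOnHomEquiv_symm_app (V : C) {F F' : ModSite.Mod O} (g : F ⟶ F')
    (x : F.val.obj (op V)) :
    (freeOnHomEquiv O V F').symm (g.val.app (op V) x) = (freeOnHomEquiv O V F).symm x ≫ g := by
  apply (freeOnHomEquiv O V F').injective
  rw [Equiv.apply_symm_apply, freeOnHomEquiv_comp, Equiv.apply_symm_apply]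

lemma sectHomEquiv_naturality {M M' : ModSite.Mod O} [ModSite.HasSheafHom M]
    [ModSite.HasSheafHom M'] (g : M' ⟶ M) (N : ModSite.Mod O) (V : C)
    (x : ModSite.sect ((ModSite.sheafHom M).obj N) V) :
    sectHomEquiv O M' N V (((ExtSupp.sheafHomMap g).app N).val.app (op V) x) =
      ((ModSite.tensorBi O).flip.map g).app (ModSite.freeOn O V) ≫ sectHomEquiv O M N V x := by
  unfold sectHomEquiv
  simp only [Equiv.trans_apply]
  rw [freeOnHomEquiv_symm_app]
  exact homEquiv_symm_comp_conjugate _ _ _ _


/-- additive version of `sectHomEquiv` -/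
noncomputable def sectHomAddEquiv (M N : ModSite.Mod O) [ModSite.HasSheafHom M] (V : C) :
    ModSite.sect ((ModSite.sheafHom M).obj N) V ≃+
      (((ModSite.tensorBi O).flip.obj M).obj (ModSite.freeOn O V) ⟶ N) :=
  (freeOnHomAddEquiv O V ((ModSite.sheafHom M).obj N)).symm.trans
    ((ModSite.sheafHomAdj M).homAddEquiv (ModSite.freeOn O V) N).symm

lemma sectHomAddEquiv_apply (M N : ModSite.Mod O) [ModSite.HasSheafHom M] (V : C)
    (x : ModSite.sect ((ModSite.sheafHom M).obj N) V) :
    sectHomAddEquiv O M N V x = sectHomEquiv O M N V x := rfl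

section Exact

variable {O}
variable (S : ShortComplex (ModSite.Mod O)) (hS : S.ShortExact)
  [ModSite.HasSheafHom S.X₁] [ModSite.HasSheafHom S.X₂] [ModSite.HasSheafHom S.X₃]
  (I : ModSite.Mod O) [Injective I] (V : C)

omit [ModSite.HasSheafHom S.X₁] [ModSite.HasSheafHom S.X₂] [ModSite.HasSheafHom S.X₃] in
include hS in
/-- the short exact sequence `j_{V!} O_V ⊗ S` -/
lemma shortExact_tensor :
    (S.map ((ModSite.tensorBi O).obj (ModSite.freeOn O V))).ShortExact := by
  obtain ⟨h1, h2⟩ := isFlat_freeOn O V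
  have : PreservesFiniteLimits ((ModSite.tensorBi O).obj (ModSite.freeOn O V)) :=
    preservesFiniteLimits_of_natIso (tensorBiSymm O (ModSite.freeOn O V)).symm
  have : PreservesFiniteColimits ((ModSite.tensorBi O).obj (ModSite.freeOn O V)) :=
    preservesFiniteColimits_of_natIso (tensorBiSymm O (ModSite.freeOn O V)).symm
  exact hS.map_of_exact _

omit [Injective I] in
include hS in
theorem sheafHomMap_g_injective :
    Function.Injective (((ExtSupp.sheafHomMap S.g).app I).val.app (op V)) := by
  intro x x' h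
  have hT := shortExact_tensor S hS V
  have : Epi (((ModSite.tensorBi O).obj (ModSite.freeOn O V)).map S.g) := hT.epi_g
  have h1 := congrArg (sectHomEquiv O S.X₂ I V) h
  rw [sectHomEquiv_naturality, sectHomEquiv_naturality] at h1
  have h2 : sectHomEquiv O S.X₃ I V x = sectHomEquiv O S.X₃ I V x' :=
    (cancel_epi (((ModSite.tensorBi O).obj (ModSite.freeOn O V)).map S.g)).mp h1
  exact (sectHomEquiv O S.X₃ I V).injective h2

omit [Injective I] in
include hS in
theorem sheafHomMap_exact (y : ModSite.sect ((ModSite.sheafHom S.X₂).obj I) V)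
    (hy : ((ExtSupp.sheafHomMap S.f).app I).val.app (op V) y = 0) :
    ∃ x : ModSite.sect ((ModSite.sheafHom S.X₃).obj I) V,
      ((ExtSupp.sheafHomMap S.g).app I).val.app (op V) x = y := by
  have hT := shortExact_tensor S hS V
  have : Epi (((ModSite.tensorBi O).obj (ModSite.freeOn O V)).map S.g) := hT.epi_g
  have h1 := congrArg (sectHomEquiv O S.X₁ I V) hy
  rw [sectHomEquiv_naturality, ← sectHomAddEquiv_apply O S.X₁ I V 0, map_zero] at h1
  have : Epi (S.map ((ModSite.tensorBi O).obj (ModSite.freeOn O V))).g := hT.epi_g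
  refine ⟨(sectHomEquiv O S.X₃ I V).symm (hT.exact.desc (sectHomEquiv O S.X₂ I V y) h1), ?_⟩
  apply (sectHomEquiv O S.X₂ I V).injective
  rw [sectHomEquiv_naturality, Equiv.apply_symm_apply]
  exact hT.exact.g_desc _ _

include hS in
theorem sheafHomMap_f_surjective :
    Function.Surjective (((ExtSupp.sheafHomMap S.f).app I).val.app (op V)) := by
  intro z
  have hT := shortExact_tensor S hS V
  have : Mono (((ModSite.tensorBi O).flip.map S.f).app (ModSite.freeOn O V)) := hT.mono_f
  refine ⟨(sectHomEquiv O S.X₂ I V).symm (Injective.factorThru (sectHomEquiv O S.X₁ I V z)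
    (((ModSite.tensorBi O).flip.map S.f).app (ModSite.freeOn O V))), ?_⟩
  apply (sectHomEquiv O S.X₁ I V).injective
  rw [sectHomEquiv_naturality, Equiv.apply_symm_apply]
  exact Injective.comp_factorThru _ _

end Exact

end Groth.Agent.Lib.Helper33.SheafHomExact
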