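import Mathlib.Algebra.Homology.Refinements
import Mathlib.Algebra.Homology.QuasiIso
import Mathlib.Algebra.Category.Grp.Abelian
import Mathlib.Algebra.Category.Grp.EpiMono
import Mathlib.AlgebraicTopology.DoldKan.PInfty
import Mathlib.AlgebraicTopology.AlternatingFaceMapComplex
import Groth.Agent.Lib.Helper33.Moore

set_option autoImplicit false
universe u
open CategoryTheory

namespace Groth.Agent.Lib.Helper33

section

variable {K L : ChainComplex AddCommGrpCat.{u} ℕ} (φ : K ⟶ L) [QuasiIso φ]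

/-- Element-level injectivity on homology: a cycle killed by `φ` is a boundary. -/
lemma quasiIso_boundary_of_cycle (m : ℕ) (c : K.X m)
    (hc : (K.d m ((ComplexShape.down ℕ).next m)).hom c = 0) (hφ : (φ.f m).hom c = 0) :
    ∃ u : K.X (m + 1), (K.d (m + 1) m).hom u = c := by
  have hmono : Mono (HomologicalComplex.homologyMap φ m) := inferInstance
  rw [HomologicalComplex.mono_homologyMap_iff_up_to_refinements φ (m + 1) m _
    (ChainComplex.prev ℕ m) rfl] at hmono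
  let H : AddSubgroup (K.X m) := (K.d m ((ComplexShape.down ℕ).next m)).hom.ker ⊓ (φ.f m).hom.ker
  let x₂ : AddCommGrpCat.of H ⟶ K.X m := AddCommGrpCat.ofHom H.subtype
  obtain ⟨A', π, hπ, x₁, hx₁⟩ := hmono x₂ (by
    ext ⟨a, ha⟩
    exact ha.1) 0 (by
    ext ⟨a, ha⟩
    simp only [ConcreteCategory.comp_apply, Limits.zero_comp]
    exact ha.2)
  rw [AddCommGrpCat.epi_iff_surjective] at hπ
  obtain ⟨a', ha'⟩ := hπ ⟨c, ⟨hc, hφ⟩⟩
  refine ⟨x₁.hom a', ?_⟩
  have := ConcreteCategory.congr_hom hx₁ a'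
  simp only [ConcreteCategory.comp_apply] at this
  erw [ha'] at this
  exact this.symm

/-- Element-level surjectivity on homology: a cycle downstairs is, up to a boundary,
the image of a cycle upstairs. -/
lemma quasiIso_cycle_lift (m : ℕ) (y : L.X (m + 1)) (hy : (L.d (m + 1) m).hom y = 0) :
    ∃ (u' : K.X (m + 1)) (y'' : L.X (m + 2)), (K.d (m + 1) m).hom u' = 0 ∧
      y = (φ.f (m + 1)).hom u' + (L.d (m + 2) (m + 1)).hom y'' := by
  have hepi : Epi (HomologicalComplex.homologyMap φ (m + 1)) := inferInstance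
  rw [HomologicalComplex.epi_homologyMap_iff_up_to_refinements φ (m + 2) (m + 1) m
    (ChainComplex.prev ℕ (m + 1)) (ChainComplex.next_nat_succ m)] at hepi
  let H : AddSubgroup (L.X (m + 1)) := (L.d (m + 1) m).hom.ker
  let y₂ : AddCommGrpCat.of H ⟶ L.X (m + 1) := AddCommGrpCat.ofHom H.subtype
  obtain ⟨A', π, hπ, x₂, hx₂, y₁, h⟩ := hepi y₂ (by
    ext ⟨a, ha⟩
    exact ha)
  rw [AddCommGrpCat.epi_iff_surjective] at hπ
  obtain ⟨a', ha'⟩ := hπ ⟨y, hy⟩
  refine ⟨x₂.hom a', y₁.hom a', ?_, ?_⟩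
  · exact ConcreteCategory.congr_hom hx₂ a'
  · have := ConcreteCategory.congr_hom h a'
    simp only [ConcreteCategory.comp_apply] at this
    erw [ha'] at this
    exact this

end

section

open AlgebraicTopology AlgebraicTopology.DoldKan Simplicial Opposite DoldKan

variable {X Y : SimplicialObject AddCommGrpCat.{u}} (f : X ⟶ Y)
  (hf : ∀ n : ℕ, Function.Surjective (f.app (op ⦋n⦌)).hom)
  [QuasiIso (AlternatingFaceMapComplex.map f)]

include hf in
lemma sphere_kernel_aux (m : ℕ) (c : X _⦋m⦌) (hfc : (f.app (op ⦋m⦌)).hom c = 0)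
    (hcyc : (K[X].d m ((ComplexShape.down ℕ).next m)).hom c = 0)
    (hP : ((PInfty : K[X] ⟶ K[X]).f m).hom c = c) :
    ∃ v : X _⦋m + 1⦌, (f.app (op ⦋m + 1⦌)).hom v = 0 ∧ (X.δ 0).hom v = c ∧
      ∀ j : Fin (m + 1), (X.δ j.succ).hom v = 0 := by
  obtain ⟨u, hu⟩ := quasiIso_boundary_of_cycle (AlternatingFaceMapComplex.map f) m c hcyc hfc
  have hcomm : ∀ (a b : ℕ) (x : X _⦋a⦌), (K[Y].d a b).hom ((f.app (op ⦋a⦌)).hom x) =
      (f.app (op ⦋b⦌)).hom ((K[X].d a b).hom x) := fun a b x =>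
    ConcreteCategory.congr_hom ((AlternatingFaceMapComplex.map f).comm a b) x
  have hfu : (K[Y].d (m + 1) m).hom ((f.app (op ⦋m + 1⦌)).hom u) = 0 := by
    rw [hcomm, hu, hfc]
  obtain ⟨u', y'', hu', hy⟩ := quasiIso_cycle_lift (AlternatingFaceMapComplex.map f) m _ hfu
  obtain ⟨x'', hx''⟩ := hf (m + 2) y''
  let v₀ : X _⦋m + 1⦌ := u - u' - (K[X].d (m + 2) (m + 1)).hom x''
  have hfv₀ : (f.app (op ⦋m + 1⦌)).hom v₀ = 0 := by
    have h1 : (f.app (op ⦋m + 1⦌)).hom ((K[X].d (m + 2) (m + 1)).hom x'') =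
        (K[Y].d (m + 2) (m + 1)).hom y'' := by
      rw [← hcomm, hx'']
    simp only [v₀, map_sub, h1]
    rw [hy]
    erw [AlternatingFaceMapComplex.map_f]
    rw [add_sub_cancel_left, sub_self]
  have hdd : (K[X].d (m + 1) m).hom ((K[X].d (m + 2) (m + 1)).hom x'') = 0 :=
    ConcreteCategory.congr_hom (K[X].d_comp_d (m + 2) (m + 1) m) x''
  have hdv₀ : (K[X].d (m + 1) m).hom v₀ = c := by
    simp only [v₀, map_sub, hu, hu', hdd, sub_zero]
  let v : X _⦋m + 1⦌ := ((PInfty : K[X] ⟶ K[X]).f (m + 1)).hom v₀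
  have hfv : (f.app (op ⦋m + 1⦌)).hom v = 0 := by
    have := ConcreteCategory.congr_hom (PInfty_f_naturality (m + 1) f) v₀
    simp only [ConcreteCategory.comp_apply] at this
    erw [hfv₀, map_zero] at this
    exact this.symm
  have hhigher : ∀ j : Fin (m + 1), (X.δ j.succ).hom v = 0 := by
    intro j
    have h1 := (HigherFacesVanish.of_P (X := X) (m + 1) m) j le_add_self
    rw [← PInfty_f] at h1
    exact ConcreteCategory.congr_hom h1 v₀
  have hdv : (K[X].d (m + 1) m).hom v = c := by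
    have := ConcreteCategory.congr_hom ((PInfty : K[X] ⟶ K[X]).comm (m + 1) m) v₀
    simp only [ConcreteCategory.comp_apply] at this
    erw [hdv₀, hP] at this
    exact this
  refine ⟨v, hfv, ?_, hhigher⟩
  rw [← hdv, AlternatingFaceMapComplex.obj_d_eq]
  have hsum : ∀ (s : Finset (Fin (m + 2))) (g : Fin (m + 2) → (X _⦋m + 1⦌ ⟶ X _⦋m⦌)),
      (∑ i ∈ s, g i).hom v = ∑ i ∈ s, (g i).hom v := by
    intro s g
    have : (∑ i ∈ s, g i).hom = ∑ i ∈ s, (g i).hom :=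
      map_sum (AddCommGrpCat.homAddEquiv (M := X _⦋m + 1⦌) (N := X _⦋m⦌)) g s
    rw [this, AddMonoidHom.finsetSum_apply]
  rw [hsum, Fin.sum_univ_succ]
  simp only [AddCommGrpCat.hom_zsmul, AddMonoidHom.smul_apply, hhigher, smul_zero,
    Finset.sum_const_zero, add_zero, Fin.val_zero, pow_zero, one_smul]

include hf in
lemma sphere_kernel_zero (c : X _⦋0⦌) (hfc : (f.app (op ⦋0⦌)).hom c = 0) :
    ∃ v : X _⦋1⦌, (f.app (op ⦋1⦌)).hom v = 0 ∧ (X.δ 0).hom v = c ∧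
      ∀ j : Fin 1, (X.δ j.succ).hom v = 0 := by
  refine sphere_kernel_aux f hf 0 c hfc ?_ ?_
  · rw [K[X].shape 0 _ (by simp)]
    rfl
  · rw [PInfty_f_0]
    rfl

lemma hom_sum_apply {M N : AddCommGrpCat.{u}} {ι : Type*} (s : Finset ι) (g : ι → (M ⟶ N))
    (v : M) : (∑ i ∈ s, g i).hom v = ∑ i ∈ s, (g i).hom v := by
  have : (∑ i ∈ s, g i).hom = ∑ i ∈ s, (g i).hom :=
    map_sum (AddCommGrpCat.homAddEquiv (M := M) (N := N)) g s
  rw [this, AddMonoidHom.finsetSum_apply]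

include hf in
lemma sphere_kernel_succ (m : ℕ) (c : X _⦋m + 1⦌) (hfc : (f.app (op ⦋m + 1⦌)).hom c = 0)
    (hc : ∀ i : Fin (m + 2), (X.δ i).hom c = 0) :
    ∃ v : X _⦋m + 2⦌, (f.app (op ⦋m + 2⦌)).hom v = 0 ∧ (X.δ 0).hom v = c ∧
      ∀ j : Fin (m + 2), (X.δ j.succ).hom v = 0 := by
  refine sphere_kernel_aux f hf (m + 1) c hfc ?_ ?_
  · rw [ChainComplex.next_nat_succ, AlternatingFaceMapComplex.obj_d_eq, hom_sum_apply]
    simp only [AddCommGrpCat.hom_zsmul, AddMonoidHom.smul_apply, hc, smul_zero,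
      Finset.sum_const_zero]
  · let H : AddSubgroup (X _⦋m + 1⦌) := ⨅ j : Fin (m + 1), (X.δ j.succ).hom.ker
    let φ : AddCommGrpCat.of H ⟶ X _⦋m + 1⦌ := AddCommGrpCat.ofHom H.subtype
    have hφ : HigherFacesVanish (m + 1) φ := by
      intro j _
      ext ⟨a, ha⟩
      exact (AddSubgroup.mem_iInf.1 ha) j
    have h1 := hφ.comp_P_eq_self
    rw [← PInfty_f] at h1
    have hcH : c ∈ H := AddSubgroup.mem_iInf.2 (fun j => hc j.succ)
    exact ConcreteCategory.congr_hom h1 ⟨c, hcH⟩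

include hf in
/-- Relative sphere filling, dimension one. -/
theorem exists_sphere_filler_zero (xs : Fin 2 → X _⦋0⦌) (y : Y _⦋1⦌)
    (hxy : ∀ j, (f.app (op ⦋0⦌)).hom (xs j) = (Y.δ j).hom y) :
    ∃ x : X _⦋1⦌, (f.app (op ⦋1⦌)).hom x = y ∧ ∀ j, (X.δ j).hom x = xs j := by
  obtain ⟨x₁, hx₁, hx₁'⟩ := SGrp.exists_filler_zero (hf 1) 0 xs y (fun j _ => hxy j)
  let c : X _⦋0⦌ := xs 0 - (X.δ 0).hom x₁
  have hfc : (f.app (op ⦋0⦌)).hom c = 0 := by
    simp only [c]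
    rw [map_sub, hxy, SGrp.f_δ, hx₁, sub_self]
  obtain ⟨v, hv1, hv2, hv3⟩ := sphere_kernel_zero f hf c hfc
  refine ⟨x₁ + v, by rw [map_add, hx₁, hv1, add_zero], fun j => ?_⟩
  rcases Fin.eq_zero_or_eq_succ j with rfl | ⟨j', rfl⟩
  · rw [map_add, hv2]
    simp only [c]
    abel
  · rw [map_add, hv3, add_zero, hx₁' _ (Fin.succ_ne_zero _)]

include hf in
/-- Relative sphere filling, higher dimensions. -/
theorem exists_sphere_filler_succ (m : ℕ) (xs : Fin (m + 3) → X _⦋m + 1⦌) (y : Y _⦋m + 2⦌)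
    (hxy : ∀ j, (f.app (op ⦋m + 1⦌)).hom (xs j) = (Y.δ j).hom y)
    (compat : ∀ (j l : Fin (m + 3)) (hjl : j < l),
      (X.δ (l.pred (Fin.ne_zero_of_lt hjl))).hom (xs j) =
        (X.δ (j.castPred (Fin.ne_last_of_lt hjl))).hom (xs l)) :
    ∃ x : X _⦋m + 2⦌, (f.app (op ⦋m + 2⦌)).hom x = y ∧ ∀ j, (X.δ j).hom x = xs j := by
  obtain ⟨x₁, hx₁, hx₁'⟩ := SGrp.exists_filler_succ (hf (m + 2)) 0 xs y (fun j _ => hxy j)
    (fun j l _ _ hjl => compat j l hjl)
  let c : X _⦋m + 1⦌ := xs 0 - (X.δ 0).hom x₁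
  have hfc : (f.app (op ⦋m + 1⦌)).hom c = 0 := by
    simp only [c]
    rw [map_sub, hxy, SGrp.f_δ, hx₁, sub_self]
  have hc : ∀ i : Fin (m + 2), (X.δ i).hom c = 0 := by
    intro i
    simp only [c]
    have h1 := compat 0 i.succ (Fin.succ_pos i)
    simp only [Fin.pred_succ, Fin.castPred_zero] at h1
    have h2 := ConcreteCategory.congr_hom (X.δ_comp_δ (i := 0) (j := i) (Fin.zero_le _)) x₁
    simp only [ConcreteCategory.comp_apply, Fin.castSucc_zero] at h2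
    rw [map_sub, h1]
    erw [← h2, hx₁' _ (Fin.succ_ne_zero _)]
    rw [sub_self]
  obtain ⟨v, hv1, hv2, hv3⟩ := sphere_kernel_succ f hf m c hfc hc
  refine ⟨x₁ + v, by rw [map_add, hx₁, hv1, add_zero], fun j => ?_⟩
  rcases Fin.eq_zero_or_eq_succ j with rfl | ⟨j', rfl⟩
  · rw [map_add, hv2]
    simp only [c]
    abel
  · rw [map_add, hv3, add_zero, hx₁' _ (Fin.succ_ne_zero _)]

end

end Groth.Agent.Lib.Helper33
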