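import Mathlib.CategoryTheory.Abelian.Refinements
import Mathlib.Algebra.Homology.ShortComplex.ShortExact

/-!
# The 3×3 lemma (cokernel row) in an abelian category (helper33)

Given a morphism `v : R ⟶ S` of short exact sequences with `v.τ₃` a monomorphism, and a short
complex `T` with a morphism `p : S ⟶ T` exhibiting each `T.X_k` as the cokernel of `v.τ_k`
(in the form: `p.τ_k` is an epimorphism and `v.τ_k, p.τ_k` is exact), `T` is short exact.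
Also: a biproduct of exact-and-epi pairs is exact-and-epi.
-/

set_option autoImplicit false

universe v u

open CategoryTheory CategoryTheory.Limits

namespace Groth.Agent.Lib.Helper33.ThreeByThree

variable {C : Type u} [Category.{v} C] [Abelian C]

/-- **The 3×3 lemma**, cokernel row. -/
theorem shortExact_of_cokernels {R S T : ShortComplex C} (hR : R.ShortExact) (hS : S.ShortExact)
    (v : R ⟶ S) (p : S ⟶ T) [Mono v.τ₃] [Epi p.τ₁] [Epi p.τ₂]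
    (w₂ : v.τ₂ ≫ p.τ₂ = 0) (w₃ : v.τ₃ ≫ p.τ₃ = 0) (w₁ : v.τ₁ ≫ p.τ₁ = 0)
    (h₂ : (ShortComplex.mk v.τ₂ p.τ₂ w₂).Exact) (h₃ : (ShortComplex.mk v.τ₃ p.τ₃ w₃).Exact)
    [Epi p.τ₃] : T.ShortExact := by
  have := hR.epi_g
  have := hS.epi_g
  have := hS.mono_f
  have hv₁₂ : v.τ₁ ≫ S.f = R.f ≫ v.τ₂ := v.comm₁₂
  have hv₂₃ : v.τ₂ ≫ S.g = R.g ≫ v.τ₃ := v.comm₂₃
  have hp₁₂ : p.τ₁ ≫ T.f = S.f ≫ p.τ₂ := p.comm₁₂
  have hp₂₃ : p.τ₂ ≫ T.g = S.g ≫ p.τ₃ := p.comm₂₃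
  refine { exact := ?_, mono_f := ?_, epi_g := ?_ }
  · -- exactness at `T.X₂`
    rw [ShortComplex.exact_iff_exact_up_to_refinements]
    intro A t ht
    obtain ⟨A₁, π₁, hπ₁, b₂, e₁⟩ := surjective_up_to_refinements_of_epi p.τ₂ t
    have z₁ : (b₂ ≫ S.g) ≫ p.τ₃ = 0 := by
      rw [Category.assoc, ← hp₂₃, ← Category.assoc, ← e₁, Category.assoc, ht, comp_zero]
    obtain ⟨A₂, π₂, hπ₂, a₃, e₂⟩ := h₃.exact_up_to_refinements (b₂ ≫ S.g) z₁
    obtain ⟨A₃, π₃, hπ₃, a₂, e₃⟩ := surjective_up_to_refinements_of_epi R.g a₃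
    have z₂ : (π₃ ≫ π₂ ≫ b₂ - a₂ ≫ v.τ₂) ≫ S.g = 0 := by
      rw [Preadditive.sub_comp, Category.assoc, Category.assoc, Category.assoc, hv₂₃]
      dsimp at e₂
      rw [e₂, ← Category.assoc a₂, ← e₃, Category.assoc, sub_self]
    obtain ⟨A₄, π₄, hπ₄, b₁, e₄⟩ := hS.exact.exact_up_to_refinements _ z₂
    refine ⟨A₄, π₄ ≫ π₃ ≫ π₂ ≫ π₁, inferInstance, b₁ ≫ p.τ₁, ?_⟩
    have e₅ : π₄ ≫ π₃ ≫ π₂ ≫ b₂ = b₁ ≫ S.f + π₄ ≫ a₂ ≫ v.τ₂ := by
      rw [← e₄, Preadditive.comp_sub, sub_add_cancel]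
    calc (π₄ ≫ π₃ ≫ π₂ ≫ π₁) ≫ t = π₄ ≫ π₃ ≫ π₂ ≫ (π₁ ≫ t) := by simp only [Category.assoc]
      _ = (π₄ ≫ π₃ ≫ π₂ ≫ b₂) ≫ p.τ₂ := by rw [e₁]; simp only [Category.assoc]
      _ = (b₁ ≫ S.f + π₄ ≫ a₂ ≫ v.τ₂) ≫ p.τ₂ := by rw [e₅]
      _ = (b₁ ≫ p.τ₁) ≫ T.f := by
        rw [Preadditive.add_comp, Category.assoc, Category.assoc, Category.assoc, w₂, comp_zero,
          comp_zero, add_zero, Category.assoc, hp₁₂]
  · -- `T.f` is a monomorphism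
    apply Preadditive.mono_of_cancel_zero
    intro A s hs
    obtain ⟨A₁, π₁, hπ₁, b₁, e₁⟩ := surjective_up_to_refinements_of_epi p.τ₁ s
    have z₁ : (b₁ ≫ S.f) ≫ p.τ₂ = 0 := by
      rw [Category.assoc, ← hp₁₂, ← Category.assoc, ← e₁, Category.assoc, hs, comp_zero]
    obtain ⟨A₂, π₂, hπ₂, a₂, e₂⟩ := h₂.exact_up_to_refinements (b₁ ≫ S.f) z₁
    dsimp at e₂
    have z₂ : a₂ ≫ R.g = 0 := by
      rw [← cancel_mono v.τ₃, Category.assoc, ← hv₂₃, ← Category.assoc, ← e₂, zero_comp,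
        Category.assoc, Category.assoc, S.zero, comp_zero, comp_zero]
    obtain ⟨A₃, π₃, hπ₃, a₁, e₃⟩ := hR.exact.exact_up_to_refinements a₂ z₂
    have e₄ : π₃ ≫ π₂ ≫ b₁ = a₁ ≫ v.τ₁ := by
      rw [← cancel_mono S.f, Category.assoc, Category.assoc, e₂, ← Category.assoc, e₃,
        Category.assoc, Category.assoc, hv₁₂]
    have e₅ : (π₃ ≫ π₂ ≫ π₁) ≫ s = 0 := by
      calc (π₃ ≫ π₂ ≫ π₁) ≫ s = π₃ ≫ π₂ ≫ (π₁ ≫ s) := by simp only [Category.assoc]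
        _ = (π₃ ≫ π₂ ≫ b₁) ≫ p.τ₁ := by rw [e₁]; simp only [Category.assoc]
        _ = 0 := by rw [e₄, Category.assoc, w₁, comp_zero]
    exact (cancel_epi (π₃ ≫ π₂ ≫ π₁)).1 (e₅.trans comp_zero.symm)
  · -- `T.g` is an epimorphism
    have h : Epi (p.τ₂ ≫ T.g) := by
      rw [hp₂₃]
      infer_instance
    exact epi_of_epi p.τ₂ T.g

/-- a biproduct of exact sequences is exact -/
theorem exact_biprod_map {A A' B B' D D' : C} (f : A ⟶ B) (g : B ⟶ D) (f' : A' ⟶ B')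
    (g' : B' ⟶ D') (w : f ≫ g = 0) (w' : f' ≫ g' = 0) (h : (ShortComplex.mk f g w).Exact)
    (h' : (ShortComplex.mk f' g' w').Exact) :
    (ShortComplex.mk (biprod.map f f') (biprod.map g g') (by
      apply biprod.hom_ext
      · simp only [Category.assoc, biprod.map_fst, biprod.map_fst_assoc, w, comp_zero, zero_comp]
      · simp only [Category.assoc, biprod.map_snd, biprod.map_snd_assoc, w', comp_zero,
          zero_comp])).Exact := by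
  rw [ShortComplex.exact_iff_exact_up_to_refinements]
  intro X t ht
  dsimp at t ht ⊢
  have z₁ : (t ≫ biprod.fst) ≫ g = 0 := by
    have := congrArg (fun k => k ≫ biprod.fst) ht
    simpa using this
  have z₂ : (t ≫ biprod.snd) ≫ g' = 0 := by
    have := congrArg (fun k => k ≫ biprod.snd) ht
    simpa using this
  obtain ⟨X₁, π₁, hπ₁, a, e₁⟩ := h.exact_up_to_refinements _ z₁
  obtain ⟨X₂, π₂, hπ₂, a', e₂⟩ := h'.exact_up_to_refinements (π₁ ≫ t ≫ biprod.snd) (by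
    rw [Category.assoc, z₂, comp_zero])
  dsimp at e₁ e₂
  refine ⟨X₂, π₂ ≫ π₁, inferInstance, biprod.lift (π₂ ≫ a) a', ?_⟩
  ext
  · simp only [Category.assoc, biprod.map_fst, biprod.lift_fst_assoc]
    rw [e₁]
  · simp only [Category.assoc, biprod.map_snd, biprod.lift_snd_assoc]
    rw [e₂]

end Groth.Agent.Lib.Helper33.ThreeByThree
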