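import Groth.Prelude.Def_LocCohZ
import Groth.Agent.Lib.Helper33.ThreeByThree
import Mathlib.Topology.Sheaves.MayerVietoris

/-!
# The Mayer–Vietoris short exact sequence of the sheaves `ℤ_X/ℤ_U` (helper33)

`0 ⟶ ℤ_X/ℤ_{U ⊓ U'} ⟶ ℤ_X/ℤ_U ⊞ ℤ_X/ℤ_{U'} ⟶ ℤ_X/ℤ_{U ⊔ U'} ⟶ 0`.
-/

set_option autoImplicit false

universe u

open CategoryTheory CategoryTheory.Limits TopologicalSpace Opposite

namespace Groth.Agent.Lib.Helper33.ZqMV

section Generic

variable {C : Type*} [Category C] [Preadditive C] [HasBinaryBiproducts C]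

lemma splitting_id (M : C) :
    biprod.fst ≫ biprod.lift (𝟙 M) (-𝟙 M) + biprod.desc (𝟙 M) (𝟙 M) ≫ biprod.inr =
      𝟙 (M ⊞ M) := by
  apply biprod.hom_ext
  · simp
  · apply biprod.hom_ext'
    · simp
    · simp

lemma lift_neg_comm {Z A B Z' A' B' : C} (a : Z ⟶ A) (b : Z ⟶ B) (a' : Z' ⟶ A') (b' : Z' ⟶ B')
    (t : Z ⟶ Z') (f : A ⟶ A') (g : B ⟶ B') (h₁ : t ≫ a' = a ≫ f) (h₂ : t ≫ b' = b ≫ g) :
    t ≫ biprod.lift a' (-b') = biprod.lift a (-b) ≫ biprod.map f g := by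
  apply biprod.hom_ext <;> simp [h₁, h₂]

lemma desc_comm {A B W A' B' W' : C} (c : A ⟶ W) (d : B ⟶ W) (c' : A' ⟶ W') (d' : B' ⟶ W')
    (f : A ⟶ A') (g : B ⟶ B') (t : W ⟶ W') (h₁ : f ≫ c' = c ≫ t) (h₂ : g ≫ d' = d ≫ t) :
    biprod.map f g ≫ biprod.desc c' d' = biprod.desc c d ≫ t := by
  apply biprod.hom_ext' <;> simp [h₁, h₂]

lemma lift_neg_desc_zero {Z A B W : C} (a : Z ⟶ A) (b : Z ⟶ B) (c : A ⟶ W) (d : B ⟶ W)
    (h : a ≫ c = b ≫ d) : biprod.lift a (-b) ≫ biprod.desc c d = 0 := by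
  rw [biprod.lift_desc, Preadditive.neg_comp, h, add_neg_cancel]

end Generic

open LocCohZ

variable {X : TopCat.{u}} (U U' : Opens X)

/-- `ℤ_W` -/
noncomputable abbrev ZU (W : Opens X) : CohTop.Ab X :=
  CohCx.freeSheaf (Opens.grothendieckTopology X) W

/-- `ℤ_W ⟶ ℤ_V` -/
noncomputable abbrev ι {W V : Opens X} (h : W ≤ V) : ZU W ⟶ ZU V :=
  CohCx.freeSheafMap (Opens.grothendieckTopology X) (homOfLE h)

lemma ι_comp {W V T : Opens X} (h : W ≤ V) (h' : V ≤ T) : ι h ≫ ι h' = ι (h.trans h') := by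
  unfold ι
  rw [← CohFree.freeSheafMap_comp]
  rfl

lemma ι_refl (W : Opens X) : ι (le_refl W) = 𝟙 _ := by
  unfold ι
  rw [show homOfLE (le_refl W) = 𝟙 W from Subsingleton.elim _ _, CohFree.freeSheafMap_id]

/-- the quotient map `ℤ_X ⟶ ℤ_X/ℤ_W` -/
noncomputable abbrev πq (W : Opens X) : ZU (⊤ : Opens X) ⟶ zq (le_top : W ≤ ⊤) :=
  cokernel.π _

/-- the map `ℤ_X/ℤ_W ⟶ ℤ_X/ℤ_V` for `W ≤ V` -/
noncomputable abbrev q {W V : Opens X} (h : W ≤ V) : zq (le_top : W ≤ ⊤) ⟶ zq (le_top : V ≤ ⊤) :=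
  zqMap (le_top : V ≤ ⊤) (le_top : W ≤ ⊤) h le_rfl

@[reassoc]
lemma πq_q {W V : Opens X} (h : W ≤ V) : πq W ≫ q h = πq V := by
  simp only [q, LocCohZ.zqMap, cokernel.map, cokernel.π_desc]
  rw [show homOfLE (le_refl (⊤ : Opens X)) = 𝟙 _ from Subsingleton.elim _ _,
    CohFree.freeSheafMap_id]
  exact Category.id_comp _

lemma q_comp {W V T : Opens X} (h : W ≤ V) (h' : V ≤ T) : q h ≫ q h' = q (h.trans h') := by
  apply coequalizer.hom_ext
  rw [πq_q_assoc, πq_q, πq_q]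

/-- the split sequence `M ⟶ M ⊞ M ⟶ M` -/
noncomputable def splitSC (M : CohTop.Ab X) : ShortComplex (CohTop.Ab X) :=
  ShortComplex.mk (biprod.lift (𝟙 M) (-𝟙 M)) (biprod.desc (𝟙 M) (𝟙 M)) (by simp)

lemma splitSC_shortExact (M : CohTop.Ab X) : (splitSC M).ShortExact := by
  have s : (splitSC M).Splitting :=
    { r := biprod.fst
      s := biprod.inr
      f_r := by simp [splitSC]
      s_g := by simp [splitSC]
      id := splitting_id M }
  exact s.shortExact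

/-- the Mayer–Vietoris sequence of free sheaves -/
noncomputable def R : ShortComplex (CohTop.Ab X) :=
  ShortComplex.mk
    (biprod.lift (ι (inf_le_left : U ⊓ U' ≤ U)) (-ι (inf_le_right : U ⊓ U' ≤ U')))
    (biprod.desc (ι (le_sup_left : U ≤ U ⊔ U')) (ι (le_sup_right : U' ≤ U ⊔ U')))
    (lift_neg_desc_zero _ _ _ _ ((ι_comp _ _).trans (ι_comp _ _).symm))

lemma R_shortExact : (R U U').ShortExact :=
  (Opens.mayerVietorisSquare U U').shortComplex_shortExact

/-- the map of the Mayer–Vietoris sequence to the split sequence of `ℤ_X` -/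
noncomputable def v : R U U' ⟶ splitSC (ZU (⊤ : Opens X)) where
  τ₁ := ι le_top
  τ₂ := biprod.map (ι le_top) (ι le_top)
  τ₃ := ι le_top
  comm₁₂ := lift_neg_comm _ _ _ _ _ _ _
    ((Category.comp_id _).trans (ι_comp _ _).symm) ((Category.comp_id _).trans (ι_comp _ _).symm)
  comm₂₃ := desc_comm _ _ _ _ _ _ _
    ((Category.comp_id _).trans (ι_comp _ _).symm) ((Category.comp_id _).trans (ι_comp _ _).symm)

/-- the Mayer–Vietoris sequence of the quotients `ℤ_X/ℤ_W` -/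
noncomputable def T : ShortComplex (CohTop.Ab X) :=
  ShortComplex.mk
    (biprod.lift (q (inf_le_left : U ⊓ U' ≤ U)) (-q (inf_le_right : U ⊓ U' ≤ U')))
    (biprod.desc (q (le_sup_left : U ≤ U ⊔ U')) (q (le_sup_right : U' ≤ U ⊔ U')))
    (lift_neg_desc_zero _ _ _ _ ((q_comp _ _).trans (q_comp _ _).symm))

/-- the quotient map from the split sequence -/
noncomputable def p : splitSC (ZU (⊤ : Opens X)) ⟶ T U U' where
  τ₁ := πq (U ⊓ U')
  τ₂ := biprod.map (πq U) (πq U')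
  τ₃ := πq (U ⊔ U')
  comm₁₂ := lift_neg_comm _ _ _ _ _ _ _
    ((πq_q _).trans (Category.id_comp _).symm) ((πq_q _).trans (Category.id_comp _).symm)
  comm₂₃ := desc_comm _ _ _ _ _ _ _
    ((πq_q _).trans (Category.id_comp _).symm) ((πq_q _).trans (Category.id_comp _).symm)

/-- **The Mayer–Vietoris short exact sequence of the sheaves `ℤ_X/ℤ_W`.** -/
theorem T_shortExact : (T U U').ShortExact := by
  have hR : (R U U').ShortExact := R_shortExact U U'
  have hS := splitSC_shortExact (ZU (⊤ : Opens X))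
  have e : ∀ W : Opens X, (ShortComplex.mk (ι (le_top : W ≤ ⊤)) (πq W)
      (cokernel.condition _)).ShortExact := fun W => zqSeq_shortExact (le_top : W ≤ ⊤)
  have m3 : Mono (v U U').τ₃ := (e (U ⊔ U')).mono_f
  have e1 : Epi (p U U').τ₁ := (e (U ⊓ U')).epi_g
  have e2 : Epi (p U U').τ₂ := by
    have := (e U).epi_g
    have := (e U').epi_g
    exact inferInstanceAs (Epi (biprod.map (πq U) (πq U')))
  have e3 : Epi (p U U').τ₃ := (e (U ⊔ U')).epi_g
  refine ThreeByThree.shortExact_of_cokernels hR hS (v U U') (p U U') ?_ ?_ ?_ ?_ ?_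
  · exact (ShortComplex.mk _ _ (by
      apply biprod.hom_ext
      · simp only [Category.assoc, biprod.map_fst, biprod.map_fst_assoc, cokernel.condition,
          comp_zero, zero_comp]
      · simp only [Category.assoc, biprod.map_snd, biprod.map_snd_assoc, cokernel.condition,
          comp_zero, zero_comp] : biprod.map (ι (le_top : U ≤ ⊤)) (ι (le_top : U' ≤ ⊤)) ≫
            biprod.map (πq U) (πq U') = 0)).zero
  · exact cokernel.condition _
  · exact cokernel.condition _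
  · exact ThreeByThree.exact_biprod_map _ _ _ _ _ _ (e U).exact (e U').exact
  · exact (e (U ⊔ U')).exact

end Groth.Agent.Lib.Helper33.ZqMV
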